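import Groth.Agent.BMCoh.Point

/-!
# Finitely many points of one codimension in an open where their closures are disjoint

On such an open the union of the closures is a disjoint union of clopen pieces, and the groups of the
union are the sums of the groups of the pieces, through restriction and push-forward.
-/

set_option autoImplicit false
universe u

open Topology TopologicalSpace AlgebraicGeometry CategoryTheory Limits Opposite

namespace Groth.BMCohLib

variable {V : ObjectProperty Scheme.{u}} [BMCoh.IsConstructible V]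
variable {R : Type u} [CommRing R] {A : BMCoh.Coefs R} (T : BMCoh.PreTheory V R A)

theorem Piece.hom_ext {X : BMCoh.Obj V} {L : Set X.scheme} (P : Piece X L) {Y : BMCoh.Obj V}
    (g g' : Y ⟶ P.obj) (h : g.hom ≫ P.ι = g'.hom ≫ P.ι) : g = g' :=
  BMCoh.Hom.ext ((cancel_mono P.ι).1 h)

theorem push_congr {X Y : BMCoh.Obj V} {f f' : X.scheme ⟶ Y.scheme} (h : f = f') [IsProper f]
    [IsProper f'] (M : A.Cat) (i n i' n' : ℤ) (hi : i' = i + 2 * BMCoh.relCodim X.scheme Y.scheme)
    (hn : n' = n + BMCoh.relCodim X.scheme Y.scheme) :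
    T.push f M i n i' n' hi hn = T.push f' M i n i' n' hi hn := by
  subst h; rfl

/-- Restricting after pushing forward along the same open and closed piece is the identity. -/
theorem pull_push_self {X Y : BMCoh.Obj V} (f : X.scheme ⟶ Y.scheme) [IsProper f] [Mono f]
    (g : X ⟶ Y) (h : g.hom = f) (M : A.Cat) (i n : ℤ)
    (hi : i = i + 2 * BMCoh.relCodim X.scheme Y.scheme)
    (hn : n = n + BMCoh.relCodim X.scheme Y.scheme) (a : T.gp X M i n) :
    T.pull g M i n (T.push f M i n i n hi hn a) = a := by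
  subst h
  have hsq : IsPullback (𝟙 X : X ⟶ X).hom (𝟙 X.scheme) g.hom g.hom := IsKernelPair.id_of_mono g.hom
  have h0 : BMCoh.relCodim X.scheme X.scheme = 0 := sub_self _
  have h2 := congr(($(T.push_pull g.hom (𝟙 X.scheme) g (𝟙 X) hsq M i n i n hi hn
    (by rw [h0]; ring) (by rw [h0]; ring))) a)
  refine h2.trans ?_
  rw [T.push_id]
  exact pull_id_apply T M i n a

variable (X : BMCoh.Obj V)

/-- The points of `S` lie in `U`, have codimension `c`, and their closures are disjoint in `U`. -/
structure IsGood (c : ℕ) (U : X.scheme.Opens) (S : Finset X.scheme) : Prop where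
  mem : ∀ x ∈ S, x ∈ U
  codim : ∀ x ∈ S, WeilCoh.codim X.scheme x = c
  disj : ∀ x ∈ S, ∀ y ∈ S, x ≠ y → ∀ z ∈ U, z ∈ closure {x} → z ∉ closure {y}

theorem IsGood.mono {c : ℕ} {U U' : X.scheme.Opens} {S S' : Finset X.scheme} (h : IsGood X c U S)
    (hU : U' ≤ U) (hS : S' ⊆ S) (hmem : ∀ x ∈ S', x ∈ U') : IsGood X c U' S' :=
  ⟨hmem, fun x hx => h.codim x (hS hx),
    fun x hx y hy hne z hz => h.disj x (hS hx) y (hS hy) hne z (hU hz)⟩

/-- The union of the closures of the points of `S`. -/
def closuresOf (S : Finset X.scheme) : Closeds X.scheme :=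
  ⟨⋃ x ∈ S, closure {x}, isClosed_biUnion_finset fun _ _ => isClosed_closure⟩

theorem mem_closuresOf {S : Finset X.scheme} {z : X.scheme} :
    z ∈ (closuresOf X S : Set X.scheme) ↔ ∃ x ∈ S, z ∈ closure {x} := by
  simp [closuresOf]

/-- The piece `(⋃ closures) ∩ U`. -/
noncomputable def upiece (S : Finset X.scheme) (U : X.scheme.Opens) :
    Piece X ((closuresOf X S : Set X.scheme) ∩ U) :=
  (Piece.ofClosed X (closuresOf X S)).inter U

variable {X}

theorem IsGood.codim_le {c : ℕ} {U : X.scheme.Opens} {S : Finset X.scheme} (h : IsGood X c U S)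
    {z : X.scheme} (hz : z ∈ (closuresOf X S : Set X.scheme)) :
    c ≤ WeilCoh.codim X.scheme z := by
  obtain ⟨x, hx, hzx⟩ := (mem_closuresOf X).1 hz
  exact h.codim x hx ▸ codim_mono X (specializes_iff_mem_closure.2 hzx)

theorem IsGood.dim_upiece {c : ℕ} {U : X.scheme.Opens} {S : Finset X.scheme} (h : IsGood X c U S)
    (hS : S.Nonempty) : WeilCoh.dim (upiece X S U).obj.scheme + c = WeilCoh.dim X.scheme := by
  obtain ⟨x, hx⟩ := hS
  have hx' := codim_add_pdim X x
  rw [h.codim x hx] at hx'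
  rw [(upiece X S U).dim_eq (n := WeilCoh.pdim X.scheme x) (fun z hz => ?_)
    ⟨(mem_closuresOf X).2 ⟨x, hx, subset_closure rfl⟩, h.mem x hx⟩ le_rfl]
  · omega
  · have := codim_add_pdim X z
    have := h.codim_le hz.1
    omega

theorem IsGood.dim_ptp_eq {c : ℕ} {U : X.scheme.Opens} {S : Finset X.scheme} (h : IsGood X c U S)
    {x : X.scheme} (hx : x ∈ S) :
    WeilCoh.dim (ptp X x U).obj.scheme = WeilCoh.dim (upiece X S U).obj.scheme := by
  have := h.dim_upiece ⟨x, hx⟩
  have := codim_add_pdim X x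
  rw [dim_ptp X x (h.mem x hx)]
  have := h.codim x hx
  omega

theorem ptp_subset {U : X.scheme.Opens} {S : Finset X.scheme} {x : X.scheme} (hx : x ∈ S) :
    closure {x} ∩ (U : Set X.scheme) ⊆ (closuresOf X S : Set X.scheme) ∩ U :=
  fun _ hz => ⟨(mem_closuresOf X).2 ⟨x, hx, hz.1⟩, hz.2⟩

theorem IsGood.diff_pt {c : ℕ} {U : X.scheme.Opens} {S S' : Finset X.scheme} (h : IsGood X c U S)
    {x : X.scheme} (hx : x ∈ S) [DecidableEq X.scheme] (hS' : S' = S.erase x) :
    (closuresOf X S' : Set X.scheme) ∩ U =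
      ((closuresOf X S : Set X.scheme) ∩ U) \ (closure {x} ∩ U) := by
  subst hS'
  ext z
  simp only [Set.mem_inter_iff, Set.mem_sdiff, mem_closuresOf, Finset.mem_erase]
  constructor
  · rintro ⟨⟨y, ⟨hne, hy⟩, hz⟩, hzU⟩
    exact ⟨⟨⟨y, hy, hz⟩, hzU⟩, fun h' => h.disj y hy x hx hne z hzU hz h'.1⟩
  · rintro ⟨⟨⟨y, hy, hz⟩, hzU⟩, hn⟩
    exact ⟨⟨y, ⟨fun hyx => hn ⟨hyx ▸ hz, hzU⟩, hy⟩, hz⟩, hzU⟩

theorem IsGood.isClosed_pt {U : X.scheme.Opens} {S : Finset X.scheme} (x : X.scheme) :
    IsClosed ((upiece X S U).ι ⁻¹' (closure {x} ∩ U)) := by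
  rw [show (upiece X S U).ι ⁻¹' (closure {x} ∩ U) = (upiece X S U).ι ⁻¹' closure {x} from
    Set.ext fun q => and_iff_left ((upiece X S U).ι_mem q).2]
  exact isClosed_closure.preimage (upiece X S U).ι.continuous

theorem IsGood.isClosed_sub {U : X.scheme.Opens} {S S' : Finset X.scheme} :
    IsClosed ((upiece X S U).ι ⁻¹' ((closuresOf X S' : Set X.scheme) ∩ U)) := by
  rw [show (upiece X S U).ι ⁻¹' ((closuresOf X S' : Set X.scheme) ∩ U) =
      (upiece X S U).ι ⁻¹' (closuresOf X S' : Set X.scheme) from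
    Set.ext fun q => and_iff_left ((upiece X S U).ι_mem q).2]
  exact (closuresOf X S').isClosed.preimage (upiece X S U).ι.continuous

theorem IsGood.isOpen_pt {c : ℕ} {U : X.scheme.Opens} {S : Finset X.scheme} (h : IsGood X c U S)
    {x : X.scheme} (hx : x ∈ S) : IsOpen ((upiece X S U).ι ⁻¹' (closure {x} ∩ U)) := by
  classical
  have h1 := (isClosed_sub (X := X) (U := U) (S := S) (S' := S.erase x)).isOpen_compl
  rw [h.diff_pt hx rfl] at h1
  convert h1 using 1
  ext q
  have := (upiece X S U).ι_mem q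
  simp only [Set.mem_preimage, Set.mem_compl_iff, Set.mem_sdiff]
  tauto

/-- The inclusion of the piece of `x` in the union. -/
noncomputable def IsGood.incl {c : ℕ} {U : X.scheme.Opens} {S : Finset X.scheme}
    (h : IsGood X c U S) {x : X.scheme} (hx : x ∈ S) : (ptp X x U).obj ⟶ (upiece X S U).obj :=
  (ptp X x U).homOpen (upiece X S U) (ptp_subset hx) (h.isOpen_pt hx) (h.dim_ptp_eq hx)

theorem IsGood.incl_ι {c : ℕ} {U : X.scheme.Opens} {S : Finset X.scheme}
    (h : IsGood X c U S) {x : X.scheme} (hx : x ∈ S) :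
    (h.incl hx).hom ≫ (upiece X S U).ι = (ptp X x U).ι := by
  simp [IsGood.incl]

instance isClosedImmersion_ptp_upiece {U : X.scheme.Opens} {S : Finset X.scheme} {x : X.scheme}
    (h : closure {x} ∩ (U : Set X.scheme) ⊆ (closuresOf X S : Set X.scheme) ∩ U) :
    IsClosedImmersion ((ptp X x U).map (upiece X S U) h) :=
  Piece.isClosedImmersion_map _ _ _ (IsGood.isClosed_pt x)

/-- Push-forward from the piece of `x` to the union. -/
noncomputable def IsGood.pushIncl {c : ℕ} {U : X.scheme.Opens} {S : Finset X.scheme}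
    (h : IsGood X c U S) {x : X.scheme} (hx : x ∈ S) (M : A.Cat) (i n : ℤ) :
    T.gp (ptp X x U).obj M i n →ₗ[R] T.gp (upiece X S U).obj M i n :=
  (T.push ((ptp X x U).map (upiece X S U) (ptp_subset hx)) M i n i n
    (by simp [BMCoh.relCodim, h.dim_ptp_eq hx]) (by simp [BMCoh.relCodim, h.dim_ptp_eq hx])).hom

theorem IsGood.pull_pushIncl_self {c : ℕ} {U : X.scheme.Opens} {S : Finset X.scheme}
    (h : IsGood X c U S) {x : X.scheme} (hx : x ∈ S) (M : A.Cat) (i n : ℤ)
    (a : T.gp (ptp X x U).obj M i n) :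
    T.pull (h.incl hx) M i n (h.pushIncl T hx M i n a) = a :=
  pull_push_self T _ _ (Piece.homOpen_hom _ _ _ _ _) M i n _ _ a

theorem IsGood.pull_pushIncl_ne {c : ℕ} {U : X.scheme.Opens} {S : Finset X.scheme}
    (h : IsGood X c U S) {x y : X.scheme} (hx : x ∈ S) (hy : y ∈ S) (hne : y ≠ x) (M : A.Cat)
    (i n : ℤ) (a : T.gp (ptp X y U).obj M i n) :
    T.pull (h.incl hx) M i n (h.pushIncl T hy M i n a) = 0 := by
  classical
  have hS' : IsGood X c U (S.erase y) :=
    h.mono X le_rfl (Finset.erase_subset _ _) fun z hz => h.mem z (Finset.mem_of_mem_erase hz)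
  have hx' : x ∈ S.erase y := Finset.mem_erase.2 ⟨hne.symm, hx⟩
  have hd : WeilCoh.dim (upiece X (S.erase y) U).obj.scheme = WeilCoh.dim (upiece X S U).obj.scheme :=
    (hS'.dim_ptp_eq hx').symm.trans (h.dim_ptp_eq hx)
  let D := decompPiece (upiece X S U) (ptp X y U) (upiece X (S.erase y) U) (ptp_subset hy)
    (IsGood.isClosed_pt y) (h.diff_pt hy rfl) hd
  have h0 := pull_push_eq_zero T D M i n i n
    (by simp [D, decompPiece, BMCoh.relCodim, h.dim_ptp_eq hy])
    (by simp [D, decompPiece, BMCoh.relCodim, h.dim_ptp_eq hy]) a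
  have he : h.incl hx = hS'.incl hx' ≫ D.j :=
    (upiece X S U).hom_ext _ _ (by simp [D, decompPiece, IsGood.incl])
  rw [he]
  refine (pull_comp_apply T _ _ M i n _).symm.trans ?_
  exact (congrArg _ h0).trans (map_zero _)

/-- A class on the union vanishing on every piece vanishes. -/
theorem IsGood.eq_zero_of_pull {c : ℕ} {U : X.scheme.Opens} {S : Finset X.scheme}
    (h : IsGood X c U S) (M : A.Cat) (i n : ℤ) (δ : T.gp (upiece X S U).obj M i n)
    (h0 : ∀ x (hx : x ∈ S), T.pull (h.incl hx) M i n δ = 0) : δ = 0 := by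
  classical
  induction S using Finset.strongInduction with
  | H S ih =>
    rcases S.eq_empty_or_nonempty with rfl | ⟨x, hx⟩
    · haveI := (upiece X (∅ : Finset X.scheme) U).isEmpty (by simp [closuresOf])
      exact (subsingleton_of_isEmpty T _ M i n).elim _ _
    rcases (S.erase x).eq_empty_or_nonempty with he | hne
    · haveI : Surjective ((ptp X x U).map (upiece X S U) (ptp_subset hx)) := ⟨fun q => by
        obtain ⟨y, hy, hqy⟩ := (mem_closuresOf X).1 ((upiece X S U).ι_mem q).1
        have hyx : y = x := by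
          by_contra hyx
          have : y ∈ S.erase x := Finset.mem_erase.2 ⟨hyx, hy⟩
          simp [he] at this
        show q ∈ Set.range ((ptp X x U).map (upiece X S U) (ptp_subset hx))
        rw [Piece.range_map]
        exact ⟨hyx ▸ hqy, ((upiece X S U).ι_mem q).2⟩⟩
      haveI : IsIso (h.incl hx).hom :=
        isIso_of_isClosedImmersion_of_surjective ((ptp X x U).map (upiece X S U) (ptp_subset hx))
      exact (pull_bijective_of_isIso T (h.incl hx) M i n).1 ((h0 x hx).trans (map_zero _).symm)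
    · have hS' : IsGood X c U (S.erase x) :=
        h.mono X le_rfl (Finset.erase_subset _ _) fun z hz => h.mem z (Finset.mem_of_mem_erase hz)
      obtain ⟨y, hy⟩ := hne
      have hd : WeilCoh.dim (upiece X (S.erase x) U).obj.scheme =
          WeilCoh.dim (upiece X S U).obj.scheme :=
        (hS'.dim_ptp_eq hy).symm.trans (h.dim_ptp_eq (Finset.mem_of_mem_erase hy))
      have hsub : (closuresOf X (S.erase x) : Set X.scheme) ∩ (U : Set X.scheme) ⊆
          (closuresOf X S : Set X.scheme) ∩ U := fun z hz => by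
        obtain ⟨w, hw, hzw⟩ := (mem_closuresOf X).1 hz.1
        exact ⟨(mem_closuresOf X).2 ⟨w, Finset.mem_of_mem_erase hw, hzw⟩, hz.2⟩
      let D := decompPiece (upiece X S U) (upiece X (S.erase x) U) (ptp X x U) hsub IsGood.isClosed_sub
        (by rw [h.diff_pt hx rfl, Set.sdiff_sdiff_right_self]
            exact (Set.inter_eq_self_of_subset_right (ptp_subset hx)).symm)
        (h.dim_ptp_eq hx)
      have hj : D.j = h.incl hx := rfl
      obtain ⟨γ, hγ⟩ := (exact_pp_apply T D M i n i n
        (by simp [D, decompPiece, BMCoh.relCodim, hd])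
        (by simp [D, decompPiece, BMCoh.relCodim, hd]) δ).1 (hj ▸ h0 x hx)
      have hγ0 : γ = 0 := by
        refine ih (S.erase x) (Finset.erase_ssubset hx) hS' γ fun z hz => ?_
        have hop : IsOpen ((upiece X S U).ι ⁻¹' ((closuresOf X (S.erase x) : Set X.scheme) ∩ U)) := by
          rw [show (upiece X S U).ι ⁻¹' ((closuresOf X (S.erase x) : Set X.scheme) ∩ U) =
            ((upiece X S U).ι ⁻¹' (closure {x} ∩ U))ᶜ from by
              rw [h.diff_pt hx rfl]
              exact Set.ext fun q => and_iff_right ((upiece X S U).ι_mem q)]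
          exact (IsGood.isClosed_pt x).isOpen_compl
        let g := (upiece X (S.erase x) U).homOpen (upiece X S U) hsub hop hd
        haveI : Mono D.i := inferInstance
        have hself : T.pull g M i n δ = γ := by
          rw [← hγ]
          exact pull_push_self T D.i g rfl M i n _ _ γ
        rw [← hself, pull_comp_apply]
        have he : hS'.incl hz ≫ g = h.incl (Finset.mem_of_mem_erase hz) :=
          (upiece X S U).hom_ext _ _ (by simp [g, IsGood.incl])
        rw [he]
        exact h0 z _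
      rw [← hγ, hγ0, map_zero]

/-- A class on the union is the sum of the push-forwards of its restrictions. -/
theorem IsGood.eq_sum_pushIncl {c : ℕ} {U : X.scheme.Opens} {S : Finset X.scheme}
    (h : IsGood X c U S) (M : A.Cat) (i n : ℤ) (δ : T.gp (upiece X S U).obj M i n) :
    δ = ∑ x ∈ S.attach, h.pushIncl T x.2 M i n (T.pull (h.incl x.2) M i n δ) := by
  classical
  refine sub_eq_zero.1 (h.eq_zero_of_pull T M i n _ fun x hx => ?_)
  rw [map_sub, map_sum, Finset.sum_eq_single (⟨x, hx⟩ : {y // y ∈ S})]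
  · rw [h.pull_pushIncl_self T hx, sub_self]
  · intro y _ hne
    exact h.pull_pushIncl_ne T hx y.2 (fun he => hne (Subtype.ext he)) M i n _
  · intro h'; exact absurd (Finset.mem_attach _ _) h'

theorem IsGood.pull_sum_pushIncl {c : ℕ} {U : X.scheme.Opens} {S : Finset X.scheme}
    (h : IsGood X c U S) (M : A.Cat) (i n : ℤ) {x : X.scheme} (hx : x ∈ S)
    (a : ∀ y : {y // y ∈ S}, T.gp (ptp X y.1 U).obj M i n) :
    T.pull (h.incl hx) M i n (∑ y ∈ S.attach, h.pushIncl T y.2 M i n (a y)) = a ⟨x, hx⟩ := by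
  classical
  rw [map_sum, Finset.sum_eq_single (⟨x, hx⟩ : {y // y ∈ S})]
  · exact h.pull_pushIncl_self T hx M i n _
  · intro y _ hne
    exact h.pull_pushIncl_ne T hx y.2 (fun he => hne (Subtype.ext he)) M i n _
  · intro h'; exact absurd (Finset.mem_attach _ _) h'

/-- Push-forward from the union to an open. -/
noncomputable def IsGood.pushUnion {c j : ℕ} {U : X.scheme.Opens} {S : Finset X.scheme}
    (h : IsGood X c U S) (hS : S.Nonempty) (hU : BMCoh.ContainsFj X j U)
    [IsProper ((upiece X S U).toOpen U Set.inter_subset_right)] (M : A.Cat) (i n i' n' : ℤ)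
    (hi : i' = i + 2 * (c : ℤ)) (hn : n' = n + (c : ℤ)) :
    T.gp (upiece X S U).obj M i n →ₗ[R] T.gp (X.res U) M i' n' :=
  (T.push ((upiece X S U).toOpen U Set.inter_subset_right) M i n i' n'
    (by have := h.dim_upiece hS; show i' = i + 2 * ((WeilCoh.dim (U : Scheme.{u}) : ℤ) - _)
        rw [dim_res_of_containsFj X hU]; omega)
    (by have := h.dim_upiece hS; show n' = n + ((WeilCoh.dim (U : Scheme.{u}) : ℤ) - _)
        rw [dim_res_of_containsFj X hU]; omega)).hom

instance isClosedImmersion_upiece_toOpen (S : Finset X.scheme) (U : X.scheme.Opens) :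
    IsClosedImmersion ((upiece X S U).toOpen U Set.inter_subset_right) :=
  Piece.isClosedImmersion_toOpen _ _ _ (isClosed_preimage_inter (closuresOf X S).isClosed U)

theorem IsGood.pushUnion_pushIncl {c j : ℕ} {U : X.scheme.Opens} {S : Finset X.scheme}
    (h : IsGood X c U S) {x : X.scheme} (hx : x ∈ S) (hU : BMCoh.ContainsFj X j U) (M : A.Cat)
    (i n i' n' : ℤ) (hi : i' = i + 2 * (c : ℤ)) (hn : n' = n + (c : ℤ))
    (a : T.gp (ptp X x U).obj M i n) :
    h.pushUnion T ⟨x, hx⟩ hU M i n i' n' hi hn (h.pushIncl T hx M i n a) =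
      pushPt T X M x (h.codim x hx) U hU (h.mem x hx) i n i' n' hi hn a := by
  have hc := relCodim_ptp X (h.codim x hx) (h.mem x hx) hU
  haveI : IsProper ((ptp X x U).map (upiece X S U) (ptp_subset hx) ≫
    (upiece X S U).toOpen U Set.inter_subset_right) := inferInstance
  have h2 := congr(($(T.push_comp ((ptp X x U).map (upiece X S U) (ptp_subset hx))
    ((upiece X S U).toOpen U Set.inter_subset_right) M i n i n i' n'
    (by simp [BMCoh.relCodim, h.dim_ptp_eq hx]) (by simp [BMCoh.relCodim, h.dim_ptp_eq hx])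
    (by rw [BMCoh.relCodim, ← h.dim_ptp_eq hx]; show i' = i + 2 * BMCoh.relCodim _ _
        rw [hc]; exact hi)
    (by rw [BMCoh.relCodim, ← h.dim_ptp_eq hx]; show n' = n + BMCoh.relCodim _ _
        rw [hc]; exact hn)
    (by rw [hc]; exact hi) (by rw [hc]; exact hn))) a)
  refine h2.trans ?_
  rw [push_congr T (show _ = (ptp X x U).toOpen U Set.inter_subset_right from by
    rw [← cancel_mono U.ι, Category.assoc, Piece.toOpen_ι, Piece.map_ι, Piece.toOpen_ι])]
  rfl

theorem IsGood.diff_closures {U : X.scheme.Opens} {S : Finset X.scheme} :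
    (closuresOf X S : Set X.scheme) ∩ U = (U : Set X.scheme) \
      (U ⊓ ⟨(closuresOf X S : Set X.scheme)ᶜ, (closuresOf X S).isClosed.isOpen_compl⟩ : X.scheme.Opens) := by
  ext z
  simp only [Opens.coe_inf, Set.mem_inter_iff, Set.mem_sdiff, Opens.coe_mk, Set.mem_compl_iff]
  tauto

/-- Inside every open containing `F_c`, finitely many points of codimension `c` have a good open. -/
theorem exists_good (S : Finset X.scheme) {c : ℕ} (hS : ∀ x ∈ S, WeilCoh.codim X.scheme x = c) :
    ∃ W : X.scheme.Opens, BMCoh.ContainsFj X c W ∧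
      ∀ U ≤ W, (∀ x ∈ S, x ∈ U) → IsGood X c U S := by
  classical
  let E : Set X.scheme := ⋃ p ∈ S.offDiag, closure {p.1} ∩ closure {p.2}
  have hE : IsClosed E :=
    isClosed_biUnion_finset fun p _ => isClosed_closure.inter isClosed_closure
  refine ⟨⟨Eᶜ, hE.isOpen_compl⟩, containsFj_compl X hE fun z hz => ?_, fun U hU hmem =>
    ⟨hmem, hS, fun x hx y hy hne z hz h1 h2 =>
      hU hz (Set.mem_biUnion (x := (x, y)) (Finset.mem_offDiag.2 ⟨hx, hy, hne⟩) ⟨h1, h2⟩)⟩⟩
  simp only [E, Set.mem_iUnion, Finset.mem_offDiag] at hz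
  obtain ⟨⟨x, y⟩, ⟨hx, hy, hne⟩, h1, h2⟩ := hz
  by_contra hle
  have e1 := eq_of_specializes_of_codim_le X (specializes_iff_mem_closure.2 h1)
    (by rw [hS x hx]; omega)
  have e2 := eq_of_specializes_of_codim_le X (specializes_iff_mem_closure.2 h2)
    (by rw [hS y hy]; omega)
  exact hne (e1.symm.trans e2)

end Groth.BMCohLib
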