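import Groth.Agent.BMCoh.Push
import Groth.Agent.BMCoh.Multi
import Groth.Prelude.Def_Curv2
import Mathlib.AlgebraicGeometry.Normalization
import Mathlib.AlgebraicGeometry.FunctionField
import Mathlib.AlgebraicGeometry.Morphisms.Finite

/-!
# Normalisation is an isomorphism over a nonempty open; groups of points along such morphisms
-/

set_option autoImplicit false
universe u

open Topology TopologicalSpace AlgebraicGeometry CategoryTheory Limits Opposite

namespace Groth.BMCohLib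

theorem exists_smul_mem_range {A C : Type*} [CommRing A] [IsDomain A] [CommRing C]
    (φ : A →+* C) (hfin : φ.Finite)
    (hfrac : ∀ c : C, ∃ a b : A, b ≠ 0 ∧ φ b * c = φ a) :
    ∃ s : A, s ≠ 0 ∧ ∀ c : C, ∃ a : A, φ s * c = φ a := by
  algebraize [φ]
  obtain ⟨G, hG⟩ := (Module.Finite.fg_top : (⊤ : Submodule A C).FG)
  choose a b hb hab using hfrac
  classical
  refine ⟨∏ g ∈ G, b g, Finset.prod_ne_zero_iff.2 fun g _ => hb g, fun c => ?_⟩
  have hc : c ∈ Submodule.span A (G : Set C) := hG ▸ Submodule.mem_top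
  induction hc using Submodule.span_induction with
  | mem x hx =>
    refine ⟨(∏ g ∈ G.erase x, b g) * a x, ?_⟩
    rw [← Finset.mul_prod_erase G b hx, map_mul, map_mul, mul_comm (φ (b x)), mul_assoc, hab]
  | zero => exact ⟨0, by simp⟩
  | add x y _ _ hx hy =>
    obtain ⟨p, hp⟩ := hx; obtain ⟨q, hq⟩ := hy
    exact ⟨p + q, by rw [mul_add, hp, hq, map_add]⟩
  | smul r x _ hx =>
    obtain ⟨p, hp⟩ := hx
    exact ⟨r * p, by rw [Algebra.smul_def, RingHom.algebraMap_toAlgebra, mul_left_comm, hp, map_mul]⟩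

theorem bijective_isLocalization_map {A C : Type*} [CommRing A] [IsDomain A] [CommRing C]
    (φ : A →+* C) (hinj : Function.Injective φ) {s : A}
    (hs : ∀ c : C, ∃ a : A, φ s * c = φ a)
    {A' C' : Type*} [CommRing A'] [CommRing C'] [Algebra A A'] [Algebra C C']
    [IsLocalization.Away s A'] [IsLocalization.Away (φ s) C'] (ψ : A' →+* C')
    (hψ : ∀ a, ψ (algebraMap A A' a) = algebraMap C C' (φ a)) : Function.Bijective ψ := by
  constructor
  · rw [injective_iff_map_eq_zero]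
    intro z hz
    obtain ⟨⟨a, t⟩, h⟩ := IsLocalization.surj (Submonoid.powers s) z
    have h1 : algebraMap C C' (φ a) = 0 := by
      rw [← hψ, ← h, map_mul, hz, zero_mul]
    obtain ⟨⟨_, k, rfl⟩, hk⟩ := (IsLocalization.map_eq_zero_iff (Submonoid.powers (φ s)) C' _).1 h1
    simp only at hk
    rw [← map_pow, ← map_mul] at hk
    have h2 : s ^ k * a = 0 := hinj (hk.trans (map_zero φ).symm)
    refine (IsLocalization.map_units A' t).mul_left_eq_zero.1 (h.trans ?_)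
    exact (IsLocalization.map_eq_zero_iff (Submonoid.powers s) A' a).2 ⟨⟨s ^ k, k, rfl⟩, h2⟩
  · intro z
    obtain ⟨⟨c, ⟨_, k, rfl⟩⟩, h⟩ := IsLocalization.surj (Submonoid.powers (φ s)) z
    obtain ⟨a, ha⟩ := hs c
    refine ⟨IsLocalization.mk' A' a (⟨s ^ (k + 1), k + 1, rfl⟩ : Submonoid.powers s), ?_⟩
    have h3 : ψ (IsLocalization.mk' A' a (⟨s ^ (k + 1), k + 1, rfl⟩ : Submonoid.powers s)) *
        algebraMap C C' (φ s ^ (k + 1)) = algebraMap C C' (φ a) := by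
      rw [← map_pow φ, ← hψ, ← hψ, ← map_mul]
      exact congrArg ψ (IsLocalization.mk'_spec A' a (⟨s ^ (k + 1), k + 1, rfl⟩ : Submonoid.powers s))
    have h4 : z * algebraMap C C' (φ s ^ (k + 1)) = algebraMap C C' (φ a) := by
      rw [pow_succ, map_mul, ← mul_assoc]
      simp only at h
      rw [h, ← map_mul, mul_comm c, ha]
    have hu : IsUnit (algebraMap C C' (φ s ^ (k + 1))) :=
      IsLocalization.map_units C' (⟨φ s ^ (k + 1), k + 1, rfl⟩ : Submonoid.powers (φ s))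
    exact hu.mul_left_inj.1 (h3.trans h4.symm)

/-- An affine morphism to an integral scheme that is finite and generically injective with fractions
is an isomorphism over a nonempty open. -/
theorem exists_isIso_over {N Z : Scheme.{u}} [IsIntegral Z] (ν : N ⟶ Z) [IsFinite ν] {U : Z.Opens}
    (hU : IsAffineOpen U) [Nonempty U.toScheme] (hinj : Function.Injective (ν.app U))
    (hfrac : ∀ c : Γ(N, ν ⁻¹ᵁ U), ∃ a b : Γ(Z, U), b ≠ 0 ∧ ν.app U b * c = ν.app U a) :
    ∃ D : Z.Opens, genericPoint Z ∈ D ∧ IsIso (ν ∣_ D) := by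
  obtain ⟨s, hs0, hs⟩ := exists_smul_mem_range (ν.app U).hom (IsFinite.finite_app ν U hU) hfrac
  let D := Z.basicOpen s
  have hD : IsAffineOpen D := hU.basicOpen s
  refine ⟨D, ?_, ?_⟩
  · have hne : D ≠ ⊥ := fun h => hs0 (basicOpen_eq_bot_iff s |>.1 h)
    obtain ⟨z, hz⟩ := (Opens.ne_bot_iff_nonempty D).1 hne
    exact ((genericPoint_spec Z).mem_open_set_iff D.isOpen).2 ⟨z, trivial, hz⟩
  · refine (isIso_morphismRestrict_iff_isIso_app _ (U := D) hD).mpr ?_
    have hle : D ≤ U := Z.basicOpen_le s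
    have hpre : ν ⁻¹ᵁ D = N.basicOpen (ν.app U s) := ν.preimage_basicOpen s
    letI := (Z.presheaf.map (homOfLE hle).op).hom.toAlgebra
    letI := (N.presheaf.map (homOfLE (ν.preimage_mono hle)).op).hom.toAlgebra
    haveI : IsLocalization.Away s Γ(Z, D) := hU.isLocalization_basicOpen s
    haveI : IsLocalization.Away ((ν.app U).hom s) Γ(N, ν ⁻¹ᵁ D) :=
      (hU.preimage ν).isLocalization_of_eq_basicOpen (ν.app U s) _ hpre
    rw [ConcreteCategory.isIso_iff_bijective]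
    refine bijective_isLocalization_map (ν.app U).hom hinj hs (ν.app D).hom fun a => ?_
    exact congr(($(ν.naturality (homOfLE hle).op)) a)

/-- The normalisation of an integral scheme, when proper, is an isomorphism over a nonempty open. -/
theorem exists_isIso_normalizationι (Z : Scheme.{u}) [IsIntegral Z]
    [QuasiCompact (Z.fromSpecStalk (genericPoint Z))]
    [QuasiSeparated (Z.fromSpecStalk (genericPoint Z))] [IsProper (Curv2.normalizationι Z)] :
    ∃ D : Z.Opens, genericPoint Z ∈ D ∧ IsIso (Curv2.normalizationι Z ∣_ D) := by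
  let f := Z.fromSpecStalk (genericPoint Z)
  haveI : IsIntegralHom (Curv2.normalizationι Z) := inferInstanceAs (IsIntegralHom f.fromNormalization)
  haveI : IsFinite (Curv2.normalizationι Z) :=
    (IsFinite.iff_isIntegralHom_and_locallyOfFiniteType _).2 ⟨inferInstance, inferInstance⟩
  obtain ⟨_, ⟨U, hU, rfl⟩, hgU, -⟩ := Z.isBasis_affineOpens.exists_subset_of_mem_open
    (Set.mem_univ (genericPoint Z)) isOpen_univ
  haveI : Nonempty (Scheme.Opens.toScheme (X := Z) U) := ⟨⟨genericPoint Z, hgU⟩⟩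
  letI := (f.app U).hom.toAlgebra
  haveI := functionField_isFractionRing_of_isAffineOpen Z U hU
  have htop : f ⁻¹ᵁ U = ⊤ := by
    refine top_le_iff.1 fun p _ => ?_
    have : f p ⤳ genericPoint Z := by
      have h := (Scheme.range_fromSpecStalk (X := Z) (x := genericPoint Z)).subset ⟨p, rfl⟩
      exact h
    exact this.mem_open U.isOpen hgU
  let θ : Γ(Spec (Z.presheaf.stalk (genericPoint Z)), f ⁻¹ᵁ U) ⟶ Z.presheaf.stalk (genericPoint Z) :=
    (Spec _).presheaf.map (eqToHom htop.symm).op ≫ (Scheme.ΓSpecIso _).hom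
  haveI : IsIso θ := by infer_instance
  have hθ : ∀ a : Γ(Z, U), θ (f.app U a) = Z.presheaf.germ U (genericPoint Z) hgU a := fun a => by
    have h : f.app U ≫ θ = Z.presheaf.germ U (genericPoint Z) hgU := by
      rw [Scheme.fromSpecStalk_app hgU]
      simp [θ, ← Functor.map_comp_assoc]
    exact congr(($h) a)
  have hθinj : Function.Injective θ := (ConcreteCategory.bijective_of_isIso θ).1
  have hginj : Function.Injective (Z.presheaf.germ U (genericPoint Z) hgU) :=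
    IsFractionRing.injective Γ(Z, U) Z.functionField
  have hfinj : Function.Injective (f.app U) := fun a b h =>
    hginj (by rw [← hθ, ← hθ, h])
  refine exists_isIso_over (Curv2.normalizationι Z) hU ?_ fun c => ?_
  · intro a b h
    change f.fromNormalization.app U a = f.fromNormalization.app U b at h
    rw [f.fromNormalization_app hU] at h
    have h' := congrArg (f.normalizationObjIso hU).hom h
    simp only [CommRingCat.comp_apply, Iso.inv_hom_id_apply] at h'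
    exact hfinj (congrArg Subtype.val h')
  · let x := (f.normalizationObjIso hU).hom c
    obtain ⟨⟨a, b⟩, hab⟩ := IsLocalization.surj (nonZeroDivisors Γ(Z, U))
      (θ x.1 : Z.functionField)
    refine ⟨a, b.1, nonZeroDivisors.ne_zero b.2, ?_⟩
    apply (ConcreteCategory.bijective_of_isIso (f.normalizationObjIso hU).hom).1
    let c' : Γ(f.normalization, f.fromNormalization ⁻¹ᵁ U) := c
    change (f.normalizationObjIso hU).hom (f.fromNormalization.app U b.1 * c') =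
      (f.normalizationObjIso hU).hom (f.fromNormalization.app U a)
    rw [map_mul, f.fromNormalization_app hU, CommRingCat.comp_apply, CommRingCat.comp_apply,
      Iso.inv_hom_id_apply, Iso.inv_hom_id_apply]
    refine Subtype.ext (hθinj ?_)
    show θ (f.app U b.1 * x.1) = θ (f.app U a)
    rw [map_mul, hθ, hθ, mul_comm]
    exact hab

variable {V : ObjectProperty Scheme.{u}} [BMCoh.IsConstructible V]
variable {R : Type u} [CommRing R] {A : BMCoh.Coefs R} {T : BMCoh.PreTheory V R A}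
variable {Y X : BMCoh.Obj V} {φ : Y.scheme ⟶ X.scheme} [IsProper φ] {y : Y.scheme}

omit [IsProper φ] in
theorem relCodim_ptp_ptp (hd : BMCoh.relCodim (Y.ptSub y).scheme (X.ptSub (φ y)).scheme = 0)
    {U : X.scheme.Opens} (hU : φ y ∈ U) :
    BMCoh.relCodim (ptp Y y (φ ⁻¹ᵁ U)).obj.scheme (ptp X (φ y) U).obj.scheme = 0 := by
  show (WeilCoh.dim (ptp X (φ y) U).obj.scheme : ℤ) - WeilCoh.dim (ptp Y y (φ ⁻¹ᵁ U)).obj.scheme = 0
  rw [dim_ptp X (φ y) hU, dim_ptp Y y (show y ∈ φ ⁻¹ᵁ U from hU), ← dim_ptSub, ← dim_ptSub]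
  exact hd

/-- Over an open over which the restriction of `φ` to the closures is an isomorphism the maps of a
push-forward datum are bijective. -/
theorem ptPush_bijective (L : T.PtPush φ y (φ y)) (U0 : X.scheme.Opens) (hU0 : φ y ∈ U0)
    (hiso : ∀ U : X.scheme.Opens, U ≤ U0 → ∀ f : (ptp Y y (φ ⁻¹ᵁ U)).obj.scheme ⟶
      (ptp X (φ y) U).obj.scheme, f ≫ (ptp X (φ y) U).ι = (ptp Y y (φ ⁻¹ᵁ U)).ι ≫ φ → IsIso f)
    (M : A.Cat) (i n : ℤ) : Function.Bijective (L.cpt M i n) := by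
  have hd := L.codim_eq
  have hd' : WeilCoh.pdim Y.scheme y ≤ WeilCoh.pdim X.scheme (φ y) := by
    have h : ((WeilCoh.dim (X.ptSub (φ y)).scheme : ℤ) - WeilCoh.dim (Y.ptSub y).scheme) = 0 := hd
    rw [dim_ptSub, dim_ptSub] at h
    omega
  -- the morphism of objects over a small open, and the value of `L` on classes from it
  have key : ∀ U : X.scheme.Opens, U ≤ U0 → ∀ hU : φ y ∈ U,
      ∃ g : (ptp Y y (φ ⁻¹ᵁ U)).obj ⟶ (ptp X (φ y) U).obj,
        g.hom ≫ (ptp X (φ y) U).ι = (ptp Y y (φ ⁻¹ᵁ U)).ι ≫ φ ∧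
        Function.Bijective (T.pull g M i n) ∧
        ∀ c, L.cpt M i n (vcls T Y M y (φ ⁻¹ᵁ U) hU i n (T.pull g M i n c)) =
          vcls T X M (φ y) U hU i n c := by
    intro U hle hU
    obtain ⟨f, hf, hfι⟩ := exists_ptp_map φ y U
    haveI := hiso U hle f hfι
    have hc := relCodim_ptp_ptp hd hU
    let g : (ptp Y y (φ ⁻¹ᵁ U)).obj ⟶ (ptp X (φ y) U).obj :=
      ⟨f, inferInstance, BMCoh.dim_eq_of_iso (asIso f)⟩
    have hiP : i = i + 2 * BMCoh.relCodim (ptp Y y (φ ⁻¹ᵁ U)).obj.scheme (ptp X (φ y) U).obj.scheme := by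
      rw [hc]; ring
    have hnP : n = n + BMCoh.relCodim (ptp Y y (φ ⁻¹ᵁ U)).obj.scheme (ptp X (φ y) U).obj.scheme := by
      rw [hc]; ring
    have hb := pull_bijective_of_isIso T g M i n
    refine ⟨g, hfι, hb, fun c => ?_⟩
    haveI : @IsProper ((Y.ptSub y).res (vidx Y y (φ ⁻¹ᵁ U) hU).1).scheme
      ((X.ptSub (φ y)).res (vidx X (φ y) U hU).1).scheme f := hf
    have hspec := congr(($(L.cpt_spec M i n (vidx Y y (φ ⁻¹ᵁ U) hU) (vidx X (φ y) U hU) f (by
      show f ≫ (ptp X (φ y) U).ι = _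
      rw [hfι]
      exact Category.assoc _ _ _) hiP hnP)) (T.pull g M i n c))
    refine hspec.trans (congrArg (vcls T X M (φ y) U hU i n) ?_)
    exact hb.1 (pull_push_self T f g rfl M i n hiP hnP _)
  constructor
  · rw [injective_iff_map_eq_zero]
    intro γ hγ
    obtain ⟨W, b0, rfl⟩ := pcls_exists y γ
    obtain ⟨U1, hU1, hle1⟩ := exists_open_below φ hd' W
    have hU : φ y ∈ U1 ⊓ U0 := ⟨hU1, hU0⟩
    have hle : Y.ptSubι y ⁻¹ᵁ (φ ⁻¹ᵁ (U1 ⊓ U0)) ≤ W.1 := fun p hp => hle1 hp.1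
    obtain ⟨g, hg, hgb, hgv⟩ := key (U1 ⊓ U0) inf_le_right hU
    obtain ⟨c, hc⟩ := hgb.2 (T.pull ((Y.ptSub y).resLE hle
      ((vidx Y y (φ ⁻¹ᵁ (U1 ⊓ U0)) hU).2.2.trans W.2.2.symm)) M i n b0)
    have hγ' : vcls T Y M y (φ ⁻¹ᵁ (U1 ⊓ U0)) hU i n (T.pull g M i n c) = pcls T Y M i n y W b0 :=
      (congrArg _ hc).trans (pcls_res (W' := vidx Y y (φ ⁻¹ᵁ (U1 ⊓ U0)) hU) y hle b0)
    rw [← hγ', hgv] at hγ
    rw [← hγ']
    obtain ⟨W'', hW'', h0⟩ := vcls_eq_zero T X M (φ y) rfl hU c hγ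
    have hU2 : φ y ∈ U1 ⊓ U0 ⊓ W'' := ⟨hU, hW'' _ le_rfl⟩
    obtain ⟨g2, hg2, -, -⟩ := key (U1 ⊓ U0 ⊓ W'') (inf_le_left.trans inf_le_right) hU2
    have hsY : closure {y} ∩ ((φ ⁻¹ᵁ (U1 ⊓ U0 ⊓ W'') : Y.scheme.Opens) : Set Y.scheme) ⊆
        closure {y} ∩ (φ ⁻¹ᵁ (U1 ⊓ U0) : Y.scheme.Opens) := fun _ hp => ⟨hp.1, hp.2.1⟩
    have hsX : closure {φ y} ∩ ((U1 ⊓ U0 ⊓ W'' : X.scheme.Opens) : Set X.scheme) ⊆
        closure {φ y} ∩ (U1 ⊓ U0 : X.scheme.Opens) := fun _ hp => ⟨hp.1, hp.2.1⟩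
    have hY1 : y ∈ φ ⁻¹ᵁ (U1 ⊓ U0) := hU
    have hY2 : y ∈ φ ⁻¹ᵁ (U1 ⊓ U0 ⊓ W'') := hU2
    have hsq : pmap Y y hsY hY2 ≫ g = g2 ≫ pmap X (φ y) hsX hU2 :=
      (ptp X (φ y) (U1 ⊓ U0)).hom_ext _ _ (by
        simp only [BMCoh.comp_hom, Category.assoc, hg, pmap_ι, hg2]
        rw [← Category.assoc, pmap_ι])
    have hz := (congrArg (T.pull g2 M i n)
      (h0 _ hsX hU2 fun _ hp => ⟨hp.1, hp.2.2⟩)).trans (map_zero _)
    rw [pull_comp_apply, ← hsq] at hz
    exact (vcls_pmap T Y M y hsY hY2 hY1 i n _).symm.trans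
      ((congrArg _ ((pull_comp_apply T _ _ M i n c).trans hz)).trans (map_zero _))
  · intro α
    obtain ⟨W, hW, c, hc⟩ := vcls_exists T X M (φ y) rfl i n α
    have hU : φ y ∈ W ⊓ U0 := ⟨hW _ le_rfl, hU0⟩
    obtain ⟨g, -, -, hgv⟩ := key (W ⊓ U0) inf_le_right hU
    have hs : closure {φ y} ∩ ((W ⊓ U0 : X.scheme.Opens) : Set X.scheme) ⊆ closure {φ y} ∩ W :=
      fun _ hp => ⟨hp.1, hp.2.1⟩
    refine ⟨_, (hgv (T.pull (pmap X (φ y) hs hU) M i n c)).trans ?_⟩
    exact (vcls_pmap T X M (φ y) hs hU (hW _ le_rfl) i n c).trans hc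

omit [IsProper φ] in
/-- If `φ` is birational on a closure, restrictions over small opens are isomorphisms. -/
theorem isIso_ptp_of_restrict (y : Y.scheme) [IsReduced Y.scheme]
    (hy : closure ({y} : Set Y.scheme) = Set.univ)
    (ν : Y.scheme ⟶ (X.ptSub (φ y)).scheme) (hν : ν ≫ X.ptSubι (φ y) = φ)
    (D : (X.ptSub (φ y)).scheme.Opens) [IsIso (ν ∣_ D)] (U : X.scheme.Opens)
    (hUD : X.ptSubι (φ y) ⁻¹ᵁ U ≤ D)
    (f : (ptp Y y (φ ⁻¹ᵁ U)).obj.scheme ⟶ (ptp X (φ y) U).obj.scheme)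
    (hf : f ≫ (ptp X (φ y) U).ι = (ptp Y y (φ ⁻¹ᵁ U)).ι ≫ φ) : IsIso f := by
  let W : (X.ptSub (φ y)).scheme.Opens := X.ptSubι (φ y) ⁻¹ᵁ U
  let P := ptp Y y (φ ⁻¹ᵁ U)
  let f' : P.obj.scheme ⟶ (W : Scheme.{u}) := f
  have hWD : W ≤ D := hUD
  have hf' : f' ≫ W.ι ≫ X.ptSubι (φ y) = P.ι ≫ φ := hf
  let s : (W : Scheme.{u}) ⟶ Y.scheme :=
    (X.ptSub (φ y)).scheme.homOfLE hWD ≫ inv (ν ∣_ D) ≫ (ν ⁻¹ᵁ D).ι
  have hs : s ≫ φ = W.ι ≫ X.ptSubι (φ y) := by
    refine (congrArg (s ≫ ·) hν.symm).trans ?_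
    simp only [s, Category.assoc]
    rw [← morphismRestrict_ι_assoc, IsIso.inv_hom_id_assoc, Scheme.homOfLE_ι_assoc]
  haveI : IsReduced ((X.ptSub (φ y)).res W).scheme := (ptp X (φ y) U).reduced
  obtain ⟨l, hl⟩ := P.exists_lift (A := (X.ptSub (φ y)).res W) s (by
    rintro _ ⟨q, rfl⟩
    refine ⟨by rw [hy]; trivial, ?_⟩
    show φ (s q) ∈ U
    rw [← Scheme.Hom.comp_apply, hs]
    exact q.2)
  let l' : (W : Scheme.{u}) ⟶ P.obj.scheme := l
  have hl' : l' ≫ P.ι = s := hl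
  suffices h : IsIso f' from h
  refine ⟨l', ?_, ?_⟩
  · rw [← cancel_mono P.ι, Category.assoc, hl', Category.id_comp]
    have hmem : Set.range P.ι ⊆ Set.range (ν ⁻¹ᵁ D).ι := by
      rw [Scheme.Opens.range_ι]
      rintro _ ⟨p, rfl⟩
      refine hUD (show X.ptSubι (φ y) (ν (P.ι p)) ∈ U from ?_)
      rw [← Scheme.Hom.comp_apply]
      exact (congrArg (fun g : Y.scheme ⟶ X.scheme => g (P.ι p)) hν).symm ▸ (P.ι_mem p).2
    let p' := IsOpenImmersion.lift (ν ⁻¹ᵁ D).ι P.ι hmem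
    have hp' : p' ≫ (ν ⁻¹ᵁ D).ι = P.ι := IsOpenImmersion.lift_fac _ _ _
    have hfac : f' ≫ (X.ptSub (φ y)).scheme.homOfLE hWD = p' ≫ (ν ∣_ D) := by
      refine (cancel_mono (D.ι ≫ X.ptSubι (φ y))).1 ?_
      simp only [Category.assoc, Scheme.homOfLE_ι_assoc, morphismRestrict_ι_assoc]
      rw [reassoc_of% hp']
      exact hf'.trans (congrArg (P.ι ≫ ·) hν.symm)
    show f' ≫ (X.ptSub (φ y)).scheme.homOfLE hWD ≫ inv (ν ∣_ D) ≫ (ν ⁻¹ᵁ D).ι = P.ι
    rw [reassoc_of% hfac, IsIso.hom_inv_id_assoc, hp']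
  · rw [← cancel_mono (W.ι ≫ X.ptSubι (φ y)), Category.assoc, hf', reassoc_of% hl', hs,
      Category.id_comp]

end Groth.BMCohLib
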