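import Groth.Agent.BMCoh.Restrict

/-!
# Bijectivity of restriction from vanishing on closed subschemes of one codimension
-/

set_option autoImplicit false
universe u

open Topology TopologicalSpace AlgebraicGeometry CategoryTheory Limits Opposite

namespace Groth.BMCohLib

variable {V : ObjectProperty Scheme.{u}} [BMCoh.IsConstructible V]

/-- Every codimension up to the dimension occurs. -/
theorem exists_codim_eq (X : BMCoh.Obj V) {c : ℕ} (hc : c ≤ WeilCoh.dim X.scheme)
    [Nonempty X.scheme] : ∃ x : X.scheme, WeilCoh.codim X.scheme x = c := by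
  obtain ⟨l, hl⟩ := (Order.le_krullDim_iff (α := IrreducibleCloseds X.scheme)
    (n := WeilCoh.natDim X.scheme)).1 (by rw [← krullDim_le_natDim (fin_dim X)]; rfl)
  have hl' : l.length = WeilCoh.dim X.scheme := hl
  let g : Fin (l.length + 1) → X.scheme := fun k => (l k).isIrreducible.genericPoint
  have hg : ∀ k, closure {g k} = (l k : Set X.scheme) := fun k => by
    rw [(l k).isIrreducible.isGenericPoint_genericPoint_closure, (l k).isClosed.closure_eq]
  have hb : ∀ k, WeilCoh.pdim X.scheme (g k) < l.length + 1 := fun k => by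
    have := pdim_le_dim X (g k); omega
  let F : Fin (l.length + 1) → Fin (l.length + 1) := fun k => ⟨WeilCoh.pdim X.scheme (g k), hb k⟩
  have hF : StrictMono F := fun a b hab => by
    have hlt : l a < l b := l.strictMono hab
    have h1 : g b ⤳ g a := specializes_iff_mem_closure.2
      (hg b ▸ SetLike.coe_subset_coe.2 hlt.le (hg a ▸ subset_closure rfl))
    refine pdim_lt X h1 fun he => hlt.ne ?_
    apply SetLike.coe_injective
    rw [← hg a, ← hg b, he]
  let k : Fin (l.length + 1) := ⟨WeilCoh.dim X.scheme - c, by omega⟩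
  have h1 : F k = k := le_antisymm (hF.le_id k) (hF.id_le k)
  have h2 : WeilCoh.pdim X.scheme (g k) = WeilCoh.dim X.scheme - c := congrArg Fin.val h1
  refine ⟨g k, ?_⟩
  have := codim_add_pdim X (g k)
  omega

/-- A closed set of codimension `≥ c` lies in one of dimension exactly `dim X - c`. -/
theorem exists_closed_dim_eq (X : BMCoh.Obj V) {c : ℕ} (hc : c ≤ WeilCoh.dim X.scheme)
    (hc0 : c ≠ 0) {C : Set X.scheme} (hC : IsClosed C) (hcod : ∀ z ∈ C, c ≤ WeilCoh.codim X.scheme z) :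
    ∃ D : Closeds X.scheme, C ⊆ (D : Set X.scheme) ∧
      (∀ z ∈ (D : Set X.scheme), c ≤ WeilCoh.codim X.scheme z) ∧
      WeilCoh.dim (Piece.ofClosed X D).obj.scheme + c = WeilCoh.dim X.scheme := by
  have : Nonempty X.scheme := by
    by_contra h
    rw [not_nonempty_iff] at h
    have := dim_of_isEmpty X
    omega
  obtain ⟨x, hx⟩ := exists_codim_eq X hc
  refine ⟨⟨C ∪ closure {x}, hC.union isClosed_closure⟩, Set.subset_union_left, ?_, ?_⟩
  · rintro z (hz | hz)
    exacts [hcod z hz, hx ▸ codim_mono X (specializes_iff_mem_closure.2 hz)]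
  · have hcx := codim_add_pdim X x
    rw [(Piece.ofClosed X _).dim_eq (n := WeilCoh.pdim X.scheme x) (fun z hz => ?_)
      (Or.inr (subset_closure rfl) : x ∈ C ∪ closure {x}) le_rfl]
    · omega
    · rcases hz with hz | hz
      · have := hcod z hz
        have := codim_add_pdim X z
        omega
      · exact pdim_mono X (specializes_iff_mem_closure.2 hz)

/-- The codimension in `X` of a point of a piece of dimension `dim X - c`. -/
theorem codim_piece_ι {X : BMCoh.Obj V} {L : Set X.scheme} (P : Piece X L) {c : ℕ}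
    (hd : WeilCoh.dim P.obj.scheme + c = WeilCoh.dim X.scheme) (p : P.obj.scheme) :
    WeilCoh.codim X.scheme (P.ι p) = WeilCoh.codim P.obj.scheme p + c := by
  have h1 : WeilCoh.pdim X.scheme (P.ι p) = WeilCoh.pdim P.obj.scheme p := pdim_of_immersion X P.ι p
  have := codim_add_pdim X (P.ι p)
  have := codim_add_pdim P.obj p
  omega

/-- An open of a closed piece containing `F_m` extends to an open of `X` containing `F_(c+m)`. -/
theorem exists_open_extend (X : BMCoh.Obj V) (C : Closeds X.scheme) {c m : ℕ}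
    (hd : WeilCoh.dim (Piece.ofClosed X C).obj.scheme + c = WeilCoh.dim X.scheme)
    {W : (Piece.ofClosed X C).obj.scheme.Opens}
    (hW : BMCoh.ContainsFj (Piece.ofClosed X C).obj m W) :
    ∃ V' : X.scheme.Opens, BMCoh.ContainsFj X (c + m) V' ∧ (C : Set X.scheme)ᶜ ⊆ (V' : Set X.scheme) ∧
      (Piece.ofClosed X C).ι ⁻¹ᵁ V' ≤ W := by
  let P := Piece.ofClosed X C
  haveI : IsClosedImmersion P.ι :=
    inferInstanceAs (IsClosedImmersion (Scheme.IdealSheafData.vanishingIdeal C).subschemeι)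
  have hcl : IsClosed (P.ι '' (W : Set P.obj.scheme)ᶜ) :=
    P.ι.isClosedEmbedding.isClosedMap _ W.isOpen.isClosed_compl
  refine ⟨⟨(P.ι '' (W : Set P.obj.scheme)ᶜ)ᶜ, hcl.isOpen_compl⟩, ?_, ?_, ?_⟩
  · rintro y hy ⟨p, hp, rfl⟩
    exact hp (hW p (show WeilCoh.codim P.obj.scheme p ≤ m by have := codim_piece_ι P hd p; omega))
  · rintro y hy ⟨p, _, rfl⟩
    exact hy (P.ι_mem p)
  · intro p hp
    by_contra h
    exact hp ⟨p, h, rfl⟩

theorem isClosedImmersion_inter_ofClosed_toOpen (X : BMCoh.Obj V) (C : Closeds X.scheme)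
    (U : X.scheme.Opens) :
    IsClosedImmersion (((Piece.ofClosed X C).inter U).toOpen U Set.inter_subset_right) :=
  Piece.isClosedImmersion_toOpen _ _ _ (isClosed_preimage_inter C.isClosed U)

variable {R : Type u} [CommRing R] {A : BMCoh.Coefs R} (T : BMCoh.PreTheory V R A) (M : A.Cat)

theorem fjRes_bijective_of_closed (X : BMCoh.Obj V) {j m : ℕ} (i n : ℤ)
    (hZ : ∀ C : Closeds X.scheme,
      WeilCoh.dim (Piece.ofClosed X C).obj.scheme + (j + 1) = WeilCoh.dim X.scheme →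
      IsZero (T.fjGp (Piece.ofClosed X C).obj m M (i - 2 * ((j : ℤ) + 1)) (n - ((j : ℤ) + 1))) ∧
        IsZero (T.fjGp (Piece.ofClosed X C).obj m M (i + 1 - 2 * ((j : ℤ) + 1)) (n - ((j : ℤ) + 1)))) :
    Function.Bijective
      ((T.fjRes X ((Nat.le_succ j).trans (Nat.le_add_right (j + 1) m)) i n).app M) := by
  have hjm : j ≤ j + 1 + m := (Nat.le_succ j).trans (Nat.le_add_right (j + 1) m)
  rcases Nat.lt_or_ge (WeilCoh.dim X.scheme) (j + 1) with hd | hd
  · have htop : ∀ {U : X.scheme.Opens}, BMCoh.ContainsFj X j U →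
        BMCoh.ContainsFj X (j + 1 + m) U := fun hU y _ => hU y (by
      have := codim_add_pdim X y; omega)
    constructor
    · rw [injective_iff_map_eq_zero]
      intro β hβ
      obtain ⟨U, hU, b, rfl⟩ := fcls_exists β
      rw [fjRes_fcls, fcls_eq_zero_iff] at hβ
      obtain ⟨U', hle, hU', hb⟩ := hβ
      exact (fcls_eq_zero_iff hU b).2 ⟨U', hle, htop hU', hb⟩
    · intro α
      obtain ⟨U, hU, b, rfl⟩ := fcls_exists α
      exact ⟨fcls T X M i n U (htop hU) b, fjRes_fcls _ (htop hU) b⟩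
  constructor
  · rw [injective_iff_map_eq_zero]
    intro β hβ
    obtain ⟨U, hU, b, rfl⟩ := fcls_exists β
    rw [fjRes_fcls, fcls_eq_zero_iff] at hβ
    obtain ⟨U', hle, hU', hb⟩ := hβ
    obtain ⟨C, hCU', hCc, hCd⟩ := exists_closed_dim_eq X hd (Nat.succ_ne_zero j)
      U'.isOpen.isClosed_compl (le_codim_of_compl X hU')
    obtain ⟨h0, -⟩ := hZ C hCd
    let P := Piece.ofClosed X C
    replace hCd : WeilCoh.dim P.obj.scheme + (j + 1) = WeilCoh.dim X.scheme := hCd
    let U1 : X.scheme.Opens := U ⊓ ⟨(C : Set X.scheme)ᶜ, C.isClosed.isOpen_compl⟩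
    have hUj := BMCoh.containsFj_mono X hjm U hU
    have hU1 : BMCoh.ContainsFj X j U1 :=
      containsFj_inf X hUj (containsFj_compl X C.isClosed fun z hz => hCc z hz)
    have hU1' : U1 ≤ U' := fun z hz => not_not.1 fun h => hz.2 (hCU' h)
    have hb1 : rmap T X M i n (inf_le_left : U1 ≤ U) hU1 hU b = 0 :=
      ((rmap_rmap hle hU1' hU1 hU' hU b).symm.trans (congrArg _ hb)).trans (map_zero _)
    have hL : (C : Set X.scheme) ∩ U = (U : Set X.scheme) \ U1 := by
      ext z
      simp only [U1, Opens.coe_inf, Set.mem_inter_iff, Set.mem_sdiff, Opens.coe_mk, Set.mem_compl_iff]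
      tauto
    have hUP : BMCoh.ContainsFj P.obj m (P.ι ⁻¹ᵁ U) := fun p hp => hU _ (by
      rw [codim_piece_ι P hCd p]; omega)
    have hrc : BMCoh.relCodim (P.inter U).obj.scheme (X.res U).scheme = (j : ℤ) + 1 := by
      show (WeilCoh.dim (U : Scheme.{u}) : ℤ) - WeilCoh.dim ((P.ι ⁻¹ᵁ U : P.obj.scheme.Opens) : Scheme.{u}) = _
      rw [dim_res_of_containsFj X hU, dim_res_of_containsFj P.obj hUP]; omega
    obtain ⟨b', hb'⟩ := (exact_pp_apply T (decompOf (inf_le_left : U1 ≤ U)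
      ((dim_res_of_containsFj X hU1).trans (dim_res_of_containsFj X hU).symm) (P.inter U) hL) M
      (i - 2 * ((j : ℤ) + 1)) (n - ((j : ℤ) + 1)) i n
      (by show i = _ + 2 * BMCoh.relCodim (P.inter U).obj.scheme (X.res U).scheme; rw [hrc]; ring)
      (by show n = _ + BMCoh.relCodim (P.inter U).obj.scheme (X.res U).scheme; rw [hrc]; ring) b).1 hb1
    haveI := ModuleCat.subsingleton_of_isZero h0
    obtain ⟨W, hWle, hW, hWb⟩ := (fcls_eq_zero_iff hUP b').1
      (Subsingleton.elim (fcls T P.obj M _ _ (P.ι ⁻¹ᵁ U) hUP b') 0)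
    obtain ⟨V', hV', -, hVW⟩ := exists_open_extend X C hCd hW
    have hU2 : BMCoh.ContainsFj X (j + 1 + m) (U ⊓ V') := containsFj_inf X hU hV'
    refine (fcls_eq_zero_iff hU b).2 ⟨U ⊓ V', inf_le_left, hU2, ?_⟩
    have hU2P : BMCoh.ContainsFj P.obj m (P.ι ⁻¹ᵁ (U ⊓ V')) := fun p hp => hU2 _ (by
      rw [codim_piece_ι P hCd p]; omega)
    have hle2 : P.ι ⁻¹ᵁ (U ⊓ V') ≤ P.ι ⁻¹ᵁ U := fun p hp => hp.1
    have hle3 : P.ι ⁻¹ᵁ (U ⊓ V') ≤ W := fun p hp => hVW hp.2
    have hrc2 : BMCoh.relCodim (P.inter (U ⊓ V')).obj.scheme (X.res (U ⊓ V')).scheme = (j : ℤ) + 1 := by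
      show (WeilCoh.dim ((U ⊓ V' : X.scheme.Opens) : Scheme.{u}) : ℤ) -
        WeilCoh.dim ((P.ι ⁻¹ᵁ (U ⊓ V') : P.obj.scheme.Opens) : Scheme.{u}) = _
      rw [dim_res_of_containsFj X hU2, dim_res_of_containsFj P.obj hU2P]; omega
    haveI := isClosedImmersion_inter_ofClosed_toOpen X C U
    haveI := isClosedImmersion_inter_ofClosed_toOpen X C (U ⊓ V')
    have hzero : rmap T P.obj M _ _ hle2 hU2P hUP b' = 0 :=
      ((rmap_rmap hWle hle3 hU2P hW hUP b').symm.trans (congrArg _ hWb)).trans (map_zero _)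
    rw [← hb']
    refine (pull_push_open T (inf_le_left : U ⊓ V' ≤ U) _ (P.inter U) Set.inter_subset_right
      (P.inter (U ⊓ V')) (by
        rw [Set.inter_assoc, Set.inter_eq_self_of_subset_right
          (show ((U ⊓ V' : X.scheme.Opens) : Set X.scheme) ⊆ U from Set.inter_subset_left)])
      (P.obj.resLE hle2 ((dim_res_of_containsFj P.obj hU2P).trans (dim_res_of_containsFj P.obj hUP).symm))
      (by
        show P.obj.scheme.homOfLE hle2 ≫ (P.ι ⁻¹ᵁ U).ι ≫ P.ι = (P.ι ⁻¹ᵁ (U ⊓ V')).ι ≫ P.ι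
        rw [Scheme.homOfLE_ι_assoc])
      M _ _ i n _ _ (by rw [hrc2]; ring) (by rw [hrc2]; ring) b').trans ?_
    exact (congrArg _ hzero).trans (map_zero _)
  · intro α
    obtain ⟨U, hU, b, rfl⟩ := fcls_exists α
    obtain ⟨C, hCU, hCc, hCd⟩ := exists_closed_dim_eq X hd (Nat.succ_ne_zero j)
      U.isOpen.isClosed_compl (le_codim_of_compl X hU)
    obtain ⟨-, h1⟩ := hZ C hCd
    let P := Piece.ofClosed X C
    replace hCd : WeilCoh.dim P.obj.scheme + (j + 1) = WeilCoh.dim X.scheme := hCd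
    let U1 : X.scheme.Opens := ⟨(C : Set X.scheme)ᶜ, C.isClosed.isOpen_compl⟩
    have hU1 : BMCoh.ContainsFj X j U1 := containsFj_compl X C.isClosed fun z hz => hCc z hz
    have hU1U : U1 ≤ U := fun z hz => not_not.1 fun h => hz (hCU h)
    let a := rmap T X M i n hU1U hU1 hU b
    have htop : BMCoh.ContainsFj X j (⊤ : X.scheme.Opens) := fun _ _ => trivial
    have hL : (C : Set X.scheme) = ((⊤ : X.scheme.Opens) : Set X.scheme) \ U1 := by
      simp [U1]
    let D := decompOf (le_top : U1 ≤ ⊤)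
      ((dim_res_of_containsFj X hU1).trans (dim_res_of_containsFj X htop).symm) P hL
    have hcD : D.codim = (j : ℤ) + 1 := by
      show (WeilCoh.dim ((⊤ : X.scheme.Opens) : Scheme.{u}) : ℤ) - WeilCoh.dim P.obj.scheme = _
      rw [dim_res_of_containsFj X htop]; omega
    let z : T.gp P.obj M (i + 1 - 2 * ((j : ℤ) + 1)) (n - ((j : ℤ) + 1)) := T.res D M i n (i + 1 - 2 * ((j : ℤ) + 1)) (n - ((j : ℤ) + 1)) (by rw [hcD]) (by rw [hcD]) a
    haveI := ModuleCat.subsingleton_of_isZero h1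
    have htopP : BMCoh.ContainsFj P.obj m (⊤ : P.obj.scheme.Opens) := fun _ _ => trivial
    obtain ⟨W, hWtop, hW, hWz⟩ := (fcls_eq_zero_iff htopP _).1
      (Subsingleton.elim (fcls T P.obj M (i + 1 - 2 * ((j : ℤ) + 1)) (n - ((j : ℤ) + 1)) ⊤ htopP
        (T.pull P.obj.resTop M _ _ z)) 0)
    obtain ⟨V', hV', hCV, hVW⟩ := exists_open_extend X C hCd hW
    have hV'j := BMCoh.containsFj_mono X hjm V' hV'
    have hU1V : U1 ≤ V' := hCV
    have hVP : BMCoh.ContainsFj P.obj m (P.ι ⁻¹ᵁ V') := fun p hp => hV' _ (by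
      rw [codim_piece_ι P hCd p]; omega)
    have hL' : (C : Set X.scheme) ∩ V' = (V' : Set X.scheme) \ U1 := by
      ext z
      simp only [U1, Set.mem_inter_iff, Set.mem_sdiff, Opens.coe_mk, Set.mem_compl_iff]
      tauto
    let D' := decompOf hU1V
      ((dim_res_of_containsFj X hU1).trans (dim_res_of_containsFj X hV'j).symm) (P.inter V') hL'
    have hcD' : D'.codim = (j : ℤ) + 1 := by
      show (WeilCoh.dim (V' : Scheme.{u}) : ℤ) - WeilCoh.dim ((P.ι ⁻¹ᵁ V' : P.obj.scheme.Opens) : Scheme.{u}) = _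
      rw [dim_res_of_containsFj X hV'j, dim_res_of_containsFj P.obj hVP]; omega
    let gZ : (P.inter V').obj ⟶ P.obj := P.obj.resι (P.ι ⁻¹ᵁ V') (dim_res_of_containsFj P.obj hVP)
    have hrp := congr(($(T.res_pull D D'
      (X.resLE (le_top : V' ≤ ⊤) ((dim_res_of_containsFj X hV'j).trans (dim_res_of_containsFj X htop).symm))
      gZ (𝟙 _)
      (by
        show (P.ι ⁻¹ᵁ V').ι ≫ P.toOpen ⊤ (subset_of_eq_diff hL) =
          (P.inter V').toOpen V' (subset_of_eq_diff hL') ≫ X.scheme.homOfLE (le_top : V' ≤ ⊤)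
        exact (cancel_mono (⊤ : X.scheme.Opens).ι).1
          ((((Category.assoc _ _ _).trans (congrArg _ (Piece.toOpen_ι P ⊤ _))).trans
            ((Piece.toOpen_ι (P.inter V') V' _).symm : (P.ι ⁻¹ᵁ V').ι ≫ P.ι = _)).trans
          (((congrArg _ (Scheme.homOfLE_ι X.scheme _).symm)).trans (Category.assoc _ _ _).symm)))
      (BMCoh.Hom.ext (by
        show 𝟙 _ ≫ X.scheme.homOfLE (le_top : U1 ≤ ⊤) =
          X.scheme.homOfLE hU1V ≫ X.scheme.homOfLE (le_top : V' ≤ ⊤)
        rw [Category.id_comp, Scheme.homOfLE_homOfLE]))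
      M i n (i + 1 - 2 * ((j : ℤ) + 1)) (n - ((j : ℤ) + 1)) (by rw [hcD]) (by rw [hcD])
      (by rw [hcD']) (by rw [hcD']))) a)
    have hpz : T.pull gZ M _ _ z = 0 := by
      have h2 : rmap T P.obj M _ _ hVW hVP hW (rmap T P.obj M _ _ (le_top : W ≤ ⊤) hW htopP
          (T.pull P.obj.resTop M _ _ z)) = 0 := (congrArg _ hWz).trans (map_zero _)
      rw [rmap_rmap] at h2
      refine Eq.trans ?_ h2
      show T.pull gZ M _ _ z = T.pull (P.obj.resLE (le_top.trans' hVW) _) M _ _ (T.pull P.obj.resTop M _ _ z)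
      rw [pull_comp_apply]
      have he : gZ = P.obj.resLE (le_top.trans' hVW)
          ((dim_res_of_containsFj P.obj hVP).trans (dim_res_of_containsFj P.obj htopP).symm) ≫ P.obj.resTop :=
        BMCoh.Hom.ext (Scheme.homOfLE_ι P.obj.scheme (le_top.trans' hVW)).symm
      rw [he]
      rfl
    have hzero := (congrArg (T.res D' M i n (i + 1 - 2 * ((j : ℤ) + 1)) (n - ((j : ℤ) + 1))
      (by rw [hcD']) (by rw [hcD'])) (pull_id_apply T M i n a).symm).trans (hrp.symm.trans hpz)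
    obtain ⟨b', hb'⟩ := (exact_pr_apply T D' M i n _ _ _ _ a).1 hzero
    refine ⟨fcls T X M i n V' hV' b', ?_⟩
    rw [fjRes_fcls, ← fcls_rmap hU1V hU1 _ b', ← fcls_rmap hU1U hU1 hU b]
    exact congrArg _ hb'

end Groth.BMCohLib
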