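import Groth.Agent.BMCoh.Piece
import Groth.Prelude.Def_BMCoh4
import Mathlib.Algebra.Category.ModuleCat.FilteredColimits
import Mathlib.CategoryTheory.Limits.ConcreteCategory.Basic

/-!
# Elements of the open-system colimits of a theory

The groups of `F_jX` and of a point are filtered colimits; this file gives representatives, the
criterion for a representative to vanish, and the dimension of the opens in the index families.
-/

set_option autoImplicit false
universe u

open Topology TopologicalSpace AlgebraicGeometry CategoryTheory Limits Opposite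

namespace Groth.BMCohLib

variable {V : ObjectProperty Scheme.{u}} [BMCoh.IsConstructible V]

theorem dim_res_le (X : BMCoh.Obj V) (U : X.scheme.Opens) :
    WeilCoh.dim (U : Scheme.{u}) ≤ WeilCoh.dim X.scheme :=
  natDim_le_of_isInducing U.ι.isOpenEmbedding.isInducing (fin_dim X)

theorem pdim_le_dim_res (X : BMCoh.Obj V) (U : X.scheme.Opens) {x : X.scheme} (hx : x ∈ U) :
    WeilCoh.pdim X.scheme x ≤ WeilCoh.dim (U : Scheme.{u}) := by
  have h := pdim_le_dim (X.res U) ⟨x, hx⟩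
  rwa [← pdim_of_openImmersion X U.ι ⟨x, hx⟩] at h

theorem dim_res_of_containsFj (X : BMCoh.Obj V) {j : ℕ} {U : X.scheme.Opens}
    (hU : BMCoh.ContainsFj X j U) :
    WeilCoh.dim (U : Scheme.{u}) = WeilCoh.dim X.scheme := by
  refine le_antisymm (dim_res_le X U) ?_
  rcases isEmpty_or_nonempty X.scheme with hX | hX
  · rw [dim_of_isEmpty X]; exact Nat.zero_le _
  · obtain ⟨x, hx⟩ := exists_pdim_eq_dim X
    have hc := codim_add_pdim X x
    exact hx ▸ pdim_le_dim_res X U (hU x (by omega))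

theorem range_ptSubι (X : BMCoh.Obj V) (x : X.scheme) :
    Set.range (X.ptSubι x) = closure ({x} : Set X.scheme) := (Piece.ofPt X x).range_eq

theorem dim_ptSub (X : BMCoh.Obj V) (x : X.scheme) :
    WeilCoh.dim (X.ptSub x).scheme = WeilCoh.pdim X.scheme x :=
  (Piece.ofPt X x).dim_eq (fun _ hy => pdim_mono X (specializes_iff_mem_closure.2 hy))
    (subset_closure rfl) le_rfl

/-- The point of the closure of `x` lying over `x`. -/
noncomputable def genPt (X : BMCoh.Obj V) (x : X.scheme) : (X.ptSub x).scheme :=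
  ((Piece.ofPt X x).mem_iff x |>.1 (subset_closure rfl)).choose

theorem ptSubι_genPt (X : BMCoh.Obj V) (x : X.scheme) : X.ptSubι x (genPt X x) = x :=
  ((Piece.ofPt X x).mem_iff x |>.1 (subset_closure rfl)).choose_spec

theorem genPt_mem (X : BMCoh.Obj V) (x : X.scheme) {W : (X.ptSub x).scheme.Opens}
    (hW : (W : Set (X.ptSub x).scheme).Nonempty) : genPt X x ∈ W := by
  obtain ⟨p, hp⟩ := hW
  have h : genPt X x ⤳ p := by
    rw [← (X.ptSubι x).isEmbedding.isInducing.specializes_iff, ptSubι_genPt]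
    exact specializes_iff_mem_closure.2 ((Piece.ofPt X x).ι_mem p)
  exact h.mem_open W.2 hp

theorem dim_ptOpen (X : BMCoh.Obj V) (x : X.scheme) {W : (X.ptSub x).scheme.Opens}
    (hW : (W : Set (X.ptSub x).scheme).Nonempty) :
    WeilCoh.dim (W : Scheme.{u}) = WeilCoh.dim (X.ptSub x).scheme := by
  refine le_antisymm (dim_res_le _ W) ?_
  refine le_trans (le_of_eq ?_) (pdim_le_dim_res _ W (genPt_mem X x hW))
  rw [dim_ptSub, ← pdim_of_immersion X (X.ptSubι x), ptSubι_genPt]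

/-- An index family with intersections. -/
class DirectedIdx {X : BMCoh.Obj V} (P : X.scheme.Opens → Prop) : Prop where
  nonempty : Nonempty (BMCoh.Idx X P)
  inf : ∀ U U' : BMCoh.Idx X P, ∃ W : BMCoh.Idx X P, W.1 ≤ U.1 ∧ W.1 ≤ U'.1

instance directedIdx_fj (X : BMCoh.Obj V) (j : ℕ) : DirectedIdx (BMCoh.ContainsFj X j) where
  nonempty := ⟨⟨⊤, fun _ _ => trivial, BMCoh.dim_top _⟩⟩
  inf U U' := ⟨⟨U.1 ⊓ U'.1, fun y hy => ⟨U.2.1 y hy, U'.2.1 y hy⟩,
    dim_res_of_containsFj X (j := j) fun y hy => ⟨U.2.1 y hy, U'.2.1 y hy⟩⟩, inf_le_left, inf_le_right⟩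

instance directedIdx_pt (X : BMCoh.Obj V) (x : X.scheme) :
    DirectedIdx (fun W : (X.ptSub x).scheme.Opens => (W : Set (X.ptSub x).scheme).Nonempty) where
  nonempty := ⟨⟨⊤, ⟨genPt X x, trivial⟩, BMCoh.dim_top _⟩⟩
  inf U U' := ⟨⟨U.1 ⊓ U'.1, ⟨genPt X x, genPt_mem X x U.2.1, genPt_mem X x U'.2.1⟩,
    dim_ptOpen X x ⟨genPt X x, genPt_mem X x U.2.1, genPt_mem X x U'.2.1⟩⟩, inf_le_left, inf_le_right⟩

variable {R : Type u} [CommRing R] {A : BMCoh.Coefs R} (T : BMCoh.PreTheory V R A)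

theorem pull_comp_apply {X Y Z : BMCoh.Obj V} (f : X ⟶ Y) (g : Y ⟶ Z) (M : A.Cat) (i n : ℤ)
    (a : T.gp Z M i n) : T.pull f M i n (T.pull g M i n a) = T.pull (f ≫ g) M i n a := by
  simp [BMCoh.PreTheory.pull]

theorem pull_id_apply {X : BMCoh.Obj V} (M : A.Cat) (i n : ℤ)
    (a : T.gp X M i n) : T.pull (𝟙 X) M i n a = a := by
  simp [BMCoh.PreTheory.pull]

/-- The class in an open-system colimit. -/
noncomputable def ocls (X : BMCoh.Obj V) (P : X.scheme.Opens → Prop) (M : A.Cat) (i n : ℤ)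
    (U : BMCoh.Idx X P) : T.gp (X.res U.1) M i n →ₗ[R] (T.ocolim X P i n).obj M :=
  ((T.ocolimι X P i n U).app M).hom

theorem ocls_res (X : BMCoh.Obj V) (P : X.scheme.Opens → Prop) (M : A.Cat) (i n : ℤ)
    {U U' : BMCoh.Idx X P} (h : U'.1 ≤ U.1) (a : T.gp (X.res U.1) M i n) :
    ocls T X P M i n U' (T.pull (X.resLE h (U'.2.2.trans U.2.2.symm)) M i n a) =
      ocls T X P M i n U a := by
  have h' := colimit.w ((BMCoh.idxDiag X P).op ⋙ T.H i n) (homOfLE (show U' ≤ U from h)).op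
  exact congr(($(h').app M) a)

variable (X : BMCoh.Obj V) (P : X.scheme.Opens → Prop) [DirectedIdx P] (M : A.Cat) (i n : ℤ)

theorem isFiltered_idx : IsFiltered (BMCoh.Idx X P)ᵒᵖ := by
  haveI := DirectedIdx.nonempty (P := P)
  haveI : IsDirected (BMCoh.Idx X P) (· ≥ ·) := ⟨fun U U' => by
    obtain ⟨W, h, h'⟩ := DirectedIdx.inf U U'; exact ⟨W, h, h'⟩⟩
  infer_instance

theorem ocls_exists (a : (T.ocolim X P i n).obj M) :
    ∃ (U : BMCoh.Idx X P) (b : T.gp (X.res U.1) M i n), ocls T X P M i n U b = a := by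
  haveI := isFiltered_idx X P
  let F := (BMCoh.idxDiag X P).op ⋙ T.H i n
  obtain ⟨U, b, hb⟩ := Concrete.isColimit_exists_rep (F ⋙ (evaluation A.Cat (ModuleCat.{u} R)).obj M)
    (isColimitOfPreserves ((evaluation A.Cat (ModuleCat.{u} R)).obj M) (colimit.isColimit F)) a
  exact ⟨U.unop, b, hb⟩

theorem ocls_eq_zero_iff (U : BMCoh.Idx X P) (a : T.gp (X.res U.1) M i n) :
    ocls T X P M i n U a = 0 ↔ ∃ (U' : BMCoh.Idx X P) (h : U'.1 ≤ U.1),
      T.pull (X.resLE h (U'.2.2.trans U.2.2.symm)) M i n a = 0 := by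
  haveI := isFiltered_idx X P
  constructor
  · intro h
    let F := (BMCoh.idxDiag X P).op ⋙ T.H i n
    have hc := isColimitOfPreserves ((evaluation A.Cat (ModuleCat.{u} R)).obj M) (colimit.isColimit F)
    obtain ⟨W, f, g, hfg⟩ := Concrete.isColimit_exists_of_rep_eq
      (F ⋙ (evaluation A.Cat (ModuleCat.{u} R)).obj M) hc (i := op U) (j := op U) a 0
      (h.trans (map_zero (ocls T X P M i n U)).symm)
    rw [Subsingleton.elim g f] at hfg
    exact ⟨W.unop, leOfHom f.unop, hfg.trans (map_zero _)⟩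
  · rintro ⟨U', h, h0⟩
    rw [← ocls_res T X P M i n h, h0, map_zero]

section Fj

variable {T X M i n}

/-- The member of the index family of `F_jX` given by an open. -/
def fidx {j : ℕ} (U : X.scheme.Opens) (hU : BMCoh.ContainsFj X j U) :
    BMCoh.Idx X (BMCoh.ContainsFj X j) := ⟨U, hU, dim_res_of_containsFj X hU⟩

variable (T X M i n) in
/-- The class in `H(F_jX)`. -/
noncomputable def fcls {j : ℕ} (U : X.scheme.Opens) (hU : BMCoh.ContainsFj X j U) :
    T.gp (X.res U) M i n →ₗ[R] T.fjGp X j M i n :=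
  ocls T X _ M i n (fidx U hU)

variable (T X M i n) in
/-- Restriction between opens of the dimension of `X`. -/
noncomputable def rmap {U U' : X.scheme.Opens} (h : U' ≤ U) {j j' : ℕ}
    (hU' : BMCoh.ContainsFj X j' U') (hU : BMCoh.ContainsFj X j U) :
    T.gp (X.res U) M i n →ₗ[R] T.gp (X.res U') M i n :=
  (T.pull (X.resLE h ((dim_res_of_containsFj X hU').trans (dim_res_of_containsFj X hU).symm)) M i n).hom

theorem rmap_rmap {U U' U'' : X.scheme.Opens} (h : U' ≤ U) (h' : U'' ≤ U') {j j' j'' : ℕ}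
    (hU'' : BMCoh.ContainsFj X j'' U'') (hU' : BMCoh.ContainsFj X j' U')
    (hU : BMCoh.ContainsFj X j U) (a : T.gp (X.res U) M i n) :
    rmap T X M i n h' hU'' hU' (rmap T X M i n h hU' hU a) = rmap T X M i n (h'.trans h) hU'' hU a := by
  refine (pull_comp_apply T (X.resLE h' _) (X.resLE h _) M i n a).trans ?_
  have he : X.resLE h' ((dim_res_of_containsFj X hU'').trans (dim_res_of_containsFj X hU').symm) ≫
      X.resLE h ((dim_res_of_containsFj X hU').trans (dim_res_of_containsFj X hU).symm) =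
      X.resLE (h'.trans h) ((dim_res_of_containsFj X hU'').trans (dim_res_of_containsFj X hU).symm) :=
    BMCoh.Hom.ext (Scheme.homOfLE_homOfLE X.scheme h' h)
  rw [he]; rfl

theorem fcls_rmap {j : ℕ} {U U' : X.scheme.Opens} (h : U' ≤ U) (hU' : BMCoh.ContainsFj X j U')
    (hU : BMCoh.ContainsFj X j U) (a : T.gp (X.res U) M i n) :
    fcls T X M i n U' hU' (rmap T X M i n h hU' hU a) = fcls T X M i n U hU a :=
  ocls_res T X _ M i n (U := fidx U hU) (U' := fidx U' hU') h a

theorem fcls_exists {j : ℕ} (a : T.fjGp X j M i n) :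
    ∃ (U : X.scheme.Opens) (hU : BMCoh.ContainsFj X j U) (b : T.gp (X.res U) M i n),
      fcls T X M i n U hU b = a := by
  obtain ⟨U, b, hb⟩ := ocls_exists T X _ M i n a
  exact ⟨U.1, U.2.1, b, hb⟩

theorem fcls_eq_zero_iff {j : ℕ} {U : X.scheme.Opens} (hU : BMCoh.ContainsFj X j U)
    (a : T.gp (X.res U) M i n) :
    fcls T X M i n U hU a = 0 ↔ ∃ (U' : X.scheme.Opens) (h : U' ≤ U)
      (hU' : BMCoh.ContainsFj X j U'), rmap T X M i n h hU' hU a = 0 := by
  refine (ocls_eq_zero_iff T X _ M i n (fidx U hU) a).trans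
    ⟨fun ⟨U', h, h0⟩ => ⟨U'.1, h, U'.2.1, h0⟩, fun ⟨U', h, hU', h0⟩ => ⟨fidx U' hU', h, h0⟩⟩

theorem fjRes_fcls {j m : ℕ} (hjm : j ≤ m) {U : X.scheme.Opens} (hU : BMCoh.ContainsFj X m U)
    (a : T.gp (X.res U) M i n) :
    (T.fjRes X hjm i n).app M (fcls T X M i n U hU a) =
      fcls T X M i n U (BMCoh.containsFj_mono X hjm U hU) a := by
  have h := colimit.ι_pre ((BMCoh.idxDiag X (BMCoh.ContainsFj X j)).op ⋙ T.H i n)
    (BMCoh.idxIncl X (BMCoh.containsFj_mono X hjm)).op (op (fidx U hU))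
  exact congr(($(h).app M) a)

theorem toFj_apply {j : ℕ} (a : T.gp X M i n) :
    (T.toFj X j i n).app M a =
      fcls T X M i n ⊤ (fun _ _ => trivial) (T.pull X.resTop M i n a) := rfl

end Fj

section Pt

variable {T X M i n}

/-- The member of the index family of a point given by a nonempty open. -/
def pidx (x : X.scheme) (W : (X.ptSub x).scheme.Opens)
    (hW : (W : Set (X.ptSub x).scheme).Nonempty) : BMCoh.ptIdx X x := ⟨W, hW, dim_ptOpen X x hW⟩

variable (T X M i n) in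
/-- The class in the group of a point. -/
noncomputable def pcls (x : X.scheme) (W : BMCoh.ptIdx X x) :
    T.gp ((X.ptSub x).res W.1) M i n →ₗ[R] T.ptGp X x M i n :=
  ocls T (X.ptSub x) _ M i n W

theorem pcls_exists (x : X.scheme) (a : T.ptGp X x M i n) :
    ∃ (W : BMCoh.ptIdx X x) (b : T.gp ((X.ptSub x).res W.1) M i n), pcls T X M i n x W b = a :=
  ocls_exists T (X.ptSub x) _ M i n a

theorem pcls_res (x : X.scheme) {W W' : BMCoh.ptIdx X x} (h : W'.1 ≤ W.1)
    (a : T.gp ((X.ptSub x).res W.1) M i n) :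
    pcls T X M i n x W' (T.pull ((X.ptSub x).resLE h (W'.2.2.trans W.2.2.symm)) M i n a) =
      pcls T X M i n x W a :=
  ocls_res T (X.ptSub x) _ M i n h a

theorem pcls_eq_zero_iff (x : X.scheme) (W : BMCoh.ptIdx X x)
    (a : T.gp ((X.ptSub x).res W.1) M i n) :
    pcls T X M i n x W a = 0 ↔ ∃ (W' : BMCoh.ptIdx X x) (h : W'.1 ≤ W.1),
      T.pull ((X.ptSub x).resLE h (W'.2.2.trans W.2.2.symm)) M i n a = 0 :=
  ocls_eq_zero_iff T (X.ptSub x) _ M i n W a

end Pt

end Groth.BMCohLib
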