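import Groth.Agent.BMCoh.Exact

/-!
# Consequences of the exact sequences

The groups of `F_0X` for reduced `X`, bijectivity of restrictions from vanishing of groups of points,
vanishing in high and negative degrees, and restriction to opens with small complement.
-/

set_option autoImplicit false
universe u

open Topology TopologicalSpace AlgebraicGeometry CategoryTheory Limits Opposite DirectSum

namespace Groth.BMCohLib

variable {V : ObjectProperty Scheme.{u}} [BMCoh.IsConstructible V]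
variable {R : Type u} [CommRing R] {A : BMCoh.Coefs R} (T : BMCoh.PreTheory V R A)
variable (X : BMCoh.Obj V) (M : A.Cat)

/-! ### The push-forward classes -/

theorem genSet_eq_zero {c : ℕ} (i n i' n' : ℤ) (hi : i' = i + 2 * (c : ℤ)) (hn : n' = n + (c : ℤ))
    (h : ∀ x : X.scheme, WeilCoh.codim X.scheme x = c → IsZero (T.ptGp X x M i n))
    {α : T.fjGp X c M i' n'} (hα : α ∈ genSet T X M c i n i' n' hi hn) : α = 0 := by
  obtain ⟨x, W, hW, a, rfl⟩ := hα
  haveI := ModuleCat.subsingleton_of_isZero (h x.1 x.2)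
  exact fcls_pushPt_eq_zero T X M x.1 x.2 W hW _ i n i' n' hi hn a (Subsingleton.elim _ _)

theorem eq_zero_of_mem_span_genSet {c : ℕ} (i n i' n' : ℤ) (hi : i' = i + 2 * (c : ℤ))
    (hn : n' = n + (c : ℤ))
    (h : ∀ x : X.scheme, WeilCoh.codim X.scheme x = c → IsZero (T.ptGp X x M i n))
    {α : T.fjGp X c M i' n'} (hα : α ∈ Submodule.span R (genSet T X M c i n i' n' hi hn)) : α = 0 := by
  have : Submodule.span R (genSet T X M c i n i' n' hi hn) ≤ ⊥ :=
    Submodule.span_le.2 fun β hβ => by simpa using genSet_eq_zero T X M i n i' n' hi hn h hβ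
  simpa using this hα

theorem span_genSet_le_range {c : ℕ} (P : T.PushData X c) (i n i' n' : ℤ)
    (hi : i' = i + 2 * (c : ℤ)) (hn : n' = n + (c : ℤ)) :
    Submodule.span R (genSet T X M c i n i' n' hi hn) ≤
      LinearMap.range (P.tot M i n i' n' hi hn).hom := by
  classical
  refine Submodule.span_le.2 ?_
  rintro _ ⟨x, W, hW, a, rfl⟩
  refine ⟨DirectSum.lof R (X.cdPt c) (fun z : X.cdPt c => T.ptGp X z.1 M i n) x
    (vcls T X M x.1 W (hW x.1 x.2.le) i n a), ?_⟩
  refine (BMCoh.PreTheory.PushData.tot_lof P M i n i' n' hi hn x _).trans ?_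
  exact pushData_vcls T X M P x W hW hW (hW x.1 x.2.le) i n i' n' hi hn a

theorem fjRes_pushTot {j : ℕ} (P : T.PushData X (j + 1)) (i n i' n' : ℤ)
    (hi : i' = i + 2 * ((j + 1 : ℕ) : ℤ)) (hn : n' = n + ((j + 1 : ℕ) : ℤ))
    (ξ : T.ptSum X (j + 1) M i n) :
    (T.fjRes X (Nat.le_succ j) i' n').app M (P.tot M i n i' n' hi hn ξ) = 0 := by
  classical
  obtain ⟨S, hSc, hsupp⟩ := support_finset T X M ξ
  obtain ⟨W, hW, hreps⟩ := exists_reps T X M S hSc i n (fun x => ξ x)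
  obtain ⟨hg0, a0, ha0⟩ := hreps W hW le_rfl
  rw [pushData_tot_sum T X M P hi hn hg0 hW a0 ξ hsupp ha0, map_sum, map_sum]
  refine Finset.sum_eq_zero fun x _ => ?_
  exact fjRes_genSet T X M i n i' n' hi hn ⟨⟨x.1, hg0.codim x.1 x.2⟩, W, hW, a0 x, rfl⟩

/-! ### Restriction to the next smaller locus -/

theorem fjRes_injective {j : ℕ} (i n : ℤ)
    (h : ∀ x : X.scheme, WeilCoh.codim X.scheme x = j + 1 →
      IsZero (T.ptGp X x M (i - 2 * ((j : ℤ) + 1)) (n - ((j : ℤ) + 1)))) :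
    Function.Injective ((T.fjRes X (Nat.le_succ j) i n).app M) := by
  rw [injective_iff_map_eq_zero]
  intro β hβ
  exact eq_zero_of_mem_span_genSet T X M _ _ i n (by push_cast; ring) (by push_cast; ring) h
    (mem_span_of_fjRes_eq_zero T X M _ _ i n (by push_cast; ring) (by push_cast; ring) β hβ)

theorem fjRes_surjective {j : ℕ} (i n : ℤ)
    (h : ∀ x : X.scheme, WeilCoh.codim X.scheme x = j + 1 →
      IsZero (T.ptGp X x M (i + 1 - 2 * ((j : ℤ) + 1)) (n - ((j : ℤ) + 1)))) :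
    Function.Surjective ((T.fjRes X (Nat.le_succ j) i n).app M) := by
  intro α
  refine mem_range_of_resZero T X M i n _ _ rfl rfl α fun x U U1 hle hU1 hU hx hL hiD hnD a _ => ?_
  haveI := ModuleCat.subsingleton_of_isZero (h x.1 x.2)
  exact Subsingleton.elim _ _

/-! ### The groups of `F_0X` -/

theorem exists_cover_zero :
    ∃ (S : Finset X.scheme) (W : X.scheme.Opens), BMCoh.ContainsFj X 0 W ∧
      (∀ x, x ∈ S ↔ WeilCoh.codim X.scheme x = 0) ∧
      ∀ U : X.scheme.Opens, U ≤ W → BMCoh.ContainsFj X 0 U → IsGood X 0 U S ∧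
        ∀ z ∈ U, z ∈ (closuresOf X S : Set X.scheme) := by
  classical
  have hfin := finite_codim_eq X (C := Set.univ) (c := 0) isClosed_univ fun _ _ => Nat.zero_le _
  have hS : ∀ x, x ∈ hfin.toFinset ↔ WeilCoh.codim X.scheme x = 0 := fun x => by
    simp [Set.Finite.mem_toFinset]
  obtain ⟨W0, hW0, hgood⟩ := exists_good (X := X) hfin.toFinset (c := 0) fun x hx => (hS x).1 hx
  obtain ⟨G, hG⟩ := exists_finite_generators X (C := Set.univ) isClosed_univ
  let E : Set X.scheme := ⋃ g ∈ G.filter (fun g => WeilCoh.codim X.scheme g ≠ 0), closure {g}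
  have hE : IsClosed E := isClosed_biUnion_finset fun _ _ => isClosed_closure
  have hEc : ∀ z ∈ E, 0 < WeilCoh.codim X.scheme z := by
    intro z hz
    simp only [E, Set.mem_iUnion, Finset.mem_filter] at hz
    obtain ⟨g, ⟨_, hgc⟩, hzg⟩ := hz
    have := codim_mono X (specializes_iff_mem_closure.2 hzg)
    omega
  refine ⟨hfin.toFinset, W0 ⊓ ⟨Eᶜ, hE.isOpen_compl⟩, containsFj_inf X hW0 (containsFj_compl X hE hEc),
    hS, fun U hU hUF => ⟨hgood U (hU.trans inf_le_left) fun x hx => hUF x ((hS x).1 hx).le, ?_⟩⟩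
  intro z hz
  have hzu : z ∈ (Set.univ : Set X.scheme) := trivial
  rw [hG] at hzu
  simp only [Set.mem_iUnion] at hzu
  obtain ⟨g, hg, hzg⟩ := hzu
  refine (mem_closuresOf X).2 ⟨g, (hS g).2 ?_, hzg⟩
  by_contra hgc
  exact (hU hz).2 (Set.mem_biUnion (Finset.mem_filter.2 ⟨hg, hgc⟩) hzg)

theorem pushUnion_bijective [IsReduced X.scheme] {U : X.scheme.Opens} {S : Finset X.scheme}
    (hg : IsGood X 0 U S) (hne : S.Nonempty) (hU : BMCoh.ContainsFj X 0 U)
    (hcov : ∀ z ∈ U, z ∈ (closuresOf X S : Set X.scheme)) (i n i' n' : ℤ)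
    (hi : i' = i + 2 * ((0 : ℕ) : ℤ)) (hn : n' = n + ((0 : ℕ) : ℤ)) :
    Function.Bijective (hg.pushUnion T hne hU M i n i' n' hi hn) := by
  obtain rfl : i = i' := by rw [hi]; simp
  obtain rfl : n = n' := by rw [hn]; simp
  let f := (upiece X S U).toOpen U Set.inter_subset_right
  haveI : Surjective f := ⟨fun q => by
    show q ∈ Set.range f
    rw [Piece.range_toOpen]
    exact ⟨hcov _ q.2, q.2⟩⟩
  haveI : IsReduced (X.res U).scheme := isReduced_of_isOpenImmersion U.ι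
  haveI : IsIso f := isIso_of_isClosedImmersion_of_surjective f
  have hd : WeilCoh.dim (upiece X S U).obj.scheme = WeilCoh.dim (X.res U).scheme := by
    have := hg.dim_upiece hne
    show _ = WeilCoh.dim (U : Scheme.{u})
    rw [dim_res_of_containsFj X hU]; omega
  let g : (upiece X S U).obj ⟶ X.res U := ⟨f, inferInstance, hd⟩
  have hb := pull_bijective_of_isIso T g M i n
  have hself : ∀ δ, T.pull g M i n (hg.pushUnion T hne hU M i n i n hi hn δ) = δ :=
    fun δ => pull_push_self T f g rfl M i n _ _ δ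
  exact Function.bijective_iff_has_inverse.2 ⟨T.pull g M i n, hself, fun a => hb.1 (hself _)⟩

theorem fjGp_zero_subsingleton [IsEmpty X.scheme] {j : ℕ} (i n : ℤ) :
    Subsingleton (T.fjGp X j M i n) := by
  refine ⟨fun α β => ?_⟩
  suffices h : ∀ α : T.fjGp X j M i n, α = 0 by rw [h α, h β]
  intro α
  obtain ⟨U, hU, a, rfl⟩ := fcls_exists α
  haveI : IsEmpty (X.res U).scheme := ⟨fun q => isEmptyElim (U.ι q)⟩
  rw [(subsingleton_of_isEmpty T (X.res U) M i n).elim a 0, map_zero]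

theorem mem_span_genSet_zero [IsReduced X.scheme] (i n i' n' : ℤ)
    (hi : i' = i + 2 * ((0 : ℕ) : ℤ)) (hn : n' = n + ((0 : ℕ) : ℤ)) (α : T.fjGp X 0 M i' n') :
    α ∈ Submodule.span R (genSet T X M 0 i n i' n' hi hn) := by
  obtain ⟨U, hU, b, rfl⟩ := fcls_exists α
  obtain ⟨S, W, hW, hS, hcover⟩ := exists_cover_zero X
  rcases isEmpty_or_nonempty X.scheme with hX | hX
  · rw [(fjGp_zero_subsingleton T X M i' n').elim (fcls T X M i' n' U hU b) 0]
    exact zero_mem _
  have hne : S.Nonempty := by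
    obtain ⟨x, hx⟩ := exists_pdim_eq_dim X
    exact ⟨x, (hS x).2 (by have := codim_add_pdim X x; omega)⟩
  have hU' : BMCoh.ContainsFj X 0 (U ⊓ W) := containsFj_inf X hU hW
  obtain ⟨hg, hcov⟩ := hcover (U ⊓ W) inf_le_right hU'
  obtain ⟨δ, hδ⟩ := (pushUnion_bijective T X M hg hne hU' hcov i n i' n' hi hn).2
    (rmap T X M i' n' inf_le_left hU' hU b)
  rw [← fcls_rmap (inf_le_left : U ⊓ W ≤ U) hU' hU b, ← hδ, hg.eq_sum_pushIncl T M i n δ, map_sum,
    map_sum]
  refine Submodule.sum_mem _ fun x _ => Submodule.subset_span ?_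
  rw [hg.pushUnion_pushIncl T x.2]
  exact ⟨⟨x.1, hg.codim x.1 x.2⟩, U ⊓ W, hU', _, rfl⟩

theorem pushTot_zero_injective [IsReduced X.scheme] (P : T.PushData X 0) (i n i' n' : ℤ)
    (hi : i' = i + 2 * ((0 : ℕ) : ℤ)) (hn : n' = n + ((0 : ℕ) : ℤ)) :
    Function.Injective (P.tot M i n i' n' hi hn) := by
  classical
  rw [injective_iff_map_eq_zero]
  intro ξ hξ
  obtain ⟨S, W0, hW0, hS, hcover⟩ := exists_cover_zero X
  have hSc : ∀ x ∈ S, WeilCoh.codim X.scheme x = 0 := fun x hx => (hS x).1 hx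
  have hsupp : ∀ x : X.cdPt 0, x.1 ∉ S → ξ x = 0 := fun x hx => absurd ((hS x.1).2 x.2) hx
  obtain ⟨W, hW, hreps⟩ := exists_reps T X M S hSc i n (fun x => ξ x)
  obtain ⟨hg0, a0, ha0⟩ := hreps W hW le_rfl
  rw [pushData_tot_sum T X M P hi hn hg0 hW a0 ξ hsupp ha0, fcls_eq_zero_iff] at hξ
  obtain ⟨U', hle, hU', h0⟩ := hξ
  have hU2 : BMCoh.ContainsFj X 0 (U' ⊓ W0) := containsFj_inf X hU' hW0
  obtain ⟨hg, hcov⟩ := hcover (U' ⊓ W0) inf_le_right hU2
  refine DFinsupp.ext fun x => ?_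
  have hxS : x.1 ∈ S := (hS x.1).2 x.2
  have hne : S.Nonempty := ⟨x.1, hxS⟩
  have hle2 : U' ⊓ W0 ≤ W := inf_le_left.trans hle
  let a : ∀ y : {y // y ∈ S}, T.gp (ptp X y.1 (U' ⊓ W0)).obj M i n := fun y =>
    T.pull (pmap X y.1 (fun _ hp => ⟨hp.1, hle2 hp.2⟩) (hg.mem y.1 y.2)) M i n (a0 y)
  have hδ : hg.pushUnion T hne hU2 M i n i' n' hi hn
      (∑ y ∈ S.attach, hg.pushIncl T y.2 M i n (a y)) = 0 := by
    have h1 := congrArg (rmap T X M i' n' (inf_le_left : U' ⊓ W0 ≤ U') hU2 hU') h0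
    rw [map_zero] at h1
    rw [← h1, rmap_rmap, map_sum, map_sum]
    refine Finset.sum_congr rfl fun y _ => ?_
    rw [hg.pushUnion_pushIncl T y.2]
    exact (rmap_pushPt T X M y.1 _ hle2 hW hU2 (hg0.mem y.1 y.2) (hg.mem y.1 y.2) _ _ _ _ _ _ _).symm
  have hz := (pushUnion_bijective T X M hg hne hU2 hcov i n i' n' hi hn).1
    (hδ.trans (map_zero _).symm)
  have h3 := hg.pull_sum_pushIncl T M i n hxS a
  rw [hz, map_zero] at h3
  have h4 := vcls_pmap T X M x.1 (W := W) (W' := U' ⊓ W0) (fun _ hp => ⟨hp.1, hle2 hp.2⟩)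
    (hg.mem x.1 hxS) (hg0.mem x.1 hxS) i n (a0 ⟨x.1, hxS⟩)
  exact (((ha0 ⟨x.1, hxS⟩).symm.trans h4.symm).trans (congrArg _ h3.symm)).trans (map_zero _)

theorem fjGp_isZero [IsReduced X.scheme] (c : ℕ)
    (hc : ∀ (y : X.scheme) (i n : ℤ), (WeilCoh.pdim X.scheme y : ℤ) + c < i →
      IsZero (T.ptGp X y M i n)) (j : ℕ) :
    ∀ (i n : ℤ), (WeilCoh.dim X.scheme : ℤ) + j + c < i → ∀ α : T.fjGp X j M i n, α = 0 := by
  induction j with
  | zero =>
    intro i n hi α
    refine eq_zero_of_mem_span_genSet T X M i n i n (by simp) (by simp) (fun x hx => hc x i n ?_)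
      (mem_span_genSet_zero T X M i n i n (by simp) (by simp) α)
    have := codim_add_pdim X x
    omega
  | succ j ih =>
    intro i n hi α
    refine eq_zero_of_mem_span_genSet T X M (i - 2 * ((j + 1 : ℕ) : ℤ)) (n - ((j + 1 : ℕ) : ℤ)) i n
      (by ring) (by ring) (fun x hx => hc x _ _ ?_)
      (mem_span_of_fjRes_eq_zero T X M _ _ i n (by ring) (by ring) α (ih i n (by omega) _))
    have := codim_add_pdim X x
    omega

end Groth.BMCohLib
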