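import Groth.Agent.BMCoh.Multi

/-!
# The long exact sequence of the loci of bounded codimension

Exactness at the three spots, the kernel of restriction described by push-forward classes, extension
of classes with vanishing residues, and the description of the groups of `F_0X` for reduced `X`.
-/

set_option autoImplicit false
universe u

open Topology TopologicalSpace AlgebraicGeometry CategoryTheory Limits Opposite DirectSum

namespace Groth.BMCohLib

variable {V : ObjectProperty Scheme.{u}} [BMCoh.IsConstructible V]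
variable {R : Type u} [CommRing R] {A : BMCoh.Coefs R} (T : BMCoh.PreTheory V R A)
variable (X : BMCoh.Obj V) (M : A.Cat)

theorem pmap_comp (x : X.scheme) {W W' W'' : X.scheme.Opens}
    (h : closure {x} ∩ (W' : Set X.scheme) ⊆ closure {x} ∩ W)
    (h' : closure {x} ∩ (W'' : Set X.scheme) ⊆ closure {x} ∩ W') (hx : x ∈ W') (hx' : x ∈ W'') :
    pmap X x h' hx' ≫ pmap X x h hx = pmap X x (h'.trans h) hx' :=
  (ptp X x W).hom_ext _ _ (by
    simp only [BMCoh.comp_hom, Category.assoc, pmap_ι])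

/-! ### The kernel of restriction -/

/-- The push-forward classes from points of codimension `c`. -/
def genSet (c : ℕ) (i n i' n' : ℤ) (hi : i' = i + 2 * (c : ℤ)) (hn : n' = n + (c : ℤ)) :
    Set (T.fjGp X c M i' n') :=
  {α | ∃ (x : X.cdPt c) (W : X.scheme.Opens) (hW : BMCoh.ContainsFj X c W)
    (a : T.gp (ptp X x.1 W).obj M i n),
    α = fcls T X M i' n' W hW (pushPt T X M x.1 x.2 W hW (hW x.1 x.2.le) i n i' n' hi hn a)}

theorem fjRes_genSet {j : ℕ} (i n i' n' : ℤ) (hi : i' = i + 2 * ((j + 1 : ℕ) : ℤ))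
    (hn : n' = n + ((j + 1 : ℕ) : ℤ)) {α : T.fjGp X (j + 1) M i' n'}
    (hα : α ∈ genSet T X M (j + 1) i n i' n' hi hn) :
    (T.fjRes X (Nat.le_succ j) i' n').app M α = 0 := by
  obtain ⟨x, W, hW, a, rfl⟩ := hα
  have hW' := BMCoh.containsFj_mono X (Nat.le_succ j) W hW
  have hU1 : BMCoh.ContainsFj X j (deletePt X W x.1) :=
    containsFj_deletePt X hW' (by rw [x.2]; omega)
  rw [fjRes_fcls, ← fcls_rmap (inf_le_left : deletePt X W x.1 ≤ W) hU1 hW']
  refine (congrArg _ ?_).trans (map_zero _)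
  exact pull_push_eq_zero T (decompOf inf_le_left
    ((dim_res_of_containsFj X hU1).trans (dim_res_of_containsFj X hW').symm)
    (ptp X x.1 W) (diff_deletePt X W x.1)) M i n i' n' _ _ a

theorem fcls_mem_span_of_rmap_eq_zero {j : ℕ} (i n i' n' : ℤ)
    (hi : i' = i + 2 * ((j + 1 : ℕ) : ℤ)) (hn : n' = n + ((j + 1 : ℕ) : ℤ)) (N : ℕ) :
    ∀ (U U' : X.scheme.Opens) (hle : U' ≤ U) (hU : BMCoh.ContainsFj X (j + 1) U)
      (hU' : BMCoh.ContainsFj X j U'),
    {z | WeilCoh.codim X.scheme z = j + 1 ∧ z ∈ U ∧ z ∉ U'}.ncard ≤ N →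
    ∀ b : T.gp (X.res U) M i' n', rmap T X M i' n' hle hU' hU b = 0 →
    fcls T X M i' n' U hU b ∈ Submodule.span R (genSet T X M (j + 1) i n i' n' hi hn) := by
  induction N with
  | zero =>
    intro U U' hle hU hU' hN b hb
    have hfin : {z | WeilCoh.codim X.scheme z = j + 1 ∧ z ∈ U ∧ z ∉ U'}.Finite :=
      (finite_codim_eq X U'.isOpen.isClosed_compl (le_codim_of_compl X hU')).subset
        fun z ⟨h1, _, h3⟩ => ⟨h3, h1⟩
    rw [Nat.le_zero, Set.ncard_eq_zero hfin, Set.eq_empty_iff_forall_notMem] at hN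
    have hU'' : BMCoh.ContainsFj X (j + 1) U' := fun y hy => by
      rcases Nat.lt_or_ge (WeilCoh.codim X.scheme y) (j + 1) with h | h
      · exact hU' y (by omega)
      · by_contra hy'; exact hN y ⟨le_antisymm hy h, hU y hy, hy'⟩
    rw [(fcls_eq_zero_iff hU b).2 ⟨U', hle, hU'', hb⟩]
    exact zero_mem _
  | succ N ih =>
    intro U U' hle hU hU' hN b hb
    have hfin : {z | WeilCoh.codim X.scheme z = j + 1 ∧ z ∈ U ∧ z ∉ U'}.Finite :=
      (finite_codim_eq X U'.isOpen.isClosed_compl (le_codim_of_compl X hU')).subset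
        fun z ⟨h1, _, h3⟩ => ⟨h3, h1⟩
    rcases {z | WeilCoh.codim X.scheme z = j + 1 ∧ z ∈ U ∧ z ∉ U'}.eq_empty_or_nonempty with he | ⟨x, hxc, hxU, hxU'⟩
    · exact ih U U' hle hU hU' (by rw [he]; simp) b hb
    obtain ⟨W0, hxW0, hW0, hW0eq⟩ := exists_attach X U'.isOpen.isClosed_compl
      (le_codim_of_compl X hU') hxU' hxc
    let V1 := W0 ⊓ U
    have hU'V1 : U' ≤ V1 := fun z hz => ⟨hW0 (fun h => h hz), hle hz⟩
    have hV1 : BMCoh.ContainsFj X j V1 := fun y hy => hU'V1 (hU' y hy)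
    have hxV1 : x ∈ V1 := ⟨hxW0, hxU⟩
    have hL : closure {x} ∩ (V1 : Set X.scheme) = (V1 : Set X.scheme) \ U' := by
      ext z
      simp only [V1, Opens.coe_inf, Set.mem_inter_iff, Set.mem_sdiff]
      constructor
      · rintro ⟨hz, hzW, hzU⟩
        exact ⟨⟨hzW, hzU⟩, (hW0eq.superset ⟨hz, hzW⟩).1⟩
      · rintro ⟨⟨hzW, hzU⟩, hz'⟩
        exact ⟨(hW0eq.subset ⟨hz', hzW⟩).1, hzW, hzU⟩
    have hc := relCodim_ptp X hxc hxV1 hV1
    let D := decompOf hU'V1
      ((dim_res_of_containsFj X hU').trans (dim_res_of_containsFj X hV1).symm) (ptp X x V1) hL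
    have hb' : T.pull D.j M i' n' (rmap T X M i' n' (inf_le_right : V1 ≤ U) hV1 hU b) = 0 := by
      refine Eq.trans ?_ hb
      exact rmap_rmap (T := T) (M := M) (i := i') (n := n') (inf_le_right : V1 ≤ U) hU'V1 hU' hV1 hU b
    obtain ⟨a, ha⟩ := (exact_pp_apply T D M i n i' n'
      (by show i' = i + 2 * BMCoh.relCodim (ptp X x V1).obj.scheme (X.res V1).scheme; rw [hc]; exact hi)
      (by show n' = n + BMCoh.relCodim (ptp X x V1).obj.scheme (X.res V1).scheme; rw [hc]; exact hn)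
      _).1 hb'
    obtain ⟨W, hW, c, hcα⟩ := vcls_exists T X M x hxc i n (vcls T X M x V1 hxV1 i n a)
    have hxW := hW x hxc.le
    have hs : closure {x} ∩ ((V1 ⊓ W : X.scheme.Opens) : Set X.scheme) ⊆ closure {x} ∩ V1 :=
      fun _ hp => ⟨hp.1, hp.2.1⟩
    have hs' : closure {x} ∩ ((V1 ⊓ W : X.scheme.Opens) : Set X.scheme) ⊆ closure {x} ∩ W :=
      fun _ hp => ⟨hp.1, hp.2.2⟩
    have hxVW : x ∈ V1 ⊓ W := ⟨hxV1, hxW⟩
    have hdiff : vcls T X M x (V1 ⊓ W) hxVW i n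
        (T.pull (pmap X x hs hxVW) M i n a - T.pull (pmap X x hs' hxVW) M i n c) = 0 :=
      ((map_sub _ _ _).trans (congrArg₂ (· - ·) (vcls_pmap T X M x hs hxVW hxV1 i n a)
        ((vcls_pmap T X M x hs' hxVW hxW i n c).trans hcα))).trans (sub_self _)
    obtain ⟨W'', hW'', h0⟩ := vcls_eq_zero T X M x hxc _ _ hdiff
    let U2 := U ⊓ W ⊓ W''
    let V2 := V1 ⊓ W ⊓ W''
    have hU2 : BMCoh.ContainsFj X (j + 1) U2 := containsFj_inf X (containsFj_inf X hU hW) hW''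
    have hV2 : BMCoh.ContainsFj X j V2 := containsFj_inf X (containsFj_inf X hV1
      (BMCoh.containsFj_mono X (Nat.le_succ j) W hW)) (BMCoh.containsFj_mono X (Nat.le_succ j) W'' hW'')
    have hxU2 : x ∈ U2 := ⟨⟨hxU, hxW⟩, hW'' x hxc.le⟩
    have hxV2 : x ∈ V2 := ⟨⟨hxV1, hxW⟩, hW'' x hxc.le⟩
    have hUU2 : U2 ≤ U := inf_le_left.trans inf_le_left
    have hWU2 : U2 ≤ W := inf_le_left.trans inf_le_right
    have hV2U2 : V2 ≤ U2 := fun z hz => ⟨⟨hz.1.1.2, hz.1.2⟩, hz.2⟩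
    have key : fcls T X M i' n' U2 hU2 (rmap T X M i' n' hUU2 hU2 hU b -
        rmap T X M i' n' hWU2 hU2 hW (pushPt T X M x hxc W hW hxW i n i' n' hi hn c)) ∈
        Submodule.span R (genSet T X M (j + 1) i n i' n' hi hn) := by
      refine ih U2 V2 hV2U2 hU2 hV2 ?_ _ ?_
      · have hlt : {z | WeilCoh.codim X.scheme z = j + 1 ∧ z ∈ U2 ∧ z ∉ V2} ⊂
            {z | WeilCoh.codim X.scheme z = j + 1 ∧ z ∈ U ∧ z ∉ U'} := by
          refine Set.ssubset_iff_subset_ne.2 ⟨fun z ⟨h1, h2, h3⟩ => ⟨h1, hUU2 h2, fun hz =>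
            h3 ⟨⟨hU'V1 hz, h2.1.2⟩, h2.2⟩⟩, fun he => ?_⟩
          exact ((Set.ext_iff.1 he x).2 ⟨hxc, hxU, hxU'⟩).2.2 hxV2
        have := Set.ncard_lt_ncard hlt hfin
        omega
      · rw [map_sub, rmap_rmap, rmap_rmap, sub_eq_zero]
        rw [← rmap_rmap (inf_le_right : V1 ≤ U)
          (fun _ hz => hz.1.1 : V2 ≤ V1) hV2 hV1 hU b]
        rw [rmap_pushPt T X M x hxc (hV2U2.trans hWU2) hW hV2 hxW hxV2, ← ha]
        refine (rmap_pushPt T X M x hxc (fun _ hz => hz.1.1 : V2 ≤ V1) hV1 hV2 hxV1 hxV2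
          i n i' n' hi hn a).trans (congrArg _ ?_)
        have hs2 : closure {x} ∩ (V2 : Set X.scheme) ⊆ closure {x} ∩ ((V1 ⊓ W : X.scheme.Opens) : Set X.scheme) :=
          fun _ hp => ⟨hp.1, hp.2.1⟩
        have h2 := (map_sub _ _ _).symm.trans (h0 V2 hs2 hxV2 (fun _ hp => ⟨hp.1, hp.2.2⟩))
        have e1 := pull_comp_apply T (pmap X x hs2 hxV2) (pmap X x hs hxVW) M i n a
        have e2 := pull_comp_apply T (pmap X x hs2 hxV2) (pmap X x hs' hxVW) M i n c
        rw [pmap_comp X x hs hs2 hxVW hxV2] at e1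
        rw [pmap_comp X x hs' hs2 hxVW hxV2] at e2
        exact e1.symm.trans ((sub_eq_zero.1 h2).trans e2)
    rw [map_sub, fcls_rmap, fcls_rmap] at key
    have hgen : fcls T X M i' n' W hW (pushPt T X M x hxc W hW hxW i n i' n' hi hn c) ∈
        Submodule.span R (genSet T X M (j + 1) i n i' n' hi hn) :=
      Submodule.subset_span ⟨⟨x, hxc⟩, W, hW, c, rfl⟩
    simpa using add_mem key hgen

theorem mem_span_of_fjRes_eq_zero {j : ℕ} (i n i' n' : ℤ) (hi : i' = i + 2 * ((j + 1 : ℕ) : ℤ))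
    (hn : n' = n + ((j + 1 : ℕ) : ℤ)) (β : T.fjGp X (j + 1) M i' n')
    (hβ : (T.fjRes X (Nat.le_succ j) i' n').app M β = 0) :
    β ∈ Submodule.span R (genSet T X M (j + 1) i n i' n' hi hn) := by
  obtain ⟨U, hU, b, rfl⟩ := fcls_exists β
  rw [fjRes_fcls, fcls_eq_zero_iff] at hβ
  obtain ⟨U', hle, hU', hb⟩ := hβ
  exact fcls_mem_span_of_rmap_eq_zero T X M i n i' n' hi hn _ U U' hle hU hU' le_rfl b hb

/-! ### Extension of classes with vanishing residues -/

/-- All residues of the class at points of codimension `j + 1` vanish. -/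
def ResZero (j : ℕ) (i n i' n' : ℤ) (α : T.fjGp X j M i n) : Prop :=
  ∀ (x : X.cdPt (j + 1)) (U U1 : X.scheme.Opens) (hle : U1 ≤ U) (hU1 : BMCoh.ContainsFj X j U1)
    (hU : BMCoh.ContainsFj X j U) (hx : x.1 ∈ U)
    (hL : closure {x.1} ∩ (U : Set X.scheme) = (U : Set X.scheme) \ U1)
    (hiD : i' = i + 1 - 2 * BMCoh.relCodim (ptp X x.1 U).obj.scheme (X.res U).scheme)
    (hnD : n' = n - BMCoh.relCodim (ptp X x.1 U).obj.scheme (X.res U).scheme)
    (a : T.gp (X.res U1) M i n), fcls T X M i n U1 hU1 a = α →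
    vcls T X M x.1 U hx i' n' (T.res
      (decompOf hle ((dim_res_of_containsFj X hU1).trans (dim_res_of_containsFj X hU).symm)
        (ptp X x.1 U) hL) M i n i' n' hiD hnD a) = 0

theorem fcls_mem_range_of_resZero {j : ℕ} (i n i' n' : ℤ) (hi : i' = i + 1 - 2 * ((j : ℤ) + 1))
    (hn : n' = n - ((j : ℤ) + 1)) (N : ℕ) :
    ∀ (U : X.scheme.Opens) (hU : BMCoh.ContainsFj X j U),
    {z | WeilCoh.codim X.scheme z = j + 1 ∧ z ∉ U}.ncard ≤ N →
    ∀ a : T.gp (X.res U) M i n, ResZero T X M j i n i' n' (fcls T X M i n U hU a) →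
    ∃ β, (T.fjRes X (Nat.le_succ j) i n).app M β = fcls T X M i n U hU a := by
  induction N with
  | zero =>
    intro U hU hN a ha
    have hfin : {z | WeilCoh.codim X.scheme z = j + 1 ∧ z ∉ U}.Finite :=
      (finite_codim_eq X U.isOpen.isClosed_compl (le_codim_of_compl X hU)).subset
        fun z ⟨h1, h3⟩ => ⟨h3, h1⟩
    rw [Nat.le_zero, Set.ncard_eq_zero hfin, Set.eq_empty_iff_forall_notMem] at hN
    have hU'' : BMCoh.ContainsFj X (j + 1) U := fun y hy => by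
      rcases Nat.lt_or_ge (WeilCoh.codim X.scheme y) (j + 1) with h | h
      · exact hU y (by omega)
      · by_contra hy'; exact hN y ⟨le_antisymm hy h, hy'⟩
    exact ⟨fcls T X M i n U hU'' a, fjRes_fcls _ hU'' a⟩
  | succ N ih =>
    intro U hU hN a ha
    have hfin : {z | WeilCoh.codim X.scheme z = j + 1 ∧ z ∉ U}.Finite :=
      (finite_codim_eq X U.isOpen.isClosed_compl (le_codim_of_compl X hU)).subset
        fun z ⟨h1, h3⟩ => ⟨h3, h1⟩
    rcases {z | WeilCoh.codim X.scheme z = j + 1 ∧ z ∉ U}.eq_empty_or_nonempty with he | ⟨x, hxc, hxU⟩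
    · exact ih U hU (by rw [he]; simp) a ha
    obtain ⟨W0, hxW0, hW0, hW0eq⟩ := exists_attach X U.isOpen.isClosed_compl
      (le_codim_of_compl X hU) hxU hxc
    have hUW0 : U ≤ W0 := fun z hz => hW0 (fun h => h hz)
    have hW0F : BMCoh.ContainsFj X j W0 := fun y hy => hUW0 (hU y hy)
    have hsub : closure {x} ⊆ (U : Set X.scheme)ᶜ :=
      U.isOpen.isClosed_compl.closure_subset_iff.2 (Set.singleton_subset_iff.2 hxU)
    have hL : closure {x} ∩ (W0 : Set X.scheme) = (W0 : Set X.scheme) \ U := by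
      rw [← hW0eq, Set.inter_comm]; rfl
    have hc := relCodim_ptp X hxc hxW0 hW0F
    have hiD : i' = i + 1 - 2 * BMCoh.relCodim (ptp X x W0).obj.scheme (X.res W0).scheme := by
      rw [hc]; push_cast; exact hi
    have hnD : n' = n - BMCoh.relCodim (ptp X x W0).obj.scheme (X.res W0).scheme := by
      rw [hc]; push_cast; exact hn
    obtain ⟨W'', hW'', h0⟩ := vcls_eq_zero T X M x hxc hxW0 _
      (ha ⟨x, hxc⟩ W0 U hUW0 hU hW0F hxW0 hL hiD hnD a rfl)
    let V' := U ⊔ (W0 ⊓ W'')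
    have hV'W0 : V' ≤ W0 := sup_le hUW0 inf_le_left
    have hV'F : BMCoh.ContainsFj X j V' := fun y hy => Or.inl (hU y hy)
    have hxV' : x ∈ V' := Or.inr ⟨hxW0, hW'' x hxc.le⟩
    have hUV' : U ≤ V' := le_sup_left
    have hL' : closure {x} ∩ (V' : Set X.scheme) = (V' : Set X.scheme) \ U := by
      ext z
      constructor
      · rintro ⟨hz, hzV⟩; exact ⟨hzV, hsub hz⟩
      · rintro ⟨hzV, hzU⟩
        exact ⟨(hL.superset ⟨hV'W0 hzV, hzU⟩).1, hzV⟩
    have hs : closure {x} ∩ (V' : Set X.scheme) ⊆ closure {x} ∩ W'' := by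
      rintro z ⟨hz, hzV⟩
      exact ⟨hz, (hzV.resolve_left (hsub hz)).2⟩
    have hs0 : closure {x} ∩ (V' : Set X.scheme) ⊆ closure {x} ∩ W0 :=
      fun _ hp => ⟨hp.1, hV'W0 hp.2⟩
    have hc' := relCodim_ptp X hxc hxV' hV'F
    let D := decompOf hUW0 ((dim_res_of_containsFj X hU).trans (dim_res_of_containsFj X hW0F).symm)
      (ptp X x W0) hL
    let D' := decompOf hUV' ((dim_res_of_containsFj X hU).trans (dim_res_of_containsFj X hV'F).symm)
      (ptp X x V') hL'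
    have hrp := congr(($(T.res_pull D D'
      (X.resLE hV'W0 ((dim_res_of_containsFj X hV'F).trans (dim_res_of_containsFj X hW0F).symm))
      (pmap X x hs0 hxV') (𝟙 _)
      (by
        show (pmap X x hs0 hxV').hom ≫ (ptp X x W0).toOpen W0 (subset_of_eq_diff hL) =
          (ptp X x V').toOpen V' (subset_of_eq_diff hL') ≫ X.scheme.homOfLE hV'W0
        rw [← cancel_mono W0.ι, Category.assoc, Category.assoc, Piece.toOpen_ι, Scheme.homOfLE_ι,
          Piece.toOpen_ι, pmap_ι])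
      (BMCoh.Hom.ext (by
        show 𝟙 _ ≫ X.scheme.homOfLE hUW0 = X.scheme.homOfLE hUV' ≫ X.scheme.homOfLE hV'W0
        rw [Category.id_comp, Scheme.homOfLE_homOfLE]))
      M i n i' n' hiD hnD
      (by show i' = i + 1 - 2 * BMCoh.relCodim (ptp X x V').obj.scheme (X.res V').scheme
          rw [hc']; push_cast; exact hi)
      (by show n' = n - BMCoh.relCodim (ptp X x V').obj.scheme (X.res V').scheme
          rw [hc']; push_cast; exact hn))) a)
    have hzero := (congrArg (T.res D' M i n i' n' _ _) (pull_id_apply T M i n a).symm).trans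
      (hrp.symm.trans (h0 V' hs0 hxV' hs))
    obtain ⟨b, hb⟩ := (exact_pr_apply T D' M i n i' n' _ _ a).1 hzero
    have heq : fcls T X M i n V' hV'F b = fcls T X M i n U hU a := by
      rw [← fcls_rmap hUV' hU hV'F b]
      exact congrArg _ hb
    obtain ⟨β, hβ⟩ := ih V' hV'F (by
      have hlt : {z | WeilCoh.codim X.scheme z = j + 1 ∧ z ∉ V'} ⊂
          {z | WeilCoh.codim X.scheme z = j + 1 ∧ z ∉ U} := by
        refine Set.ssubset_iff_subset_ne.2 ⟨fun z ⟨h1, h2⟩ => ⟨h1, fun hz => h2 (hUV' hz)⟩, fun he => ?_⟩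
        exact ((Set.ext_iff.1 he x).2 ⟨hxc, hxU⟩).2 hxV'
      have := Set.ncard_lt_ncard hlt hfin
      omega) b (heq ▸ ha)
    exact ⟨β, hβ.trans heq⟩

theorem mem_range_of_resZero {j : ℕ} (i n i' n' : ℤ) (hi : i' = i + 1 - 2 * ((j : ℤ) + 1))
    (hn : n' = n - ((j : ℤ) + 1)) (α : T.fjGp X j M i n) (h : ResZero T X M j i n i' n' α) :
    ∃ β, (T.fjRes X (Nat.le_succ j) i n).app M β = α := by
  obtain ⟨U, hU, a, rfl⟩ := fcls_exists α
  exact fcls_mem_range_of_resZero T X M i n i' n' hi hn _ U hU le_rfl a h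

theorem resData_fjRes {j : ℕ} (Q : T.ResData X j) (x : X.cdPt (j + 1)) (i n i' n' : ℤ)
    (hi : i' = i + 1 - 2 * ((j : ℤ) + 1)) (hn : n' = n - ((j : ℤ) + 1))
    (β : T.fjGp X (j + 1) M i n) :
    Q.cpt x M i n i' n' hi hn ((T.fjRes X (Nat.le_succ j) i n).app M β) = 0 := by
  obtain ⟨U, hU, b, rfl⟩ := fcls_exists β
  rw [fjRes_fcls]
  exact resData_eq_zero_of_mem T X M Q x _ (hU x.1 x.2.le) i n i' n' hi hn b

theorem resZero_of_resData {j : ℕ} (Q : T.ResData X j) (i n i' n' : ℤ)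
    (hi : i' = i + 1 - 2 * ((j : ℤ) + 1)) (hn : n' = n - ((j : ℤ) + 1)) (α : T.fjGp X j M i n)
    (h : ∀ x, Q.cpt x M i n i' n' hi hn α = 0) : ResZero T X M j i n i' n' α := by
  intro x U U1 hle hU1 hU hx hL hiD hnD a ha
  have h2 := resData_piece T X M Q x hle hU1 hU (ptp X x.1 U) hL hx (𝟙 _) (Category.id_comp _)
    i n i' n' hi hn hiD hnD a
  rw [ha, h x] at h2
  exact (h2.trans (congrArg _ (pull_id_apply T M i' n' _))).symm

/-! ### Sums over points -/

theorem ptSum_eq_sum {c : ℕ} [DecidableEq (X.cdPt c)] {i n : ℤ} (ξ : T.ptSum X c M i n)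
    (s : Finset (X.cdPt c)) (hs : ∀ x, x ∉ s → ξ x = 0) :
    ξ = ∑ x ∈ s, DirectSum.lof R (X.cdPt c) (fun z : X.cdPt c => T.ptGp X z.1 M i n) x (ξ x) := by
  refine DFinsupp.ext fun y => ?_
  rw [DFinsupp.finset_sum_apply]
  by_cases hy : y ∈ s
  · rw [Finset.sum_eq_single y (fun z _ hz => ?_) (fun h => absurd hy h)]
    · exact (DirectSum.lof_apply (M := fun z : X.cdPt c => T.ptGp X z.1 M i n) R y (ξ y)).symm
    · exact DFinsupp.single_eq_of_ne hz.symm
  · rw [hs y hy, Finset.sum_eq_zero]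
    intro z hz
    exact DFinsupp.single_eq_of_ne (fun h => hy (h ▸ hz))

theorem containsFj_finset_inf {α : Type*} (s : Finset α) {j : ℕ} (W : α → X.scheme.Opens)
    (h : ∀ a ∈ s, BMCoh.ContainsFj X j (W a)) : BMCoh.ContainsFj X j (s.inf W) := by
  intro y hy
  rw [← SetLike.mem_coe, Opens.coe_finset_inf]
  simpa using fun a ha => h a ha y hy

/-- Any open containing `F_c`, small enough, carries representatives of finitely many point classes. -/
theorem exists_reps {c : ℕ} (S : Finset X.scheme) (hS : ∀ x ∈ S, WeilCoh.codim X.scheme x = c)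
    (i n : ℤ) (γ : ∀ x : X.cdPt c, T.ptGp X x.1 M i n) :
    ∃ W : X.scheme.Opens, BMCoh.ContainsFj X c W ∧
      ∀ (U : X.scheme.Opens) (hU : BMCoh.ContainsFj X c U), U ≤ W →
        IsGood X c U S ∧ ∃ a : ∀ x : {x // x ∈ S}, T.gp (ptp X x.1 U).obj M i n,
          ∀ x : {x // x ∈ S}, vcls T X M x.1 U (hU x.1 (hS x.1 x.2).le) i n (a x) =
            γ ⟨x.1, hS x.1 x.2⟩ := by
  obtain ⟨W0, hW0, hgood⟩ := exists_good (X := X) S hS
  have hex := fun x : X.cdPt c => vcls_exists T X M x.1 x.2 i n (γ x)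
  choose W hW a ha using hex
  refine ⟨W0 ⊓ S.attach.inf (fun x => W ⟨x.1, hS x.1 x.2⟩),
    containsFj_inf X hW0 (containsFj_finset_inf X _ _ fun x _ => hW _), fun U hU hle => ?_⟩
  have hleW : ∀ x : {x // x ∈ S}, U ≤ W ⟨x.1, hS x.1 x.2⟩ := fun x =>
    hle.trans (inf_le_right.trans (Finset.inf_le (Finset.mem_attach S x)))
  refine ⟨hgood U (hle.trans inf_le_left) (fun x hx => hU x (hS x hx).le),
    fun x => T.pull (pmap X x.1 (fun _ hp => ⟨hp.1, hleW x hp.2⟩) (hU x.1 (hS x.1 x.2).le)) M i n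
      (a ⟨x.1, hS x.1 x.2⟩), fun x => ?_⟩
  exact (vcls_pmap T X M x.1 (W := W ⟨x.1, hS x.1 x.2⟩) (W' := U) (fun _ hp => ⟨hp.1, hleW x hp.2⟩)
    (hU x.1 (hS x.1 x.2).le) (hW ⟨x.1, hS x.1 x.2⟩ x.1 (hS x.1 x.2).le) i n
    (a ⟨x.1, hS x.1 x.2⟩)).trans (ha ⟨x.1, hS x.1 x.2⟩)

theorem pushData_tot_sum {c : ℕ} [DecidableEq (X.cdPt c)] (P : T.PushData X c) {i n i' n' : ℤ}
    (hi : i' = i + 2 * (c : ℤ)) (hn : n' = n + (c : ℤ)) {S : Finset X.scheme} {U : X.scheme.Opens}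
    (h : IsGood X c U S) (hU : BMCoh.ContainsFj X c U)
    (a : ∀ x : {x // x ∈ S}, T.gp (ptp X x.1 U).obj M i n) (ξ : T.ptSum X c M i n)
    (hsupp : ∀ x : X.cdPt c, x.1 ∉ S → ξ x = 0)
    (ha : ∀ x : {x // x ∈ S}, vcls T X M x.1 U (h.mem x.1 x.2) i n (a x) = ξ ⟨x.1, h.codim x.1 x.2⟩) :
    P.tot M i n i' n' hi hn ξ = fcls T X M i' n' U hU (∑ x ∈ S.attach,
      pushPt T X M x.1 (h.codim x.1 x.2) U hU (h.mem x.1 x.2) i n i' n' hi hn (a x)) := by
  let e : {x // x ∈ S} ↪ X.cdPt c := ⟨fun x => ⟨x.1, h.codim x.1 x.2⟩, fun x y hxy =>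
    Subtype.ext (congrArg (fun z : X.cdPt c => z.1) hxy)⟩
  rw [ptSum_eq_sum T X M ξ (S.attach.map e) (fun x hx => hsupp x fun hxS => hx
    (Finset.mem_map.2 ⟨⟨x.1, hxS⟩, Finset.mem_attach _ _, rfl⟩)), map_sum, map_sum, Finset.sum_map]
  refine Finset.sum_congr rfl fun x _ => ?_
  refine (BMCoh.PreTheory.PushData.tot_lof P M i n i' n' hi hn (e x) _).trans ?_
  show P.cpt ⟨x.1, h.codim x.1 x.2⟩ M i n i' n' hi hn (ξ ⟨x.1, h.codim x.1 x.2⟩) = _
  rw [← ha x]
  exact pushData_vcls T X M P ⟨x.1, h.codim x.1 x.2⟩ U hU hU (h.mem x.1 x.2) i n i' n' hi hn _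

theorem support_finset {c : ℕ} {i n : ℤ} (ξ : T.ptSum X c M i n) :
    ∃ S : Finset X.scheme, (∀ x ∈ S, WeilCoh.codim X.scheme x = c) ∧
      ∀ x : X.cdPt c, x.1 ∉ S → ξ x = 0 := by
  classical
  refine ⟨(DFinsupp.support ξ).image Subtype.val, fun x hx => ?_, fun x hx => ?_⟩
  · obtain ⟨y, _, rfl⟩ := Finset.mem_image.1 hx; exact y.2
  · by_contra h
    exact hx (Finset.mem_image.2 ⟨x, DFinsupp.mem_support_iff.2 h, rfl⟩)

/-! ### Exactness at the sum over points -/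

theorem pushTot_resTot {j : ℕ} (Q : T.ResData X j) (P : T.PushData X (j + 1)) (i n i' n' i'' : ℤ)
    (hi : i' = i + 1 - 2 * ((j : ℤ) + 1)) (hn : n' = n - ((j : ℤ) + 1))
    (hi2 : i'' = i' + 2 * ((j + 1 : ℕ) : ℤ)) (hn2 : n = n' + ((j + 1 : ℕ) : ℤ))
    (hii : i'' = i + 1) (α : T.fjGp X j M i n) :
    P.tot M i' n' i'' n hi2 hn2 (Q.tot M i n i' n' hi hn α) = 0 := by
  classical
  obtain ⟨U, hU, a, rfl⟩ := fcls_exists α
  have hfin := finite_codim_eq X U.isOpen.isClosed_compl (le_codim_of_compl X hU)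
  let S := hfin.toFinset
  have hSc : ∀ x ∈ S, WeilCoh.codim X.scheme x = j + 1 := fun x hx => (hfin.mem_toFinset.1 hx).2
  have hSU : ∀ x ∈ S, closure {x} ⊆ (U : Set X.scheme)ᶜ := fun x hx =>
    U.isOpen.isClosed_compl.closure_subset_iff.2 (Set.singleton_subset_iff.2 (hfin.mem_toFinset.1 hx).1)
  have hsupp : ∀ x : X.cdPt (j + 1), x.1 ∉ S →
      Q.tot M i n i' n' hi hn (fcls T X M i n U hU a) x = 0 := fun x hx => by
    rw [BMCoh.PreTheory.ResData.tot_apply]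
    refine resData_eq_zero_of_mem T X M Q x hU ?_ i n i' n' hi hn a
    by_contra hxU
    exact hx (hfin.mem_toFinset.2 ⟨hxU, x.2⟩)
  rcases S.eq_empty_or_nonempty with he | hne
  · have h0 : Q.tot M i n i' n' hi hn (fcls T X M i n U hU a) = 0 :=
      DFinsupp.ext fun x => hsupp x (by simp [he])
    rw [h0, map_zero]
  obtain ⟨W0, hW0, hgood⟩ := exists_good (X := X) S hSc
  obtain ⟨G, hG⟩ := exists_finite_generators X U.isOpen.isClosed_compl
  let E : Set X.scheme := ⋃ g ∈ G.filter (fun g => WeilCoh.codim X.scheme g ≠ j + 1), closure {g}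
  have hE : IsClosed E := isClosed_biUnion_finset fun _ _ => isClosed_closure
  have hEc : ∀ z ∈ E, j + 1 < WeilCoh.codim X.scheme z := by
    intro z hz
    simp only [E, Set.mem_iUnion, Finset.mem_filter] at hz
    obtain ⟨g, ⟨hg, hgc⟩, hzg⟩ := hz
    have h1 := le_codim_of_compl X hU g (hG ▸ Set.mem_biUnion hg (subset_closure rfl))
    have h2 := codim_mono X (specializes_iff_mem_closure.2 hzg)
    omega
  let W1 : X.scheme.Opens := W0 ⊓ ⟨Eᶜ, hE.isOpen_compl⟩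
  have hW1 : BMCoh.ContainsFj X (j + 1) W1 := containsFj_inf X hW0 (containsFj_compl X hE hEc)
  let U' := U ⊔ W1
  have hU'F : BMCoh.ContainsFj X (j + 1) U' := fun y hy => Or.inr (hW1 y hy)
  have hU'F' := BMCoh.containsFj_mono X (Nat.le_succ j) U' hU'F
  have hg1 := hgood W1 inf_le_left (fun x hx => hW1 x (hSc x hx).le)
  have hg : IsGood X (j + 1) U' S :=
    ⟨fun x hx => Or.inr (hW1 x (hSc x hx).le), hSc, fun x hx y hy hne z hz h1 h2 =>
      hg1.disj x hx y hy hne z (hz.resolve_left (hSU x hx h1)) h1 h2⟩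
  have hL : (closuresOf X S : Set X.scheme) ∩ U' = (U' : Set X.scheme) \ U := by
    ext z
    constructor
    · rintro ⟨hz, hzU'⟩
      obtain ⟨x, hx, hzx⟩ := (mem_closuresOf X).1 hz
      exact ⟨hzU', hSU x hx hzx⟩
    · rintro ⟨hzU', hzU⟩
      refine ⟨?_, hzU'⟩
      have hzW : z ∈ W1 := hzU'.resolve_left hzU
      have hzC : z ∈ (U : Set X.scheme)ᶜ := hzU
      rw [hG] at hzC
      simp only [Set.mem_iUnion] at hzC
      obtain ⟨g, hg', hzg⟩ := hzC
      have hgc : WeilCoh.codim X.scheme g = j + 1 := by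
        by_contra hne'
        exact hzW.2 (Set.mem_biUnion (Finset.mem_filter.2 ⟨hg', hne'⟩) hzg)
      exact (mem_closuresOf X).2 ⟨g, hfin.mem_toFinset.2
        ⟨hG ▸ Set.mem_biUnion hg' (subset_closure rfl), hgc⟩, hzg⟩
  have hd := hg.dim_upiece hne
  have hcD : BMCoh.relCodim (upiece X S U').obj.scheme (X.res U').scheme = (j : ℤ) + 1 := by
    show (WeilCoh.dim (U' : Scheme.{u}) : ℤ) - _ = _
    rw [dim_res_of_containsFj X hU'F]; omega
  let D := decompOf (le_sup_left : U ≤ U')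
    ((dim_res_of_containsFj X hU).trans (dim_res_of_containsFj X hU'F').symm) (upiece X S U') hL
  have hiD : i' = i + 1 - 2 * BMCoh.relCodim (upiece X S U').obj.scheme (X.res U').scheme := by
    rw [hcD]; exact hi
  have hnD : n' = n - BMCoh.relCodim (upiece X S U').obj.scheme (X.res U').scheme := by
    rw [hcD]; exact hn
  let δ := T.res D M i n i' n' hiD hnD a
  rw [pushData_tot_sum T X M P hi2 hn2 hg hU'F (fun x => T.pull (hg.incl x.2) M i' n' δ) _ hsupp
    (fun x => by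
      rw [BMCoh.PreTheory.ResData.tot_apply]
      exact (resData_piece T X M Q ⟨x.1, hSc x.1 x.2⟩ le_sup_left hU hU'F' (upiece X S U') hL
        (hg.mem x.1 x.2) (hg.incl x.2) (hg.incl_ι x.2) i n i' n' hi hn hiD hnD a).symm)]
  have hsum : (∑ x ∈ S.attach, pushPt T X M x.1 (hg.codim x.1 x.2) U' hU'F (hg.mem x.1 x.2)
      i' n' i'' n hi2 hn2 (T.pull (hg.incl x.2) M i' n' δ)) =
      hg.pushUnion T hne hU'F M i' n' i'' n hi2 hn2 δ := by
    conv_rhs => rw [hg.eq_sum_pushIncl T M i' n' δ, map_sum]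
    exact Finset.sum_congr rfl fun x _ => (hg.pushUnion_pushIncl T x.2 hU'F M i' n' i'' n hi2 hn2 _).symm
  rw [hsum]
  refine (congrArg _ ?_).trans (map_zero _)
  exact (exact_rp_apply T D M i n i' n' i'' hiD hnD _ _ hii δ).2 ⟨a, rfl⟩

theorem mem_range_resTot {j : ℕ} (Q : T.ResData X j) (P : T.PushData X (j + 1)) (i n i' n' i'' : ℤ)
    (hi : i' = i + 1 - 2 * ((j : ℤ) + 1)) (hn : n' = n - ((j : ℤ) + 1))
    (hi2 : i'' = i' + 2 * ((j + 1 : ℕ) : ℤ)) (hn2 : n = n' + ((j + 1 : ℕ) : ℤ))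
    (hii : i'' = i + 1) (ξ : T.ptSum X (j + 1) M i' n')
    (hξ : P.tot M i' n' i'' n hi2 hn2 ξ = 0) :
    ∃ α, Q.tot M i n i' n' hi hn α = ξ := by
  classical
  obtain ⟨S, hSc, hsupp⟩ := support_finset T X M ξ
  rcases S.eq_empty_or_nonempty with he | hne
  · exact ⟨0, (map_zero _).trans (DFinsupp.ext fun x => (hsupp x (by simp [he])).symm)⟩
  obtain ⟨W, hW, hreps⟩ := exists_reps T X M S hSc i' n' (fun x => ξ x)
  obtain ⟨hg0, a0, ha0⟩ := hreps W hW le_rfl
  rw [pushData_tot_sum T X M P hi2 hn2 hg0 hW a0 ξ hsupp ha0, fcls_eq_zero_iff] at hξ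
  obtain ⟨U', hle, hU', h0⟩ := hξ
  have hg : IsGood X (j + 1) U' S := hg0.mono X hle subset_rfl fun x hx => hU' x (hSc x hx).le
  have hU'F' := BMCoh.containsFj_mono X (Nat.le_succ j) U' hU'
  let δ := ∑ x ∈ S.attach, hg.pushIncl T x.2 M i' n'
    (T.pull (pmap X x.1 (fun _ hp => ⟨hp.1, hle hp.2⟩) (hg.mem x.1 x.2)) M i' n' (a0 x))
  have hδ : hg.pushUnion T hne hU' M i' n' i'' n hi2 hn2 δ = 0 := by
    rw [map_sum, ← h0, map_sum]
    refine Finset.sum_congr rfl fun x _ => ?_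
    rw [hg.pushUnion_pushIncl T x.2]
    exact (rmap_pushPt T X M x.1 _ hle hW hU' (hg0.mem x.1 x.2) (hg.mem x.1 x.2) _ _ _ _ _ _ _).symm
  let U1 : X.scheme.Opens := U' ⊓ ⟨(closuresOf X S : Set X.scheme)ᶜ, (closuresOf X S).isClosed.isOpen_compl⟩
  have hU1 : BMCoh.ContainsFj X j U1 := fun y hy => ⟨hU'F' y hy, fun hyC => by
    have := hg.codim_le hyC; omega⟩
  have hd := hg.dim_upiece hne
  have hcD : BMCoh.relCodim (upiece X S U').obj.scheme (X.res U').scheme = (j : ℤ) + 1 := by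
    show (WeilCoh.dim (U' : Scheme.{u}) : ℤ) - _ = _
    rw [dim_res_of_containsFj X hU']; omega
  let D := decompOf (inf_le_left : U1 ≤ U')
    ((dim_res_of_containsFj X hU1).trans (dim_res_of_containsFj X hU'F').symm) (upiece X S U')
    IsGood.diff_closures
  have hiD : i' = i + 1 - 2 * BMCoh.relCodim (upiece X S U').obj.scheme (X.res U').scheme := by
    rw [hcD]; exact hi
  have hnD : n' = n - BMCoh.relCodim (upiece X S U').obj.scheme (X.res U').scheme := by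
    rw [hcD]; exact hn
  obtain ⟨b, hb⟩ := (exact_rp_apply T D M i n i' n' i'' hiD hnD _ _ hii δ).1 hδ
  refine ⟨fcls T X M i n U1 hU1 b, DFinsupp.ext fun x => ?_⟩
  rw [BMCoh.PreTheory.ResData.tot_apply]
  by_cases hxS : x.1 ∈ S
  · have h1 := resData_piece T X M Q x (inf_le_left : U1 ≤ U') hU1 hU'F' (upiece X S U')
      IsGood.diff_closures (hg.mem x.1 hxS) (hg.incl hxS) (hg.incl_ι hxS) i n i' n' hi hn hiD hnD b
    have h2 : T.pull (hg.incl hxS) M i' n' (T.res D M i n i' n' hiD hnD b) =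
        T.pull (hg.incl hxS) M i' n' δ := congrArg (T.pull (hg.incl hxS) M i' n') hb
    have h3 := hg.pull_sum_pushIncl T M i' n' hxS (fun x => T.pull (pmap X x.1
      (fun _ hp => ⟨hp.1, hle hp.2⟩) (hg.mem x.1 x.2)) M i' n' (a0 x))
    have h4 := vcls_pmap T X M x.1 (W := W) (W' := U') (fun _ hp => ⟨hp.1, hle hp.2⟩)
      (hg.mem x.1 hxS) (hg0.mem x.1 hxS) i' n' (a0 ⟨x.1, hxS⟩)
    exact ((h1.trans (congrArg _ (h2.trans h3))).trans h4).trans (ha0 ⟨x.1, hxS⟩)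
  · rw [hsupp x hxS]
    refine resData_eq_zero_of_mem T X M Q x hU1 ⟨hU' x.1 x.2.le, fun hxC => hxS ?_⟩ i n i' n' hi hn b
    obtain ⟨y, hy, hxy⟩ := (mem_closuresOf X).1 hxC
    rwa [eq_of_specializes_of_codim_le X (specializes_iff_mem_closure.2 hxy)
      (by rw [x.2, hSc y hy])]

end Groth.BMCohLib
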