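import Groth.Agent.BMCoh.FiniteMap
import Groth.Agent.BMCoh.Exact
import Groth.Prelude.Def_BMCoh4
import Mathlib.AlgebraicGeometry.PullbackCarrier

/-!
# Residue after push-forward along a proper map with discrete fibres
-/

set_option autoImplicit false
universe u

open Topology TopologicalSpace AlgebraicGeometry CategoryTheory Limits Opposite DirectSum

namespace Groth.BMCohLib

variable {V : ObjectProperty Scheme.{u}} [BMCoh.IsConstructible V]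
variable {R : Type u} [CommRing R] {A : BMCoh.Coefs R} {T : BMCoh.PreTheory V R A}

/-- The residue maps are compatible with replacing the closed part by one with the same support. -/
def RedCompat (T : BMCoh.PreTheory V R A) : Prop :=
  ∀ (S : BMCoh.Obj V) (D D'' : BMCoh.Decomp S) (gU : D''.U ⟶ D.U)
    (k : D''.Z.scheme ⟶ D.Z.scheme) [IsClosedImmersion k] [AlgebraicGeometry.Surjective k],
    gU ≫ D.j = D''.j → k ≫ D.i = D''.i →
    ∀ (M : A.Cat) (i n i' n' : ℤ) (hi : i' = i + 1 - 2 * D.codim) (hn : n' = n - D.codim)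
      (hi'' : i' = i + 1 - 2 * D''.codim) (hn'' : n' = n - D''.codim)
      (hk : i' = i' + 2 * BMCoh.relCodim D''.Z.scheme D.Z.scheme)
      (hk' : n' = n' + BMCoh.relCodim D''.Z.scheme D.Z.scheme),
    T.pull gU M i n ≫ T.res D'' M i n i' n' hi'' hn'' ≫ T.push k M i' n' i' n' hk hk' =
      T.res D M i n i' n' hi hn

variable {Y X : BMCoh.Obj V} {φ : Y.scheme ⟶ X.scheme} (M : A.Cat)

theorem lof_ptPush {c : ℕ} [DecidableEq (X.cdPt c)] {y : Y.scheme} {x x' : X.cdPt c} (h : x'.1 = x.1)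
    (F : T.PtPush φ y x'.1) {W : X.scheme.Opens} (hy : φ y ∈ W) (hx : x.1 ∈ W)
    (f : (ptp Y y (φ ⁻¹ᵁ W)).obj.scheme ⟶ (ptp X x.1 W).obj.scheme) [IsProper f]
    (hf : f ≫ (ptp X x.1 W).ι = (ptp Y y (φ ⁻¹ᵁ W)).ι ≫ φ) (i n : ℤ)
    (hi : i = i + 2 * BMCoh.relCodim (ptp Y y (φ ⁻¹ᵁ W)).obj.scheme (ptp X x.1 W).obj.scheme)
    (hn : n = n + BMCoh.relCodim (ptp Y y (φ ⁻¹ᵁ W)).obj.scheme (ptp X x.1 W).obj.scheme)
    (a : T.gp (ptp Y y (φ ⁻¹ᵁ W)).obj M i n) :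
    DirectSum.lof R (X.cdPt c) (fun z : X.cdPt c => T.ptGp X z.1 M i n) x'
        (F.cpt M i n (vcls T Y M y (φ ⁻¹ᵁ W) hy i n a)) =
      DirectSum.lof R (X.cdPt c) (fun z : X.cdPt c => T.ptGp X z.1 M i n) x
        (vcls T X M x.1 W hx i n (T.push f M i n i n hi hn a)) := by
  obtain rfl : x' = x := Subtype.ext h
  haveI : @IsProper ((Y.ptSub y).res (vidx Y y (φ ⁻¹ᵁ W) hy).1).scheme
    ((X.ptSub x'.1).res (vidx X x'.1 W hx).1).scheme f := ‹IsProper f›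
  refine congrArg _ ?_
  exact congr(($(F.cpt_spec M i n (vidx Y y (φ ⁻¹ᵁ W) hy) (vidx X x'.1 W hx) f (by
    show f ≫ (ptp X x'.1 W).ι = _
    rw [hf]
    exact Category.assoc _ _ _) hi hn)) a)

variable [IsProper φ] [LocallyQuasiFinite φ] {q : ℕ}

theorem containsFj_preimage (hd : WeilCoh.dim Y.scheme + q = WeilCoh.dim X.scheme) {k : ℕ}
    {U : X.scheme.Opens} (hU : BMCoh.ContainsFj X (q + k) U) :
    BMCoh.ContainsFj Y k (φ ⁻¹ᵁ U) := fun z hz => hU (φ z) (by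
  have := codim_map_eq φ hd z; omega)

theorem relCodim_restrict (hd : WeilCoh.dim Y.scheme + q = WeilCoh.dim X.scheme)
    {U : X.scheme.Opens} (hU : BMCoh.ContainsFj X q U) :
    BMCoh.relCodim (Y.res (φ ⁻¹ᵁ U)).scheme (X.res U).scheme = q := by
  show (WeilCoh.dim (U : Scheme.{u}) : ℤ) - WeilCoh.dim ((φ ⁻¹ᵁ U : Y.scheme.Opens) : Scheme.{u}) = q
  rw [dim_res_of_containsFj X hU,
    dim_res_of_containsFj Y (containsFj_preimage (k := 0) hd (φ := φ) hU)]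
  omega

/-- The residue at `x` of a push-forward is the sum of the push-forwards of the residues at the
points over `x`. -/
theorem residue_push [DecidableEq (X.cdPt (q + 1))] (hred : RedCompat T)
    (hd : WeilCoh.dim Y.scheme + q = WeilCoh.dim X.scheme)
    (Q : T.ResData X q) (Q' : T.ResData Y 0) (t : Y.cdPt 1 → X.cdPt (q + 1))
    (F : ∀ y : Y.cdPt 1, T.PtPush φ y.1 (t y).1)
    {U : X.scheme.Opens} (hU : BMCoh.ContainsFj X q U) (hrange : (U : Set X.scheme)ᶜ ⊆ Set.range φ)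
    [IsProper (φ ∣_ U)] (i n i₁ n₁ i₂ n₂ : ℤ)
    (hi : i₁ = i + 2 * BMCoh.relCodim (Y.res (φ ⁻¹ᵁ U)).scheme (X.res U).scheme)
    (hn : n₁ = n + BMCoh.relCodim (Y.res (φ ⁻¹ᵁ U)).scheme (X.res U).scheme)
    (h2 : i₂ = i₁ + 1 - 2 * ((q : ℤ) + 1)) (h2' : n₂ = n₁ - ((q : ℤ) + 1))
    (h4 : i₂ = i + 1 - 2 * (((0 : ℕ) : ℤ) + 1)) (h4' : n₂ = n - (((0 : ℕ) : ℤ) + 1))
    (α : T.gp (Y.res (φ ⁻¹ᵁ U)) M i n) (x : X.cdPt (q + 1)) (hx : x.1 ∉ U)
    (s : Finset (Y.cdPt 1)) (hs : ∀ y, y ∈ s ↔ φ y.1 = x.1) :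
    DirectSum.lof R (X.cdPt (q + 1)) (fun z : X.cdPt (q + 1) => T.ptGp X z.1 M i₂ n₂) x
        (Q.cpt x M i₁ n₁ i₂ n₂ h2 h2' (fcls T X M i₁ n₁ U hU
          (T.push (X := Y.res (φ ⁻¹ᵁ U)) (Y := X.res U) (φ ∣_ U) M i n i₁ n₁ hi hn α))) =
      ∑ y ∈ s, DirectSum.lof R (X.cdPt (q + 1)) (fun z : X.cdPt (q + 1) => T.ptGp X z.1 M i₂ n₂) (t y)
        ((F y).cpt M i₂ n₂ (Q'.cpt y M i n i₂ n₂ h4 h4'
          (fcls T Y M i n (φ ⁻¹ᵁ U) (containsFj_preimage (k := 0) hd hU) α))) := by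
  classical
  let S : Finset Y.scheme := s.map ⟨Subtype.val, Subtype.val_injective⟩
  have hcod : ∀ z, φ z = x.1 → WeilCoh.codim Y.scheme z = 1 := fun z hz => by
    have h := codim_map_eq φ hd z
    rw [hz, x.2] at h
    omega
  have hS : ∀ z, z ∈ S ↔ φ z = x.1 := fun z => by
    simp only [S, Finset.mem_map, Function.Embedding.coeFn_mk]
    exact ⟨fun ⟨y, hy, he⟩ => he ▸ (hs y).1 hy, fun hz => ⟨⟨z, hcod z hz⟩, (hs _).2 hz, rfl⟩⟩
  have hSne : S.Nonempty := by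
    obtain ⟨z, hz⟩ := hrange hx
    exact ⟨z, (hS z).2 hz⟩
  obtain ⟨W, hxW, hUW', hWeq, hg, hcov⟩ := exists_attach_preimage φ hd U.isOpen.isClosed_compl
    (le_codim_of_compl X hU) hx x.2 S hS
  have hUW : U ≤ W := fun z hz => hUW' fun h => h hz
  have hW : BMCoh.ContainsFj X q W := fun z hz => hUW (hU z hz)
  have hUY : BMCoh.ContainsFj Y 0 (φ ⁻¹ᵁ U) := containsFj_preimage (k := 0) hd hU
  have hWY : BMCoh.ContainsFj Y 0 (φ ⁻¹ᵁ W) := containsFj_preimage (k := 0) hd hW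
  have hUWY : φ ⁻¹ᵁ U ≤ φ ⁻¹ᵁ W := φ.preimage_mono hUW
  have hL : closure {x.1} ∩ (W : Set X.scheme) = (W : Set X.scheme) \ U := by
    rw [← hWeq, Set.inter_comm]; rfl
  have hLY : (closuresOf Y S : Set Y.scheme) ∩ (φ ⁻¹ᵁ W : Y.scheme.Opens) =
      ((φ ⁻¹ᵁ W : Y.scheme.Opens) : Set Y.scheme) \ (φ ⁻¹ᵁ U : Y.scheme.Opens) := by
    ext z
    constructor
    · rintro ⟨hz, hzW⟩
      obtain ⟨y, hy, hzy⟩ := (mem_closuresOf Y).1 hz
      refine ⟨hzW, fun hzU => ?_⟩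
      have h1 := map_closure_subset φ y ⟨z, hzy, rfl⟩
      rw [(hS y).1 hy] at h1
      exact (hL.subset ⟨h1, hzW⟩).2 hzU
    · rintro ⟨hzW, hzU⟩
      exact ⟨hcov z hzU hzW, hzW⟩
  let D : BMCoh.Decomp (X.res W) := decompOf hUW
    ((dim_res_of_containsFj X hU).trans (dim_res_of_containsFj X hW).symm) (ptp X x.1 W) hL
  let D' : BMCoh.Decomp (Y.res (φ ⁻¹ᵁ W)) := decompOf hUWY
    ((dim_res_of_containsFj Y hUY).trans (dim_res_of_containsFj Y hWY).symm)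
    (upiece Y S (φ ⁻¹ᵁ W)) hLY
  haveI : IsProper (φ ∣_ W) := inferInstance
  let ψ : (Y.res (φ ⁻¹ᵁ W)).scheme ⟶ (X.res W).scheme := φ ∣_ W
  haveI : IsProper ψ := inferInstanceAs (IsProper (φ ∣_ W))
  -- the scheme-theoretic inverse image of the closed part
  haveI : IsClosedImmersion (pullback.fst ψ D.i) :=
    IsClosedImmersion.isStableUnderBaseChange.of_isPullback (IsPullback.of_hasPullback ψ D.i).flip D.closedImm
  haveI : IsProper (pullback.snd ψ D.i) :=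
    IsProper.isStableUnderBaseChange.of_isPullback (IsPullback.of_hasPullback ψ D.i) ‹IsProper ψ›
  let Z' : BMCoh.Obj V := ⟨pullback ψ D.i, BMCoh.IsConstructible.of_isClosedImmersion
    (pullback.fst ψ D.i) (h := inferInstance) (Y.res (φ ⁻¹ᵁ W)).mem⟩
  let Dbc : BMCoh.Decomp (Y.res (φ ⁻¹ᵁ W)) :=
    { Z := Z', U := D'.U, i := pullback.fst ψ D.i, closedImm := inferInstance, j := D'.j
      range_eq := by
        rw [D'.range_eq, Scheme.Pullback.range_fst]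
        congr 1
        ext p
        show p ∈ Set.range ((upiece Y S (φ ⁻¹ᵁ W)).toOpen (φ ⁻¹ᵁ W) (subset_of_eq_diff hLY)) ↔
          ψ p ∈ Set.range ((ptp X x.1 W).toOpen W (subset_of_eq_diff hL))
        rw [Piece.range_toOpen, Piece.range_toOpen, Set.mem_preimage, Set.mem_preimage, hLY, hL]
        have he : W.ι (ψ p) = φ ((φ ⁻¹ᵁ W).ι p) := by
          rw [← Scheme.Hom.comp_apply, ← Scheme.Hom.comp_apply]
          exact congrArg (fun g : (↑(φ ⁻¹ᵁ W) : Scheme) ⟶ X.scheme => g p) (morphismRestrict_ι φ W)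
        rw [he]
        rfl }
  obtain ⟨h, hh⟩ := (ptp X x.1 W).exists_lift ((upiece Y S (φ ⁻¹ᵁ W)).ι ≫ φ) (by
    rintro _ ⟨p, rfl⟩
    obtain ⟨hp, hpW⟩ := (upiece Y S (φ ⁻¹ᵁ W)).ι_mem p
    obtain ⟨y, hy, hpy⟩ := (mem_closuresOf Y).1 hp
    exact ⟨(hS y).1 hy ▸ map_closure_subset φ y ⟨_, hpy, rfl⟩, hpW⟩)
  have hw : D'.i ≫ ψ = h ≫ D.i := by
    refine (cancel_mono W.ι).1 ?_
    show ((upiece Y S (φ ⁻¹ᵁ W)).toOpen (φ ⁻¹ᵁ W) (subset_of_eq_diff hLY) ≫ (φ ∣_ W)) ≫ W.ι =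
      (h ≫ (ptp X x.1 W).toOpen W (subset_of_eq_diff hL)) ≫ W.ι
    refine ((Category.assoc _ _ _).trans ?_).trans (Category.assoc _ _ _).symm
    rw [morphismRestrict_ι, Piece.toOpen_ι]
    exact ((Category.assoc _ _ _).symm.trans (congrArg (· ≫ φ) (Piece.toOpen_ι _ _ _))).trans hh.symm
  let k : D'.Z.scheme ⟶ Dbc.Z.scheme := pullback.lift D'.i h hw
  have hki : k ≫ Dbc.i = D'.i := pullback.lift_fst _ _ _
  have hks : k ≫ pullback.snd ψ D.i = h := pullback.lift_snd _ _ _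
  haveI : IsClosedImmersion (k ≫ Dbc.i) := by rw [hki]; infer_instance
  haveI : IsClosedImmersion k := IsClosedImmersion.of_comp k Dbc.i
  have hksurj : Function.Surjective k := fun p => by
    have hp : Dbc.i p ∈ Set.range D'.i := by
      rw [← compl_compl (Set.range D'.i), ← D'.range_eq]
      show Dbc.i p ∈ (Set.range Dbc.j.hom)ᶜ
      rw [Dbc.range_eq, compl_compl]
      exact ⟨p, rfl⟩
    obtain ⟨p', hp'⟩ := hp
    exact ⟨p', Dbc.i.isClosedEmbedding.injective (by rw [← Scheme.Hom.comp_apply, hki, hp'])⟩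
  haveI : AlgebraicGeometry.Surjective k := ⟨hksurj⟩
  have hkd : WeilCoh.dim D'.Z.scheme = WeilCoh.dim Dbc.Z.scheme :=
    natDim_eq_of_homeomorph (k.isClosedEmbedding.isEmbedding.toHomeomorph.trans
      ((Homeomorph.setCongr hksurj.range_eq).trans (Homeomorph.Set.univ _)))
  have hdZ' : WeilCoh.dim D'.Z.scheme + 1 = WeilCoh.dim Y.scheme := hg.dim_upiece hSne
  have hdZ : WeilCoh.dim D.Z.scheme = WeilCoh.dim D'.Z.scheme := by
    show WeilCoh.dim (ptp X x.1 W).obj.scheme = _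
    rw [dim_ptp X x.1 hxW]
    have := codim_add_pdim X x.1
    have := x.2
    omega
  have hcD : D.codim = (q : ℤ) + 1 := by
    show (WeilCoh.dim (W : Scheme.{u}) : ℤ) - WeilCoh.dim D.Z.scheme = _
    rw [dim_res_of_containsFj X hW]; omega
  have hcD' : D'.codim = 1 := by
    show (WeilCoh.dim ((φ ⁻¹ᵁ W : Y.scheme.Opens) : Scheme.{u}) : ℤ) - WeilCoh.dim D'.Z.scheme = _
    rw [dim_res_of_containsFj Y hWY]; omega
  have hcbc : Dbc.codim = 1 := by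
    rw [← hcD']
    show (_ : ℤ) - _ = _ - _
    rw [hkd]
  have hck : BMCoh.relCodim D'.Z.scheme Dbc.Z.scheme = 0 := by rw [BMCoh.relCodim, hkd, sub_self]
  have hcs : BMCoh.relCodim Dbc.Z.scheme D.Z.scheme = 0 := by
    rw [BMCoh.relCodim, hdZ, hkd, sub_self]
  have hch : BMCoh.relCodim D'.Z.scheme D.Z.scheme = 0 := by rw [BMCoh.relCodim, hdZ, sub_self]
  haveI : IsProper h := hks ▸ inferInstanceAs (IsProper (k ≫ pullback.snd ψ D.i))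
  haveI : IsProper (X := (upiece Y S (φ ⁻¹ᵁ W)).obj.scheme) (Y := (ptp X x.1 W).obj.scheme) h :=
    ‹IsProper h›
  haveI : IsProper (X := D'.Z.scheme) (Y := D.Z.scheme) h := ‹IsProper h›
  haveI : IsProper (k ≫ pullback.snd ψ D.i) := inferInstance
  -- compatibility of residues with push-forward
  haveI : IsProper (X := Dbc.Z.scheme) (Y := D.Z.scheme) (pullback.snd ψ D.i) :=
    inferInstanceAs (IsProper (pullback.snd ψ D.i))
  let fU : Dbc.U.scheme ⟶ D.U.scheme := φ ∣_ U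
  haveI : IsProper fU := inferInstanceAs (IsProper (φ ∣_ U))
  have hsqU : IsPullback Dbc.j.hom fU ψ D.j.hom := by
    refine (IsOpenImmersion.isPullback _ _ _ _ ?_ ?_).flip
    · refine (cancel_mono W.ι).1 ?_
      show (Y.scheme.homOfLE hUWY ≫ (φ ∣_ W)) ≫ W.ι = ((φ ∣_ U) ≫ X.scheme.homOfLE hUW) ≫ W.ι
      simp only [Category.assoc, morphismRestrict_ι, Scheme.homOfLE_ι, Scheme.homOfLE_ι_assoc]
    · ext p
      show ψ p ∈ Set.range D.j.hom ↔ p ∈ Set.range D'.j.hom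
      rw [D.range_eq, D'.range_eq]
      show ψ p ∉ Set.range ((ptp X x.1 W).toOpen W (subset_of_eq_diff hL)) ↔
        p ∉ Set.range ((upiece Y S (φ ⁻¹ᵁ W)).toOpen (φ ⁻¹ᵁ W) (subset_of_eq_diff hLY))
      rw [Piece.range_toOpen, Piece.range_toOpen, Set.mem_preimage, Set.mem_preimage, hLY, hL]
      have he : W.ι (ψ p) = φ ((φ ⁻¹ᵁ W).ι p) := by
        rw [← Scheme.Hom.comp_apply, ← Scheme.Hom.comp_apply]
        exact congrArg (fun g : (↑(φ ⁻¹ᵁ W) : Scheme) ⟶ X.scheme => g p) (morphismRestrict_ι φ W)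
      rw [he]
      rfl
  have hiD : i₂ = i₁ + 1 - 2 * D.codim := by rw [hcD]; exact h2
  have hnD : n₂ = n₁ - D.codim := by rw [hcD]; exact h2'
  have hiD' : i₂ = i + 1 - 2 * D'.codim := by rw [hcD']; omega
  have hnD' : n₂ = n - D'.codim := by rw [hcD']; omega
  have hibc : i₂ = i + 1 - 2 * Dbc.codim := by rw [hcbc]; omega
  have hnbc : n₂ = n - Dbc.codim := by rw [hcbc]; omega
  have z2 : ∀ c : ℤ, c = 0 → i₂ = i₂ + 2 * c := fun c hc => by rw [hc]; ring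
  have z1 : ∀ c : ℤ, c = 0 → n₂ = n₂ + c := fun c hc => by rw [hc]; ring
  let δ : T.gp D'.Z M i₂ n₂ := T.res D' M i n i₂ n₂ hiD' hnD' α
  have hres : T.res D M i₁ n₁ i₂ n₂ hiD hnD (T.push fU M i n i₁ n₁ hi hn α) =
      T.push h M i₂ n₂ i₂ n₂ (z2 _ hch) (z1 _ hch) δ := by
    have e1 := congr(($(T.res_push D Dbc ψ (pullback.snd ψ D.i) fU (IsPullback.of_hasPullback ψ D.i)
      hsqU M i n i₂ n₂ i₁ n₁ i₂ n₂ hibc hnbc hi hn (z2 _ hcs) (z1 _ hcs) hiD hnD)) α)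
    have e2 := congr(($(hred _ Dbc D' (𝟙 _) k (Category.id_comp _) hki M i n i₂ n₂ hibc hnbc hiD' hnD'
      (z2 _ hck) (z1 _ hck))) α)
    have e3 := congr(($(T.push_comp k (pullback.snd ψ D.i) M i₂ n₂ i₂ n₂ i₂ n₂
      (z2 _ hck) (z1 _ hck) (z2 _ hcs) (z1 _ hcs)
      (z2 _ hch) (z1 _ hch))) δ)
    refine e1.symm.trans (Eq.trans ?_ (e3.trans (congr(($(push_congr T hks M i₂ n₂ i₂ n₂
      (z2 _ hch) (z1 _ hch))) δ))))
    refine congrArg (T.push (pullback.snd ψ D.i) M i₂ n₂ i₂ n₂ _ _) (e2.symm.trans ?_)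
    exact congrArg (fun a => T.push k M i₂ n₂ i₂ n₂ _ _ (T.res D' M i n i₂ n₂ hiD' hnD' a))
      (pull_id_apply T M i n α)
  have hQ : Q.cpt x M i₁ n₁ i₂ n₂ h2 h2' (fcls T X M i₁ n₁ U hU (T.push fU M i n i₁ n₁ hi hn α)) =
      vcls T X M x.1 W hxW i₂ n₂ (T.push h M i₂ n₂ i₂ n₂ (z2 _ hch) (z1 _ hch) δ) :=
    ((resData_piece T X M Q x hUW hU hW (ptp X x.1 W) hL hxW (𝟙 _) (Category.id_comp _) i₁ n₁ i₂ n₂
      h2 h2' hiD hnD _).trans (congrArg _ (pull_id_apply T M i₂ n₂ _))).trans (congrArg _ hres)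
  refine (congrArg _ hQ).trans ?_
  rw [hg.eq_sum_pushIncl T M i₂ n₂ δ, map_sum, map_sum, map_sum]
  refine Finset.sum_bij (fun y _ => (⟨y.1, hcod y.1 ((hS y.1).1 y.2)⟩ : Y.cdPt 1))
    (fun y _ => (hs _).2 ((hS y.1).1 y.2))
    (fun a _ b _ hab => Subtype.ext (congrArg (fun z : Y.cdPt 1 => z.1) hab))
    (fun y hy => ⟨⟨y.1, (hS y.1).2 ((hs y).1 hy)⟩, Finset.mem_attach _ _, rfl⟩) (fun y _ => ?_)
  let y' : Y.cdPt 1 := ⟨y.1, hcod y.1 ((hS y.1).1 y.2)⟩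
  have hyW : φ y.1 ∈ W := by rw [(hS y.1).1 y.2]; exact hxW
  have hcy : BMCoh.relCodim (ptp Y y.1 (φ ⁻¹ᵁ W)).obj.scheme (ptp X x.1 W).obj.scheme = 0 := by
    show (WeilCoh.dim D.Z.scheme : ℤ) - _ = 0
    rw [hdZ, hg.dim_ptp_eq y.2]
    exact sub_self _
  have hQ' : Q'.cpt y' M i n i₂ n₂ h4 h4' (fcls T Y M i n (φ ⁻¹ᵁ U) hUY α) =
      vcls T Y M y.1 (φ ⁻¹ᵁ W) (hg.mem y.1 y.2) i₂ n₂ (T.pull (hg.incl y.2) M i₂ n₂ δ) :=
    resData_piece T Y M Q' y' hUWY hUY hWY (upiece Y S (φ ⁻¹ᵁ W)) hLY (hg.mem y.1 y.2)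
      (hg.incl y.2) (hg.incl_ι y.2) i n i₂ n₂ h4 h4' hiD' hnD' α
  let fy : (ptp Y y.1 (φ ⁻¹ᵁ W)).obj.scheme ⟶ (ptp X x.1 W).obj.scheme :=
    (ptp Y y.1 (φ ⁻¹ᵁ W)).map (upiece Y S (φ ⁻¹ᵁ W)) (ptp_subset y.2) ≫ h
  haveI : IsProper (X := (upiece Y S (φ ⁻¹ᵁ W)).obj.scheme) (Y := (ptp X x.1 W).obj.scheme) h :=
    ‹IsProper h›
  haveI : IsProper fy := inferInstanceAs (IsProper (_ ≫ h))
  have hfy : fy ≫ (ptp X x.1 W).ι = (ptp Y y.1 (φ ⁻¹ᵁ W)).ι ≫ φ :=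
    ((Category.assoc _ _ _).trans (congrArg _ hh)).trans
      ((Category.assoc _ _ _).symm.trans (congrArg (· ≫ φ) (Piece.map_ι _ _ _)))
  have hcomp := congr(($(T.push_comp ((ptp Y y.1 (φ ⁻¹ᵁ W)).map (upiece Y S (φ ⁻¹ᵁ W)) (ptp_subset y.2))
    h M i₂ n₂ i₂ n₂ i₂ n₂ (by simp [BMCoh.relCodim, hg.dim_ptp_eq y.2])
    (by simp [BMCoh.relCodim, hg.dim_ptp_eq y.2]) (z2 _ hch) (z1 _ hch)
    (z2 _ hcy) (z1 _ hcy))) (T.pull (hg.incl y.2) M i₂ n₂ δ))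
  have hlof := lof_ptPush (c := q + 1) M (x := x) (x' := t y')
    ((F y').maps_pt.symm.trans ((hS y.1).1 y.2)) (F y') hyW hxW fy hfy i₂ n₂
    (z2 _ hcy) (z1 _ hcy) (T.pull (hg.incl y.2) M i₂ n₂ δ)
  refine Eq.trans ?_ ((congrArg (fun a => DirectSum.lof R (X.cdPt (q + 1))
    (fun z : X.cdPt (q + 1) => T.ptGp X z.1 M i₂ n₂) (t y') ((F y').cpt M i₂ n₂ a)) hQ').trans hlof).symm
  exact congrArg (fun a => DirectSum.lof R (X.cdPt (q + 1))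
    (fun z : X.cdPt (q + 1) => T.ptGp X z.1 M i₂ n₂) x (vcls T X M x.1 W hxW i₂ n₂ a)) hcomp

/-- The residue of a push-forward as the image of the residues. -/
theorem resTot_push (hred : RedCompat T) (hd : WeilCoh.dim Y.scheme + q = WeilCoh.dim X.scheme)
    (Q : T.ResData X q) (Q' : T.ResData Y 0) (t : Y.cdPt 1 → X.cdPt (q + 1))
    (F : ∀ y : Y.cdPt 1, T.PtPush φ y.1 (t y).1)
    {U : X.scheme.Opens} (hU : BMCoh.ContainsFj X q U) (hrange : (U : Set X.scheme)ᶜ ⊆ Set.range φ)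
    [IsProper (φ ∣_ U)] (i n i₁ n₁ i₂ n₂ : ℤ)
    (hi : i₁ = i + 2 * BMCoh.relCodim (Y.res (φ ⁻¹ᵁ U)).scheme (X.res U).scheme)
    (hn : n₁ = n + BMCoh.relCodim (Y.res (φ ⁻¹ᵁ U)).scheme (X.res U).scheme)
    (h2 : i₂ = i₁ + 1 - 2 * ((q : ℤ) + 1)) (h2' : n₂ = n₁ - ((q : ℤ) + 1))
    (h4 : i₂ = i + 1 - 2 * (((0 : ℕ) : ℤ) + 1)) (h4' : n₂ = n - (((0 : ℕ) : ℤ) + 1))
    (α : T.gp (Y.res (φ ⁻¹ᵁ U)) M i n) :
    Q.tot M i₁ n₁ i₂ n₂ h2 h2' (fcls T X M i₁ n₁ U hU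
        (T.push (X := Y.res (φ ⁻¹ᵁ U)) (Y := X.res U) (φ ∣_ U) M i n i₁ n₁ hi hn α)) =
      BMCoh.PreTheory.PtPush.famTot t F M i₂ n₂ (Q'.tot M i n i₂ n₂ h4 h4'
        (fcls T Y M i n (φ ⁻¹ᵁ U) (containsFj_preimage (k := 0) hd hU) α)) := by
  classical
  have hUY : BMCoh.ContainsFj Y 0 (φ ⁻¹ᵁ U) := containsFj_preimage (k := 0) hd hU
  let β := fcls T X M i₁ n₁ U hU
    (T.push (X := Y.res (φ ⁻¹ᵁ U)) (Y := X.res U) (φ ∣_ U) M i n i₁ n₁ hi hn α)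
  let ξ := Q'.tot M i n i₂ n₂ h4 h4' (fcls T Y M i n (φ ⁻¹ᵁ U) hUY α)
  have hfX := finite_codim_eq X U.isOpen.isClosed_compl (le_codim_of_compl X hU)
  have hfY := finite_codim_eq Y (φ ⁻¹ᵁ U).isOpen.isClosed_compl (le_codim_of_compl Y hUY)
  let sX : Finset (X.cdPt (q + 1)) := hfX.toFinset.subtype fun z => WeilCoh.codim X.scheme z = q + 1
  let sY : Finset (Y.cdPt 1) := hfY.toFinset.subtype fun z => WeilCoh.codim Y.scheme z = 1
  have hsX : ∀ x, x ∈ sX ↔ x.1 ∉ U := fun x => by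
    simp only [sX, Finset.mem_subtype, Set.Finite.mem_toFinset]
    exact ⟨fun h => h.1, fun h => ⟨h, x.2⟩⟩
  have hsY : ∀ y, y ∈ sY ↔ φ y.1 ∉ U := fun y => by
    simp only [sY, Finset.mem_subtype, Set.Finite.mem_toFinset]
    exact ⟨fun h => h.1, fun h => ⟨h, y.2⟩⟩
  have hξ : ξ = ∑ y ∈ sY, DirectSum.lof R (Y.cdPt 1) (fun z : Y.cdPt 1 => T.ptGp Y z.1 M i₂ n₂) y
      (Q'.cpt y M i n i₂ n₂ h4 h4' (fcls T Y M i n (φ ⁻¹ᵁ U) hUY α)) := by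
    refine (ptSum_eq_sum T Y M ξ sY fun y hy => ?_).trans
      (Finset.sum_congr rfl fun y _ => congrArg _ (BMCoh.PreTheory.ResData.tot_apply ..))
    refine (BMCoh.PreTheory.ResData.tot_apply ..).trans
      (resData_eq_zero_of_mem T Y M Q' y hUY ?_ i n i₂ n₂ h4 h4' α)
    by_contra h
    exact hy ((hsY y).2 h)
  have hβ : Q.tot M i₁ n₁ i₂ n₂ h2 h2' β = ∑ x ∈ sX, DirectSum.lof R (X.cdPt (q + 1))
      (fun z : X.cdPt (q + 1) => T.ptGp X z.1 M i₂ n₂) x (Q.cpt x M i₁ n₁ i₂ n₂ h2 h2' β) := by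
    refine (ptSum_eq_sum T X M _ sX fun x hx => ?_).trans
      (Finset.sum_congr rfl fun x _ => congrArg _ (BMCoh.PreTheory.ResData.tot_apply ..))
    refine (BMCoh.PreTheory.ResData.tot_apply ..).trans
      (resData_eq_zero_of_mem T X M Q x hU ?_ i₁ n₁ i₂ n₂ h2 h2' _)
    by_contra h
    exact hx ((hsX x).2 h)
  have hmaps : ∀ y : Y.cdPt 1, φ y.1 = (t y).1 := fun y => (F y).maps_pt
  refine hβ.trans (Eq.trans ?_ (congrArg _ hξ).symm)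
  rw [map_sum]
  refine Eq.trans ?_ (Finset.sum_congr rfl fun y _ =>
    (BMCoh.PreTheory.PtPush.famTot_lof t F M i₂ n₂ y _).symm)
  refine Eq.trans (Finset.sum_congr rfl fun x hx => residue_push M hred hd Q Q' t F hU hrange
    i n i₁ n₁ i₂ n₂ hi hn h2 h2' h4 h4' α x ((hsX x).1 hx) (sY.filter fun y => t y = x) fun y => ?_) ?_
  · simp only [Finset.mem_filter, hsY]
    exact ⟨fun h => h.2 ▸ hmaps y, fun h => ⟨h ▸ (hsX x).1 hx, Subtype.ext ((hmaps y).symm.trans h)⟩⟩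
  · exact Finset.sum_fiberwise_of_maps_to
      (fun y hy => (hsX _).2 (hmaps y ▸ (hsY y).1 hy)) _

end Groth.BMCohLib
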