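import Groth.Prelude.Def_BMCoh
import Groth.Agent.SpectralTopology.Dim
import Mathlib.Topology.Sober
import Mathlib.Order.KrullDimension

/-!
# Dimension bookkeeping in a constructible class of schemes

`pdim` (the dimension of the closure of a point) is invariant under immersions between members, the
dimension of a member is attained at a point, and codimension is `dim - pdim`.
-/

set_option autoImplicit false
universe u

open Topology TopologicalSpace Order AlgebraicGeometry CategoryTheory

namespace Groth.BMCohLib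

section Top

variable {X : Type u} [TopologicalSpace X]

theorem krullDim_le_natDim [Nonempty X] (hfin : topologicalKrullDim X < ⊤) :
    topologicalKrullDim X = (WeilCoh.natDim X : WithBot ℕ∞) := by
  obtain ⟨a, ha⟩ := WithBot.ne_bot_iff_exists.1
    (ne_of_gt (lt_of_lt_of_le (WithBot.bot_lt_coe 0)
      (Groth.SpectralTopology.topologicalKrullDim_nonneg (X := X))))
  unfold WeilCoh.natDim
  rw [← ha] at hfin ⊢
  induction a using ENat.recTopCoe with
  | top => simp at hfin
  | coe n => simp

theorem natDim_le_of {n : ℕ} (h : ∀ l : LTSeries (IrreducibleCloseds X), l.length ≤ n) :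
    WeilCoh.natDim X ≤ n := by
  have h' : topologicalKrullDim X ≤ (n : WithBot ℕ∞) :=
    Groth.SpectralTopology.topologicalKrullDim_le_iff.2 fun l => by exact_mod_cast h l
  unfold WeilCoh.natDim
  revert h'
  rcases topologicalKrullDim X with _ | a
  · intro _; exact Nat.zero_le _
  · intro h'
    have h'' : a ≤ (n : ℕ∞) := WithBot.coe_le_coe.1 h'
    show a.toNat ≤ n
    simpa using ENat.toNat_le_toNat h'' (by simp)

theorem le_natDim (hfin : topologicalKrullDim X < ⊤) (l : LTSeries (IrreducibleCloseds X)) :
    l.length ≤ WeilCoh.natDim X := by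
  have : Nonempty X := ⟨l.last.isIrreducible.nonempty.some⟩
  have h : (l.length : WithBot ℕ∞) ≤ topologicalKrullDim X := LTSeries.length_le_krullDim l
  rw [krullDim_le_natDim hfin] at h
  exact_mod_cast h

theorem natDim_eq_of_homeomorph {Y : Type u} [TopologicalSpace Y] (e : X ≃ₜ Y) :
    WeilCoh.natDim X = WeilCoh.natDim Y := by
  unfold WeilCoh.natDim
  rw [IsHomeomorph.topologicalKrullDim_eq _ e.isHomeomorph]

theorem natDim_le_of_isInducing {Y : Type u} [TopologicalSpace Y] {f : Y → X} (hf : IsInducing f)
    (hfin : topologicalKrullDim X < ⊤) : WeilCoh.natDim Y ≤ WeilCoh.natDim X :=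
  natDim_le_of fun l => le_natDim hfin (l.map _ (IrreducibleCloseds.map_strictMono_of_isInducing hf))

theorem closure_fin (hfin : topologicalKrullDim X < ⊤) (s : Set X) : topologicalKrullDim s < ⊤ :=
  lt_of_le_of_lt (topologicalKrullDim_subspace_le X s) hfin

/-- The chains computing the dimension of `closure {x}` are the chains of `X` inside it. -/
theorem le_pdim_of_chain (hfin : topologicalKrullDim X < ⊤) (l : LTSeries (IrreducibleCloseds X))
    (x : X) (h : (l.last : Set X) ⊆ closure {x}) :
    l.length ≤ WeilCoh.natDim (closure ({x} : Set X)) := by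
  have : Nonempty (closure ({x} : Set X)) := ⟨⟨x, subset_closure rfl⟩⟩
  have h2 := Groth.SpectralTopology.length_le_of_last_subset_range (IsInducing.subtypeVal)
    l (f := ((↑) : closure ({x} : Set X) → X)) (by simpa using h)
  rw [krullDim_le_natDim (closure_fin hfin _)] at h2
  exact_mod_cast h2

theorem natDim_le_of_chains {Z : Set X} (hZ : IsClosed Z) {n : ℕ}
    (h : ∀ l : LTSeries (IrreducibleCloseds X), (l.last : Set X) ⊆ Z → l.length ≤ n) :
    WeilCoh.natDim Z ≤ n := by
  refine natDim_le_of fun l => ?_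
  have := h (l.map _ (IrreducibleCloseds.map_strictMono_of_isInducing
    (IsInducing.subtypeVal (t := Z)))) (by
      rw [LTSeries.last_map]
      show closure ((↑) '' (l.last : Set Z)) ⊆ Z
      exact closure_minimal (by simp) hZ)
  exact this

theorem natDim_closure_lt [T0Space X] (hfin : topologicalKrullDim X < ⊤)
    {x y : X} (hxy : x ⤳ y) (hne : y ≠ x) :
    WeilCoh.natDim (closure ({y} : Set X)) < WeilCoh.natDim (closure ({x} : Set X)) := by
  have : Nonempty (closure ({y} : Set X)) := ⟨⟨y, subset_closure rfl⟩⟩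
  obtain ⟨l, hl⟩ := (le_krullDim_iff (α := IrreducibleCloseds (closure ({y} : Set X)))
    (n := WeilCoh.natDim (closure ({y} : Set X)))).1 (by
      rw [← krullDim_le_natDim (closure_fin hfin _)]; rfl)
  let m := l.map _ (IrreducibleCloseds.map_strictMono_of_isInducing
    (IsInducing.subtypeVal (t := closure ({y} : Set X))))
  have hm : (m.last : Set X) ⊆ closure {y} := by
    rw [LTSeries.last_map]
    show closure ((↑) '' (l.last : Set (closure ({y} : Set X)))) ⊆ closure {y}
    exact closure_minimal (by simp) isClosed_closure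
  have hlt : m.last < ⟨closure {x}, isIrreducible_singleton.closure, isClosed_closure⟩ := by
    refine lt_of_le_of_ne (hm.trans (hxy.closure_subset)) ?_
    intro heq
    have hx : x ∈ closure ({y} : Set X) :=
      hm ((congrArg (fun C : IrreducibleCloseds X => (C : Set X)) heq).symm ▸ subset_closure rfl)
    exact hne ((specializes_iff_mem_closure.2 hx).antisymm hxy).eq
  have := le_pdim_of_chain hfin (m.snoc _ hlt) x (by simp)
  rw [← hl]
  simp [m, RelSeries.snoc, LTSeries.map] at this
  omega

theorem exists_natDim_closure_eq [QuasiSober X] [Nonempty X] (hfin : topologicalKrullDim X < ⊤) :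
    ∃ x : X, WeilCoh.natDim (closure ({x} : Set X)) = WeilCoh.natDim X := by
  obtain ⟨l, hl⟩ := (le_krullDim_iff (α := IrreducibleCloseds X)
    (n := WeilCoh.natDim X)).1 (by rw [← krullDim_le_natDim hfin]; rfl)
  refine ⟨l.last.isIrreducible.genericPoint, le_antisymm
    (natDim_le_of_isInducing IsInducing.subtypeVal hfin) ?_⟩
  rw [← hl]
  refine le_pdim_of_chain hfin l _ ?_
  rw [l.last.isIrreducible.isGenericPoint_genericPoint_closure, l.last.isClosed.closure_eq]

end Top

variable {V : ObjectProperty Scheme.{u}} [BMCoh.IsConstructible V]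

theorem fin_dim (X : BMCoh.Obj V) : topologicalKrullDim X.scheme < ⊤ :=
  BMCoh.IsConstructible.finiteDim X.mem

instance isNoetherian_scheme (X : BMCoh.Obj V) : IsNoetherian X.scheme :=
  BMCoh.IsConstructible.isNoetherian X.mem

theorem pdim_le_dim (X : BMCoh.Obj V) (x : X.scheme) :
    WeilCoh.pdim X.scheme x ≤ WeilCoh.dim X.scheme :=
  natDim_le_of_isInducing IsInducing.subtypeVal (fin_dim X)

theorem pdim_lt (X : BMCoh.Obj V) {x y : X.scheme} (h : x ⤳ y) (hne : y ≠ x) :
    WeilCoh.pdim X.scheme y < WeilCoh.pdim X.scheme x :=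
  natDim_closure_lt (fin_dim X) h hne

theorem pdim_mono (X : BMCoh.Obj V) {x y : X.scheme} (h : x ⤳ y) :
    WeilCoh.pdim X.scheme y ≤ WeilCoh.pdim X.scheme x := by
  rcases eq_or_ne y x with rfl | hne
  exacts [le_rfl, (pdim_lt X h hne).le]

theorem exists_pdim_eq_dim (X : BMCoh.Obj V) [Nonempty X.scheme] :
    ∃ x : X.scheme, WeilCoh.pdim X.scheme x = WeilCoh.dim X.scheme :=
  exists_natDim_closure_eq (fin_dim X)

theorem dim_le_iff (X : BMCoh.Obj V) (n : ℕ) :
    WeilCoh.dim X.scheme ≤ n ↔ ∀ x : X.scheme, WeilCoh.pdim X.scheme x ≤ n := by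
  refine ⟨fun h x => (pdim_le_dim X x).trans h, fun h => ?_⟩
  rcases isEmpty_or_nonempty X.scheme with hX | hX
  · exact natDim_le_of fun l => (IsEmpty.false l.last.isIrreducible.nonempty.some).elim
  · obtain ⟨x, hx⟩ := exists_pdim_eq_dim X
    exact hx ▸ h x

theorem dim_of_isEmpty (X : BMCoh.Obj V) [IsEmpty X.scheme] : WeilCoh.dim X.scheme = 0 :=
  Nat.le_zero.1 ((dim_le_iff X 0).2 isEmptyElim)

/-- `pdim` is unchanged by a closed embedding. -/
theorem pdim_of_closedEmbedding {X Y : Scheme.{u}} (f : Y ⟶ X) (hf : IsClosedEmbedding f) (y : Y) :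
    WeilCoh.pdim X (f y) = WeilCoh.pdim Y y := by
  have h : f '' closure {y} = closure {f y} := by
    rw [← hf.closure_image_eq, Set.image_singleton]
  exact natDim_eq_of_homeomorph (((hf.isEmbedding.homeomorphImage _).trans (Homeomorph.setCongr h))).symm

/-- `pdim` is unchanged by an open immersion into a member. -/
theorem pdim_of_openImmersion (X : BMCoh.Obj V) {Y : Scheme.{u}} (f : Y ⟶ X.scheme)
    [IsOpenImmersion f] (y : Y) : WeilCoh.pdim X.scheme (f y) = WeilCoh.pdim Y y := by
  let P := X.ptSub (f y)
  have hr : Set.range (X.ptSubι (f y)) = closure ({f y} : Set X.scheme) := by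
    rw [Scheme.IdealSheafData.range_subschemeι]; simp
  have he : IsClosedEmbedding (X.ptSubι (f y)) := (X.ptSubι (f y)).isClosedEmbedding
  let eP : P.scheme ≃ₜ closure ({f y} : Set X.scheme) :=
    he.isEmbedding.toHomeomorph.trans (Homeomorph.setCongr hr)
  have hirr : IrreducibleSpace P.scheme :=
    (irreducibleSpace_def _).2 (by
      haveI : IrreducibleSpace (closure ({f y} : Set X.scheme)) :=
        Subtype.irreducibleSpace (isIrreducible_singleton.closure)
      have := IrreducibleSpace.isIrreducible_univ (closure ({f y} : Set X.scheme))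
      simpa using this.image eP.symm eP.symm.continuous.continuousOn)
  let U : P.scheme.Opens := X.ptSubι (f y) ⁻¹ᵁ f.opensRange
  have hU : (U : Set P.scheme).Nonempty :=
    ⟨eP.symm ⟨f y, subset_closure rfl⟩, by
      show X.ptSubι (f y) (eP.symm ⟨f y, subset_closure rfl⟩) ∈ Set.range f
      rw [show X.ptSubι (f y) (eP.symm ⟨f y, subset_closure rfl⟩) = f y from
        congrArg Subtype.val (eP.apply_symm_apply ⟨f y, subset_closure rfl⟩)]
      exact ⟨y, rfl⟩⟩
  have h1 := BMCoh.IsConstructible.dim_open P.mem hirr U hU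
  have e2 : WeilCoh.pdim X.scheme (f y) = WeilCoh.dim P.scheme :=
    (natDim_eq_of_homeomorph eP).symm
  rw [e2, ← h1]
  have hf := f.isOpenEmbedding
  have hinj : IsEmbedding (fun z : (U : Set P.scheme) => X.ptSubι (f y) z) :=
    he.isEmbedding.comp IsEmbedding.subtypeVal
  have hrange : Set.range (fun z : (U : Set P.scheme) => X.ptSubι (f y) z) = f '' closure {y} := by
    have hcl : closure ({f y} : Set X.scheme) ∩ Set.range f = f '' closure {y} := by
      rw [← Set.image_singleton, ← Set.image_preimage_eq_inter_range, hf.isOpenMap.preimage_closure_eq_closure_preimage hf.continuous,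
        Set.preimage_image_eq _ hf.injective]
    rw [← hcl, ← hr]
    ext x
    constructor
    · rintro ⟨⟨z, hz⟩, rfl⟩; exact ⟨⟨z, rfl⟩, hz⟩
    · rintro ⟨⟨z, rfl⟩, hz⟩; exact ⟨⟨z, hz⟩, rfl⟩
  exact natDim_eq_of_homeomorph
    ((hinj.toHomeomorph.trans (Homeomorph.setCongr hrange)).trans (hf.isEmbedding.homeomorphImage _).symm)

/-- `pdim` is unchanged by an immersion into a member. -/
theorem pdim_of_immersion (X : BMCoh.Obj V) {Y : Scheme.{u}} (f : Y ⟶ X.scheme) [IsImmersion f]
    (y : Y) : WeilCoh.pdim X.scheme (f y) = WeilCoh.pdim Y y := by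
  rw [← pdim_of_closedEmbedding f.liftCoborder f.liftCoborder.isClosedEmbedding y,
    ← pdim_of_openImmersion X f.coborderRange.ι (f.liftCoborder y),
    ← Scheme.Hom.comp_apply, f.liftCoborder_ι]

theorem codim_add_pdim (X : BMCoh.Obj V) (x : X.scheme) :
    WeilCoh.codim X.scheme x + WeilCoh.pdim X.scheme x = WeilCoh.dim X.scheme := by
  have := pdim_le_dim X x
  unfold WeilCoh.codim; omega

theorem codim_mono (X : BMCoh.Obj V) {x y : X.scheme} (h : x ⤳ y) :
    WeilCoh.codim X.scheme x ≤ WeilCoh.codim X.scheme y := by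
  have := pdim_mono X h
  have := codim_add_pdim X x
  have := codim_add_pdim X y
  omega

theorem eq_of_specializes_of_codim_le (X : BMCoh.Obj V) {x y : X.scheme} (h : x ⤳ y)
    (hc : WeilCoh.codim X.scheme y ≤ WeilCoh.codim X.scheme x) : y = x := by
  by_contra hne
  have := pdim_lt X h hne
  have := codim_add_pdim X x
  have := codim_add_pdim X y
  omega

end Groth.BMCohLib
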