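import Groth.Agent.BMCoh.Push
import Groth.Agent.BMCoh.Multi
import Mathlib.AlgebraicGeometry.Morphisms.QuasiFinite

/-!
# Geometry of proper maps with discrete fibres between objects

Such a map preserves the dimension of closures of points; near a point `x` of codimension `q + 1` the
inverse image of a closed set is the disjoint union of the closures of the points over `x`.
-/

set_option autoImplicit false
universe u

open Topology TopologicalSpace AlgebraicGeometry CategoryTheory Limits Opposite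

namespace Groth.BMCohLib

variable {V : ObjectProperty Scheme.{u}} [BMCoh.IsConstructible V]
variable {Y X : BMCoh.Obj V} (φ : Y.scheme ⟶ X.scheme)

theorem eq_of_specializes_of_map_eq [LocallyQuasiFinite φ] {z z1 : Y.scheme} (h : z ⤳ z1)
    (he : φ z1 = φ z) : z1 = z := by
  haveI : DiscreteTopology (φ ⁻¹' {φ z}) := (φ.isDiscrete_preimage_singleton (φ z)).to_subtype
  have h' : (⟨z, rfl⟩ : φ ⁻¹' {φ z}) ⤳ ⟨z1, he⟩ := (subtype_specializes_iff _ _).2 h
  exact (congrArg Subtype.val h'.eq).symm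

/-- A proper map with discrete fibres preserves the dimension of closures of points. -/
theorem pdim_map_eq [IsProper φ] [LocallyQuasiFinite φ] (z : Y.scheme) :
    WeilCoh.pdim X.scheme (φ z) = WeilCoh.pdim Y.scheme z := by
  refine le_antisymm (pdim_map_le φ z) ?_
  induction h : WeilCoh.pdim Y.scheme z using Nat.strong_induction_on generalizing z with
  | _ N ih =>
    subst h
    refine natDim_le_of_chains isClosed_closure fun l hl => ?_
    rcases Nat.eq_zero_or_pos l.length with h0 | h0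
    · omega
    let C := l ⟨l.length - 1, by omega⟩
    have hlt : C < l.last := l.strictMono (by simp [Fin.lt_def]; omega)
    let z1 := C.isIrreducible.genericPoint
    have hz1 : closure {z1} = (C : Set Y.scheme) := by
      rw [C.isIrreducible.isGenericPoint_genericPoint_closure, C.isClosed.closure_eq]
    have hz1C : z1 ∈ (C : Set Y.scheme) := hz1 ▸ subset_closure rfl
    have hspec : z ⤳ z1 :=
      specializes_iff_mem_closure.2 (hl (SetLike.coe_subset_coe.2 hlt.le hz1C))
    have hne : z1 ≠ z := fun he =>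
      hlt.ne (le_antisymm hlt.le (hz1 ▸ he ▸ hl : (l.last : Set Y.scheme) ⊆ C))
    have hdec := pdim_lt Y hspec hne
    have hih := ih _ hdec z1 rfl
    have hlt2 := pdim_lt X (hspec.map φ.continuous)
      fun he => hne (eq_of_specializes_of_map_eq φ hspec he)
    have := le_pdim_of_chain (fin_dim Y) (l.take ⟨l.length - 1, by omega⟩) z1 (by
      rw [hz1]
      show ((l.take ⟨l.length - 1, by omega⟩).last : Set Y.scheme) ⊆ _
      simp [C])
    simp only [RelSeries.take_length] at this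
    change l.length - 1 ≤ WeilCoh.pdim Y.scheme z1 at this
    omega

variable [IsProper φ] [LocallyQuasiFinite φ] {q : ℕ}

theorem codim_map_eq (hd : WeilCoh.dim Y.scheme + q = WeilCoh.dim X.scheme) (z : Y.scheme) :
    WeilCoh.codim X.scheme (φ z) = WeilCoh.codim Y.scheme z + q := by
  have := codim_add_pdim X (φ z)
  have := codim_add_pdim Y z
  have := pdim_map_eq φ z
  omega

/-- Near a point of minimal codimension of a closed set, the inverse image is the disjoint union of
the closures of the points over it. -/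
theorem exists_attach_preimage (hd : WeilCoh.dim Y.scheme + q = WeilCoh.dim X.scheme)
    {C : Set X.scheme} (hC : IsClosed C) (hc : ∀ z ∈ C, q + 1 ≤ WeilCoh.codim X.scheme z)
    {x : X.scheme} (hx : x ∈ C) (hxc : WeilCoh.codim X.scheme x = q + 1)
    (S : Finset Y.scheme) (hS : ∀ z, z ∈ S ↔ φ z = x) :
    ∃ W : X.scheme.Opens, x ∈ W ∧ Cᶜ ⊆ (W : Set X.scheme) ∧ C ∩ W = closure {x} ∩ W ∧
      IsGood Y 1 (φ ⁻¹ᵁ W) S ∧
      ∀ z, φ z ∈ C → φ z ∈ W → z ∈ (closuresOf Y S : Set Y.scheme) := by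
  classical
  obtain ⟨W0, hxW0, hCW0, hW0eq⟩ := exists_attach X hC hc hx hxc
  have hSc : ∀ z ∈ S, WeilCoh.codim Y.scheme z = 1 := fun z hz => by
    have h := codim_map_eq φ hd z
    rw [(hS z).1 hz, hxc] at h
    omega
  have hCY : IsClosed (φ ⁻¹' C) := hC.preimage φ.continuous
  have hcY : ∀ z ∈ φ ⁻¹' C, 1 ≤ WeilCoh.codim Y.scheme z := fun z hz => by
    have := codim_map_eq φ hd z; have := hc _ hz; omega
  obtain ⟨G, hG⟩ := exists_finite_generators Y hCY
  have hSC : ∀ z ∈ S, closure {z} ⊆ φ ⁻¹' C := fun z hz =>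
    hCY.closure_subset_iff.2 (Set.singleton_subset_iff.2 (show φ z ∈ C by rw [(hS z).1 hz]; exact hx))
  let E : Set Y.scheme := (⋃ g ∈ G.filter (· ∉ S), closure {g}) ∪
    ⋃ p ∈ S.offDiag, closure {p.1} ∩ closure {p.2}
  have hEC : E ⊆ φ ⁻¹' C := by
    rintro z (hz | hz)
    · simp only [Set.mem_iUnion, Finset.mem_filter] at hz
      obtain ⟨g, ⟨hg, -⟩, hzg⟩ := hz
      exact hG.superset (Set.mem_biUnion hg hzg)
    · simp only [Set.mem_iUnion, Finset.mem_offDiag] at hz
      obtain ⟨p, ⟨hp, -, -⟩, hz, -⟩ := hz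
      exact hSC _ hp hz
  have hE : IsClosed E := (isClosed_biUnion_finset fun _ _ => isClosed_closure).union
    (isClosed_biUnion_finset fun _ _ => isClosed_closure.inter isClosed_closure)
  have hxE : x ∉ φ '' E := by
    rintro ⟨z, hz, hzx⟩
    have hzS : z ∈ S := (hS z).2 hzx
    rcases hz with hz | hz
    · simp only [Set.mem_iUnion, Finset.mem_filter] at hz
      obtain ⟨g, ⟨hg, hgS⟩, hzg⟩ := hz
      refine hgS ?_
      rwa [← eq_of_specializes_of_codim_le Y (specializes_iff_mem_closure.2 hzg)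
        ((hSc z hzS).le.trans (hcY g (hG.superset (Set.mem_biUnion hg (subset_closure rfl)))))]
    · simp only [Set.mem_iUnion, Finset.mem_offDiag] at hz
      obtain ⟨⟨a, b⟩, ⟨ha, hb, hne⟩, h1, h2⟩ := hz
      have e1 := eq_of_specializes_of_codim_le Y (specializes_iff_mem_closure.2 h1)
        (by rw [hSc z hzS, hSc a ha])
      have e2 := eq_of_specializes_of_codim_le Y (specializes_iff_mem_closure.2 h2)
        (by rw [hSc z hzS, hSc b hb])
      exact hne (e1.symm.trans e2)
  refine ⟨W0 ⊓ ⟨(φ '' E)ᶜ, (φ.isClosedMap E hE).isOpen_compl⟩, ⟨hxW0, hxE⟩, ?_, ?_, ?_, ?_⟩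
  · rintro z hz
    exact ⟨hCW0 hz, fun ⟨e, he, hez⟩ => hz (hez ▸ hEC he)⟩
  · rw [Opens.coe_inf, ← Set.inter_assoc, hW0eq, Set.inter_assoc]
  · refine ⟨fun z hz => ?_, hSc, fun a ha b hb hne z hz h1 h2 => ?_⟩
    · show φ z ∈ ((W0 ⊓ ⟨(φ '' E)ᶜ, (φ.isClosedMap E hE).isOpen_compl⟩ : X.scheme.Opens) : Set X.scheme)
      rw [(hS z).1 hz]
      exact ⟨hxW0, hxE⟩
    · exact hz.2 ⟨z, Or.inr (Set.mem_biUnion (x := (a, b)) (Finset.mem_offDiag.2 ⟨ha, hb, hne⟩)
        ⟨h1, h2⟩), rfl⟩
  · intro z hzC hzW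
    have hzC' : z ∈ φ ⁻¹' C := hzC
    rw [hG] at hzC'
    simp only [Set.mem_iUnion] at hzC'
    obtain ⟨g, hg, hzg⟩ := hzC'
    refine (mem_closuresOf Y).2 ⟨g, ?_, hzg⟩
    by_contra hgS
    exact hzW.2 ⟨z, Or.inl (Set.mem_biUnion (Finset.mem_filter.2 ⟨hg, hgS⟩) hzg), rfl⟩

end Groth.BMCohLib
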