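import Groth.Agent.BMCoh.Colim

/-!
# Gysin sequences of opens and pieces

Decompositions of an open of an object, or of a reduced piece, cut out by pieces; the exactness of
their Gysin sequences in elementwise form with free indices; compatibilities with restriction.
-/

set_option autoImplicit false
universe u

open Topology TopologicalSpace AlgebraicGeometry CategoryTheory Limits Opposite

namespace Groth.BMCohLib

variable {V : ObjectProperty Scheme.{u}} [BMCoh.IsConstructible V]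
variable {R : Type u} [CommRing R] {A : BMCoh.Coefs R} (T : BMCoh.PreTheory V R A)

section Exact

variable {X : BMCoh.Obj V} (D : BMCoh.Decomp X) (M : A.Cat)

theorem exact_pr_apply (i n i' n' : ℤ) (hi : i' = i + 1 - 2 * D.codim) (hn : n' = n - D.codim)
    (a : T.gp D.U M i n) :
    T.res D M i n i' n' hi hn a = 0 ↔ ∃ b : T.gp X M i n, T.pull D.j M i n b = a :=
  T.exact_pull_res D M i n i' n' hi hn a

theorem exact_rp_apply (i n i' n' i'' : ℤ) (hi : i' = i + 1 - 2 * D.codim) (hn : n' = n - D.codim)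
    (hi'' : i'' = i' + 2 * BMCoh.relCodim D.Z.scheme X.scheme)
    (hn' : n = n' + BMCoh.relCodim D.Z.scheme X.scheme) (h : i'' = i + 1) (a : T.gp D.Z M i' n') :
    T.push D.i M i' n' i'' n hi'' hn' a = 0 ↔
      ∃ b : T.gp D.U M i n, T.res D M i n i' n' hi hn b = a := by
  subst h
  exact T.exact_res_push D M i n i' n' hi hn hi'' hn' a

theorem exact_pp_apply (i' n' i n : ℤ)
    (hi : i = i' + 2 * BMCoh.relCodim D.Z.scheme X.scheme)
    (hn : n = n' + BMCoh.relCodim D.Z.scheme X.scheme) (a : T.gp X M i n) :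
    T.pull D.j M i n a = 0 ↔ ∃ b : T.gp D.Z M i' n', T.push D.i M i' n' i n hi hn b = a := by
  obtain ⟨k, rfl⟩ : ∃ k, i = k + 1 := ⟨i - 1, by ring⟩
  exact T.exact_push_pull D M k n i' n' hi hn a

theorem pull_push_eq_zero (i' n' i n : ℤ)
    (hi : i = i' + 2 * BMCoh.relCodim D.Z.scheme X.scheme)
    (hn : n = n' + BMCoh.relCodim D.Z.scheme X.scheme) (b : T.gp D.Z M i' n') :
    T.pull D.j M i n (T.push D.i M i' n' i n hi hn b) = 0 :=
  (exact_pp_apply T D M i' n' i n hi hn _).2 ⟨b, rfl⟩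

theorem res_pull_eq_zero (i n i' n' : ℤ) (hi : i' = i + 1 - 2 * D.codim) (hn : n' = n - D.codim)
    (b : T.gp X M i n) : T.res D M i n i' n' hi hn (T.pull D.j M i n b) = 0 :=
  (exact_pr_apply T D M i n i' n' hi hn _).2 ⟨b, rfl⟩

/-- If the two neighbouring groups of the closed part vanish, restriction to the open part is
bijective. -/
theorem pull_bijective_of_zero (i n : ℤ)
    (h0 : IsZero (T.gp D.Z M (i - 2 * D.codim) (n - D.codim)))
    (h1 : IsZero (T.gp D.Z M (i + 1 - 2 * D.codim) (n - D.codim))) :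
    Function.Bijective (T.pull D.j M i n) := by
  constructor
  · rw [injective_iff_map_eq_zero]
    intro a ha
    obtain ⟨b, rfl⟩ := (exact_pp_apply T D M (i - 2 * D.codim) (n - D.codim) i n (by
      simp only [BMCoh.Decomp.codim]; ring) (by simp only [BMCoh.Decomp.codim]; ring) a).1 ha
    haveI := ModuleCat.subsingleton_of_isZero h0
    rw [Subsingleton.elim b 0, map_zero]
  · intro a
    haveI := ModuleCat.subsingleton_of_isZero h1
    exact (exact_pr_apply T D M i n _ _ rfl rfl a).1 (Subsingleton.elim _ _)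

end Exact

theorem pull_bijective_of_isIso {X Y : BMCoh.Obj V} (f : X ⟶ Y) [IsIso f.hom] (M : A.Cat)
    (i n : ℤ) : Function.Bijective (T.pull f M i n) := by
  let g : Y ⟶ X := ⟨inv f.hom, inferInstance, f.dim_eq.symm⟩
  have h1 : f ≫ g = 𝟙 X := BMCoh.Hom.ext (IsIso.hom_inv_id f.hom)
  have h2 : g ≫ f = 𝟙 Y := BMCoh.Hom.ext (IsIso.inv_hom_id f.hom)
  refine Function.bijective_iff_has_inverse.2 ⟨T.pull g M i n, fun a => ?_, fun a => ?_⟩
  · rw [pull_comp_apply, h2, pull_id_apply]
  · rw [pull_comp_apply, h1, pull_id_apply]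

theorem subsingleton_of_isEmpty (Z : BMCoh.Obj V) [IsEmpty Z.scheme] (M : A.Cat) (i n : ℤ) :
    Subsingleton (T.gp Z M i n) := by
  let D : BMCoh.Decomp Z :=
    { Z := Z, U := Z, i := 𝟙 _, closedImm := inferInstance, j := 𝟙 Z
      range_eq := Set.eq_of_subset_of_subset (fun x => isEmptyElim x) (fun x => isEmptyElim x) }
  have hc : BMCoh.relCodim Z.scheme Z.scheme = 0 := sub_self _
  refine ⟨fun a b => ?_⟩
  suffices h : ∀ a : T.gp Z M i n, a = 0 by rw [h a, h b]
  intro a
  have h0 := pull_push_eq_zero T D M i n i n (by simp [D, hc]) (by simp [D, hc]) a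
  have hid : T.push (𝟙 Z.scheme) M i n i n (by simp [hc]) (by simp [hc]) = 𝟙 _ := T.push_id Z M i n _ _
  simp only [D] at h0
  rw [pull_id_apply] at h0
  rw [hid] at h0
  exact h0

variable {X : BMCoh.Obj V}

theorem preimage_diff_isClosed {L : Set X.scheme} {U U1 : X.scheme.Opens}
    (hL : L = (U : Set X.scheme) \ U1) : IsClosed (U.ι ⁻¹' L) := by
  rw [show U.ι ⁻¹' L = U.ι ⁻¹' (U1 : Set X.scheme)ᶜ from
    hL ▸ Set.ext fun q => and_iff_right (show U.ι q ∈ U from q.2)]
  exact U1.isOpen.isClosed_compl.preimage U.ι.continuous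

theorem ι_homOfLE {Y : Scheme.{u}} {U U1 : Y.Opens} (h : U1 ≤ U) (p : U1.toScheme) :
    U.ι ((Y.homOfLE h) p) = U1.ι p := by
  rw [← Scheme.Hom.comp_apply, Scheme.homOfLE_ι]

theorem subset_of_eq_diff {L : Set X.scheme} {U U1 : X.scheme.Opens}
    (hL : L = (U : Set X.scheme) \ U1) : L ⊆ U := hL ▸ Set.sdiff_subset

theorem range_resLE_eq_compl {L : Set X.scheme} {U U1 : X.scheme.Opens} (h : U1 ≤ U)
    (P : Piece X L) (hL : L = (U : Set X.scheme) \ U1) :
    Set.range (X.scheme.homOfLE h) = (Set.range (P.toOpen U (subset_of_eq_diff hL)))ᶜ := by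
  rw [Piece.range_toOpen]
  ext q
  have hq : U.ι q ∈ (U : Set X.scheme) := q.2
  constructor
  · rintro ⟨p, rfl⟩ hp
    have hp' : U1.ι p ∈ (U : Set X.scheme) \ U1 := hL ▸ ι_homOfLE h p ▸ hp
    exact hp'.2 p.2
  · intro hnq
    have hq1 : U.ι q ∈ (U1 : Set X.scheme) := by
      by_contra hc
      exact hnq (show U.ι q ∈ L from hL ▸ ⟨hq, hc⟩)
    exact ⟨⟨U.ι q, hq1⟩, U.ι.isEmbedding.injective (ι_homOfLE h _)⟩

/-- The decomposition of an open `U` by a smaller open `U1` and a piece on `U \ U1`. -/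
noncomputable def decompOf {L : Set X.scheme} {U U1 : X.scheme.Opens} (h : U1 ≤ U)
    (hd : WeilCoh.dim (U1 : Scheme.{u}) = WeilCoh.dim (U : Scheme.{u})) (P : Piece X L)
    (hL : L = (U : Set X.scheme) \ U1) : BMCoh.Decomp (X.res U) where
  Z := P.obj
  U := X.res U1
  i := P.toOpen U (subset_of_eq_diff hL)
  closedImm := P.isClosedImmersion_toOpen U _ (preimage_diff_isClosed hL)
  j := X.resLE h hd
  range_eq := range_resLE_eq_compl h P hL

/-- The decomposition of a piece by a closed piece and the complementary open piece. -/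
noncomputable def decompPiece {L L' L'' : Set X.scheme} (Q : Piece X L') (P : Piece X L)
    (R' : Piece X L'') (hP : L ⊆ L') (hc : IsClosed (Q.ι ⁻¹' L)) (hR : L'' = L' \ L)
    (hd : WeilCoh.dim R'.obj.scheme = WeilCoh.dim Q.obj.scheme) : BMCoh.Decomp Q.obj where
  Z := P.obj
  U := R'.obj
  i := P.map Q hP
  closedImm := P.isClosedImmersion_map Q hP hc
  j := R'.homOpen Q (hR ▸ Set.sdiff_subset) (by
    rw [show Q.ι ⁻¹' L'' = (Q.ι ⁻¹' L)ᶜ from hR ▸ Set.ext fun q => and_iff_right (Q.ι_mem q)]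
    exact hc.isOpen_compl) hd
  range_eq := by
    rw [Piece.homOpen_hom, Piece.range_map, Piece.range_map]
    exact hR ▸ Set.ext fun q => and_iff_right (Q.ι_mem q)

/-- Restriction to a smaller open after push-forward from a piece closed in an open. -/
theorem pull_push_open {L L' : Set X.scheme} {U U' : X.scheme.Opens} (h : U' ≤ U)
    (hd : WeilCoh.dim (U' : Scheme.{u}) = WeilCoh.dim (U : Scheme.{u}))
    (P : Piece X L) (hLU : L ⊆ U) [IsProper (P.toOpen U hLU)]
    (P' : Piece X L') (hL' : L' = L ∩ U') [IsProper (P'.toOpen U' (hL' ▸ Set.inter_subset_right))]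
    (g : P'.obj ⟶ P.obj) (hg : g.hom ≫ P.ι = P'.ι)
    (M : A.Cat) (i n i' n' : ℤ)
    (hi : i' = i + 2 * BMCoh.relCodim P.obj.scheme (X.res U).scheme)
    (hn : n' = n + BMCoh.relCodim P.obj.scheme (X.res U).scheme)
    (hi' : i' = i + 2 * BMCoh.relCodim P'.obj.scheme (X.res U').scheme)
    (hn' : n' = n + BMCoh.relCodim P'.obj.scheme (X.res U').scheme)
    (a : T.gp P.obj M i n) :
    T.pull (X.resLE h hd) M i' n' (T.push (P.toOpen U hLU) M i n i' n' hi hn a) =
      T.push (P'.toOpen U' (hL' ▸ Set.inter_subset_right)) M i n i' n' hi' hn'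
        (T.pull g M i n a) := by
  have hsq : IsPullback g.hom (P'.toOpen U' (hL' ▸ Set.inter_subset_right)) (P.toOpen U hLU)
      (X.resLE h hd).hom := by
    refine (IsOpenImmersion.isPullback _ _ _ _ ?_ ?_).flip
    · rw [← cancel_mono U.ι, Category.assoc, Category.assoc, Piece.toOpen_ι, hg]
      show _ = _ ≫ X.scheme.homOfLE h ≫ U.ι
      rw [Scheme.homOfLE_ι, Piece.toOpen_ι]
    · ext p
      show P.toOpen U hLU p ∈ Set.range (X.scheme.homOfLE h) ↔ p ∈ Set.range g.hom
      constructor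
      · rintro ⟨q, hq⟩
        have hq' := congrArg U.ι hq
        rw [← Scheme.Hom.comp_apply, ← Scheme.Hom.comp_apply, Scheme.homOfLE_ι, Piece.toOpen_ι] at hq'
        have hmem : P.ι p ∈ L' := hL' ▸ ⟨P.ι_mem p, hq' ▸ q.2⟩
        obtain ⟨p', hp'⟩ := (P'.mem_iff _).1 hmem
        refine ⟨p', P.ι.isEmbedding.injective ?_⟩
        rw [← Scheme.Hom.comp_apply, hg, hp']
      · rintro ⟨p', rfl⟩
        have hmem : P'.ι p' ∈ (U' : Set X.scheme) := (hL' ▸ P'.ι_mem p' : _ ∈ L ∩ _).2
        refine ⟨⟨P'.ι p', hmem⟩, U.ι.isEmbedding.injective ?_⟩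
        refine (ι_homOfLE h _).trans ?_
        show P'.ι p' = U.ι (P.toOpen U hLU (g.hom p'))
        rw [← Scheme.Hom.comp_apply, Piece.toOpen_ι, ← Scheme.Hom.comp_apply, hg]
  exact congr(($(T.push_pull (P.toOpen U hLU) (P'.toOpen U' _) (X.resLE h hd) g hsq M i n i' n' hi hn hi' hn')) a)

end Groth.BMCohLib
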