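import Groth.Agent.BMCoh.Dim
import Mathlib.AlgebraicGeometry.Morphisms.Immersion
import Mathlib.AlgebraicGeometry.Morphisms.Proper
import Mathlib.AlgebraicGeometry.IdealSheaf.Functorial
import Mathlib.RingTheory.Spectrum.Prime.Topology

/-!
# Reduced locally closed pieces of an object

A piece of `X` on a set `L` is a reduced object with an immersion into `X` with range `L`. Morphisms
of reduced schemes lift uniquely into pieces, so pieces with the same range are isomorphic over `X`.
-/

set_option autoImplicit false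
universe u

open Topology TopologicalSpace AlgebraicGeometry CategoryTheory

namespace Groth.BMCohLib

theorem isReduced_vanishingIdeal {X : Scheme.{u}} (C : Closeds X) :
    IsReduced (Scheme.IdealSheafData.vanishingIdeal C).subscheme := by
  let I := Scheme.IdealSheafData.vanishingIdeal C
  have : ∀ i, IsReduced (I.subschemeCover.openCover.X i) := fun (U : X.affineOpens) => by
    have hr : (I.ideal U).IsRadical := by
      rw [show I.ideal U = PrimeSpectrum.vanishingIdeal (U.2.fromSpec ⁻¹' C) from rfl]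
      exact PrimeSpectrum.isRadical_vanishingIdeal _
    have : _root_.IsReduced (Γ(X, U) ⧸ I.ideal U) := (Ideal.isRadical_iff_quotient_reduced _).1 hr
    show IsReduced (Spec (.of (Γ(X, U) ⧸ I.ideal U)))
    infer_instance
  exact IsReduced.of_openCover _ I.subschemeCover.openCover

/-- A reduced scheme mapping into the range of a closed immersion factors through it. -/
theorem exists_lift_closed {A B X : Scheme.{u}} [IsReduced A] (f : A ⟶ X) [QuasiCompact f]
    (g : B ⟶ X) [IsClosedImmersion g] (h : Set.range f ⊆ Set.range g) :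
    ∃ l : A ⟶ B, l ≫ g = f := by
  have hsupp : f.ker.support ≤ g.ker.support := by
    rw [← SetLike.coe_subset_coe, Scheme.Hom.support_ker, Scheme.Hom.support_ker]
    exact closure_mono h
  have h1 : g.ker ≤ Scheme.IdealSheafData.vanishingIdeal f.ker.support :=
    (Scheme.IdealSheafData.le_support_iff_le_vanishingIdeal).1 hsupp
  rw [Scheme.IdealSheafData.vanishingIdeal_support] at h1
  have hrad : f.ker.radical ≤ f.ker := fun U x hx => by
    obtain ⟨n, hn⟩ := hx
    rw [Scheme.Hom.ker_apply, RingHom.mem_ker] at hn ⊢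
    rw [map_pow] at hn
    exact (IsNilpotent.eq_zero ⟨n, hn⟩)
  exact ⟨IsClosedImmersion.lift g f (h1.trans hrad), IsClosedImmersion.lift_fac _ _ _⟩

/-- A reduced scheme mapping into the range of an immersion factors through it. -/
theorem exists_lift_immersion {A B X : Scheme.{u}} [IsReduced A] (f : A ⟶ X) [QuasiCompact f]
    (g : B ⟶ X) [IsImmersion g] [QuasiCompact g.coborderRange.ι]
    (h : Set.range f ⊆ Set.range g) : ∃ l : A ⟶ B, l ≫ g = f := by
  have h' : Set.range f ⊆ Set.range g.coborderRange.ι := h.trans (by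
    rw [Scheme.Opens.range_ι]; exact subset_coborder)
  let f' := IsOpenImmersion.lift g.coborderRange.ι f h'
  have : QuasiCompact f' := by
    have : QuasiCompact (f' ≫ g.coborderRange.ι) := by
      rw [IsOpenImmersion.lift_fac]; infer_instance
    exact QuasiCompact.of_comp f' g.coborderRange.ι
  obtain ⟨l, hl⟩ := exists_lift_closed f' g.liftCoborder (by
    rintro _ ⟨a, rfl⟩
    obtain ⟨b, hb⟩ := h ⟨a, rfl⟩
    refine ⟨b, g.coborderRange.ι.isOpenEmbedding.injective ?_⟩
    rw [← Scheme.Hom.comp_apply, g.liftCoborder_ι, hb, ← Scheme.Hom.comp_apply,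
      IsOpenImmersion.lift_fac])
  refine ⟨l, ?_⟩
  rw [← g.liftCoborder_ι, ← Category.assoc, hl, IsOpenImmersion.lift_fac]

variable {V : ObjectProperty Scheme.{u}} [BMCoh.IsConstructible V]

/-- A reduced object with an immersion into `X` of range `L`. -/
structure Piece (X : BMCoh.Obj V) (L : Set X.scheme) : Type (u + 1) where
  /-- the object -/
  obj : BMCoh.Obj V
  /-- the immersion -/
  ι : obj.scheme ⟶ X.scheme
  reduced : IsReduced obj.scheme
  imm : IsImmersion ι
  range_eq : Set.range ι = L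

instance {X : BMCoh.Obj V} {L : Set X.scheme} (P : Piece X L) : IsImmersion P.ι := P.imm
instance {X : BMCoh.Obj V} {L : Set X.scheme} (P : Piece X L) : IsReduced P.obj.scheme := P.reduced

namespace Piece

variable {X : BMCoh.Obj V} {L L' : Set X.scheme}

theorem mem_iff (P : Piece X L) (x : X.scheme) : x ∈ L ↔ ∃ p, P.ι p = x := by
  constructor
  · intro h; exact P.range_eq.superset h
  · rintro ⟨p, rfl⟩; exact P.range_eq.subset ⟨p, rfl⟩

theorem ι_mem (P : Piece X L) (p : P.obj.scheme) : P.ι p ∈ L := (P.mem_iff _).2 ⟨p, rfl⟩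

theorem qc_of_noeth (X : BMCoh.Obj V) {Y : Scheme.{u}} (f : X.scheme ⟶ Y) : QuasiCompact f :=
  quasiCompact_of_noetherianSpace_source f

theorem exists_lift (P : Piece X L) {A : BMCoh.Obj V} [IsReduced A.scheme]
    (f : A.scheme ⟶ X.scheme) (h : Set.range f ⊆ L) : ∃ l : A.scheme ⟶ P.obj.scheme, l ≫ P.ι = f := by
  haveI := qc_of_noeth A f
  haveI : IsNoetherian P.ι.coborderRange.toScheme := isNoetherian_scheme (X.res _)
  haveI : QuasiCompact P.ι.coborderRange.ι :=
    quasiCompact_of_noetherianSpace_source _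
  exact exists_lift_immersion f P.ι (h.trans P.range_eq.symm.subset)

/-- The morphism between pieces given by an inclusion of ranges. -/
noncomputable def map (P : Piece X L) (Q : Piece X L') (h : L ⊆ L') :
    P.obj.scheme ⟶ Q.obj.scheme :=
  (Q.exists_lift P.ι (P.range_eq.trans_subset h)).choose

@[reassoc (attr := simp)]
theorem map_ι (P : Piece X L) (Q : Piece X L') (h : L ⊆ L') : P.map Q h ≫ Q.ι = P.ι :=
  (Q.exists_lift P.ι (P.range_eq.trans_subset h)).choose_spec

theorem map_eq (P : Piece X L) (Q : Piece X L') (h : L ⊆ L')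
    (f : P.obj.scheme ⟶ Q.obj.scheme) (hf : f ≫ Q.ι = P.ι) : f = P.map Q h := by
  rw [← cancel_mono Q.ι, hf, map_ι]

theorem range_map (P : Piece X L) (Q : Piece X L') (h : L ⊆ L') :
    Set.range (P.map Q h) = Q.ι ⁻¹' L := by
  ext q
  constructor
  · rintro ⟨p, rfl⟩
    show Q.ι (P.map Q h p) ∈ L
    rw [← Scheme.Hom.comp_apply, map_ι]
    exact P.ι_mem p
  · intro hq
    obtain ⟨p, hp⟩ := (P.mem_iff _).1 hq
    refine ⟨p, Q.ι.isEmbedding.injective ?_⟩
    rw [← Scheme.Hom.comp_apply, map_ι, hp]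

instance (P : Piece X L) (Q : Piece X L') (h : L ⊆ L') : IsImmersion (P.map Q h) := by
  haveI : IsImmersion (P.map Q h ≫ Q.ι) := by rw [map_ι]; infer_instance
  exact IsImmersion.of_comp _ Q.ι

theorem isClosedImmersion_map (P : Piece X L) (Q : Piece X L') (h : L ⊆ L')
    (hc : IsClosed (Q.ι ⁻¹' L)) : IsClosedImmersion (P.map Q h) :=
  .of_isPreimmersion _ (by rw [range_map]; exact hc)

theorem isOpenImmersion_map (P : Piece X L) (Q : Piece X L') (h : L ⊆ L')
    (ho : IsOpen (Q.ι ⁻¹' L)) : IsOpenImmersion (P.map Q h) := by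
  let W : Q.obj.scheme.Opens := ⟨_, ho⟩
  have hr : Set.range (P.map Q h) ⊆ Set.range W.ι := by
    rw [range_map, Scheme.Opens.range_ι]; rfl
  let l := IsOpenImmersion.lift W.ι (P.map Q h) hr
  have hl : l ≫ W.ι = P.map Q h := IsOpenImmersion.lift_fac _ _ _
  haveI : IsImmersion (l ≫ W.ι) := by rw [hl]; infer_instance
  haveI : IsImmersion l := IsImmersion.of_comp l W.ι
  have hs : Function.Surjective l := fun w => by
    have hw : W.ι w ∈ Set.range (P.map Q h) := by rw [range_map]; exact w.2
    obtain ⟨p, hp⟩ := hw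
    exact ⟨p, W.ι.isEmbedding.injective (by rw [← Scheme.Hom.comp_apply, hl, hp])⟩
  haveI : IsClosedImmersion l := .of_isPreimmersion _ (by rw [hs.range_eq]; exact isClosed_univ)
  haveI : Surjective l := ⟨hs⟩
  haveI : IsReduced W.toScheme := isReduced_of_isOpenImmersion W.ι
  haveI := isIso_of_isClosedImmersion_of_surjective l
  rw [← hl]; infer_instance

theorem map_comp {L'' : Set X.scheme} (P : Piece X L) (Q : Piece X L') (S : Piece X L'')
    (h : L ⊆ L') (h' : L' ⊆ L'') : P.map Q h ≫ Q.map S h' = P.map S (h.trans h') :=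
  map_eq _ _ _ _ (by rw [Category.assoc, map_ι, map_ι])

theorem map_self (P : Piece X L) : P.map P subset_rfl = 𝟙 _ :=
  (map_eq _ _ _ _ (Category.id_comp _)).symm

theorem pdim_ι (P : Piece X L) (p : P.obj.scheme) :
    WeilCoh.pdim X.scheme (P.ι p) = WeilCoh.pdim P.obj.scheme p :=
  pdim_of_immersion X P.ι p

theorem dim_le_iff (P : Piece X L) (n : ℕ) :
    WeilCoh.dim P.obj.scheme ≤ n ↔ ∀ x ∈ L, WeilCoh.pdim X.scheme x ≤ n := by
  rw [BMCohLib.dim_le_iff]
  constructor
  · intro h x hx
    obtain ⟨p, rfl⟩ := (P.mem_iff _).1 hx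
    rw [pdim_ι]; exact h p
  · intro h p
    rw [← pdim_ι]
    exact h _ (P.ι_mem p)

theorem dim_eq (P : Piece X L) {n : ℕ} (h : ∀ x ∈ L, WeilCoh.pdim X.scheme x ≤ n)
    {x : X.scheme} (hx : x ∈ L) (hn : n ≤ WeilCoh.pdim X.scheme x) :
    WeilCoh.dim P.obj.scheme = n :=
  le_antisymm ((P.dim_le_iff n).2 h) (hn.trans ((P.dim_le_iff _).1 le_rfl x hx))

theorem isEmpty (P : Piece X L) (h : L = ∅) : IsEmpty P.obj.scheme :=
  ⟨fun p => by have := P.ι_mem p; simp [h] at this⟩

/-- Pieces with the same range are isomorphic over `X`. -/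
noncomputable def iso (P : Piece X L) (Q : Piece X L') (h : L = L') :
    P.obj.scheme ≅ Q.obj.scheme where
  hom := P.map Q h.subset
  inv := Q.map P h.symm.subset
  hom_inv_id := by rw [map_comp, map_self]
  inv_hom_id := by rw [map_comp, map_self]

/-- A morphism of objects between pieces, for an open inclusion of equal dimension. -/
noncomputable def homOpen (P : Piece X L) (Q : Piece X L') (h : L ⊆ L') (ho : IsOpen (Q.ι ⁻¹' L))
    (hd : WeilCoh.dim P.obj.scheme = WeilCoh.dim Q.obj.scheme) : P.obj ⟶ Q.obj :=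
  ⟨P.map Q h, isOpenImmersion_map P Q h ho, hd⟩

@[simp] theorem homOpen_hom (P : Piece X L) (Q : Piece X L') (h : L ⊆ L')
    (ho : IsOpen (Q.ι ⁻¹' L)) (hd : WeilCoh.dim P.obj.scheme = WeilCoh.dim Q.obj.scheme) :
    (P.homOpen Q h ho hd).hom = P.map Q h := rfl

/-- The piece cut out of a piece by an open of `X`. -/
noncomputable def inter (P : Piece X L) (U : X.scheme.Opens) : Piece X (L ∩ U) where
  obj := P.obj.res (P.ι ⁻¹ᵁ U)
  ι := (P.ι ⁻¹ᵁ U).ι ≫ P.ι
  reduced := isReduced_of_isOpenImmersion (P.ι ⁻¹ᵁ U).ι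
  imm := inferInstance
  range_eq := by
    ext x
    constructor
    · rintro ⟨p, rfl⟩
      exact ⟨P.ι_mem _, p.2⟩
    · rintro ⟨hx, hp⟩
      obtain ⟨p, rfl⟩ := (P.mem_iff _).1 hx
      exact ⟨⟨p, hp⟩, rfl⟩

/-- The reduced closed subscheme on a closed set. -/
noncomputable def ofClosed (X : BMCoh.Obj V) (C : Closeds X.scheme) : Piece X C where
  obj := ⟨(Scheme.IdealSheafData.vanishingIdeal C).subscheme, BMCoh.IsConstructible.of_isClosedImmersion
    (Scheme.IdealSheafData.vanishingIdeal C).subschemeι (h := inferInstance) X.mem⟩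
  ι := (Scheme.IdealSheafData.vanishingIdeal C).subschemeι
  reduced := isReduced_vanishingIdeal C
  imm := inferInstance
  range_eq := by rw [Scheme.IdealSheafData.range_subschemeι]; simp

/-- The reduced closure of a point. -/
noncomputable def ofPt (X : BMCoh.Obj V) (x : X.scheme) : Piece X (closure {x}) where
  obj := X.ptSub x
  ι := X.ptSubι x
  reduced := isReduced_vanishingIdeal _
  imm := inferInstance
  range_eq := by rw [Scheme.IdealSheafData.range_subschemeι]; simp

/-- An open of a reduced object. -/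
noncomputable def ofOpen (X : BMCoh.Obj V) [IsReduced X.scheme] (U : X.scheme.Opens) :
    Piece X U where
  obj := X.res U
  ι := U.ι
  reduced := isReduced_of_isOpenImmersion U.ι
  imm := inferInstance
  range_eq := U.range_ι

/-- The lift of a piece inside an open to that open. -/
noncomputable def toOpen (P : Piece X L) (U : X.scheme.Opens) (h : L ⊆ U) :
    P.obj.scheme ⟶ (X.res U).scheme :=
  IsOpenImmersion.lift U.ι P.ι (by rw [Scheme.Opens.range_ι, P.range_eq]; exact h)

@[reassoc (attr := simp)]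
theorem toOpen_ι (P : Piece X L) (U : X.scheme.Opens) (h : L ⊆ U) :
    P.toOpen U h ≫ U.ι = P.ι :=
  IsOpenImmersion.lift_fac _ _ _

theorem range_toOpen (P : Piece X L) (U : X.scheme.Opens) (h : L ⊆ U) :
    Set.range (P.toOpen U h) = U.ι ⁻¹' L := by
  ext q
  constructor
  · rintro ⟨p, rfl⟩
    show U.ι (P.toOpen U h p) ∈ L
    rw [← Scheme.Hom.comp_apply, toOpen_ι]
    exact P.ι_mem p
  · intro hq
    obtain ⟨p, hp⟩ := (P.mem_iff _).1 hq
    exact ⟨p, U.ι.isEmbedding.injective (by rw [← Scheme.Hom.comp_apply, toOpen_ι, hp])⟩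

theorem isClosedImmersion_toOpen (P : Piece X L) (U : X.scheme.Opens) (h : L ⊆ U)
    (hc : IsClosed (U.ι ⁻¹' L)) : IsClosedImmersion (P.toOpen U h) := by
  haveI : IsImmersion (P.toOpen U h ≫ U.ι) := by rw [toOpen_ι]; infer_instance
  haveI : IsImmersion (P.toOpen U h) := IsImmersion.of_comp _ U.ι
  exact .of_isPreimmersion _ (by rw [range_toOpen]; exact hc)

end Piece

theorem isClosed_preimage_inter {X : BMCoh.Obj V} {C : Set X.scheme} (hC : IsClosed C)
    (U : X.scheme.Opens) : IsClosed (U.ι ⁻¹' (C ∩ U)) := by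
  rw [show U.ι ⁻¹' (C ∩ U) = U.ι ⁻¹' C from
    Set.ext fun q => and_iff_left (by exact q.2)]
  exact hC.preimage U.ι.continuous

end Groth.BMCohLib
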