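import Groth.Agent.BMCoh.Gysin
import Mathlib.AlgebraicGeometry.Morphisms.Finite

/-!
# Points of a given codimension and their groups

Pieces `closure {x} ∩ V` for opens `V`, classes in the group of a point, push-forward and residue
classes, and the values of push-forward and residue data on them.
-/

set_option autoImplicit false
universe u

open Topology TopologicalSpace AlgebraicGeometry CategoryTheory Limits Opposite

namespace Groth.BMCohLib

variable {V : ObjectProperty Scheme.{u}} [BMCoh.IsConstructible V]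

section Geometry

variable (X : BMCoh.Obj V)

theorem exists_finite_generators {C : Set X.scheme} (hC : IsClosed C) :
    ∃ G : Finset X.scheme, C = ⋃ g ∈ G, closure {g} := by
  classical
  obtain ⟨S, hSf, hSc, hS, hCS⟩ := NoetherianSpace.exists_finite_set_isClosed_irreducible hC
  refine ⟨hSf.toFinset.attach.image fun t => (hS t.1 (hSf.mem_toFinset.1 t.2)).genericPoint, ?_⟩
  ext z
  simp only [Set.mem_iUnion, Finset.mem_image, Finset.mem_attach, true_and, exists_prop]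
  constructor
  · intro hz
    rw [hCS] at hz
    obtain ⟨t, ht, hz⟩ := hz
    refine ⟨_, ⟨⟨t, hSf.mem_toFinset.2 ht⟩, rfl⟩, ?_⟩
    rw [(hS t ht).isGenericPoint_genericPoint_closure, (hSc t ht).closure_eq]
    exact hz
  · rintro ⟨g, ⟨⟨t, ht⟩, rfl⟩, hz⟩
    have ht' := hSf.mem_toFinset.1 ht
    rw [(hS t ht').isGenericPoint_genericPoint_closure, (hSc t ht').closure_eq] at hz
    exact hCS ▸ ⟨t, ht', hz⟩

theorem mem_generators {C : Set X.scheme} {G : Finset X.scheme} (hG : C = ⋃ g ∈ G, closure {g})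
    {c : ℕ} (hc : ∀ z ∈ C, c ≤ WeilCoh.codim X.scheme z) {x : X.scheme} (hx : x ∈ C)
    (hxc : WeilCoh.codim X.scheme x = c) : x ∈ G := by
  rw [hG] at hx
  simp only [Set.mem_iUnion] at hx
  obtain ⟨g, hg, hxg⟩ := hx
  have hgC : g ∈ C := hG ▸ Set.mem_biUnion hg (subset_closure rfl)
  rwa [eq_of_specializes_of_codim_le X (specializes_iff_mem_closure.2 hxg) (hxc ▸ hc g hgC)]

theorem finite_codim_eq {C : Set X.scheme} (hC : IsClosed C) {c : ℕ}
    (hc : ∀ z ∈ C, c ≤ WeilCoh.codim X.scheme z) :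
    {x ∈ C | WeilCoh.codim X.scheme x = c}.Finite := by
  obtain ⟨G, hG⟩ := exists_finite_generators X hC
  exact G.finite_toSet.subset fun x ⟨h, h'⟩ => mem_generators X hG hc h h'

/-- A point of minimal codimension of a closed set has an open neighbourhood containing the
complement in which the closed set is the closure of the point. -/
theorem exists_attach {C : Set X.scheme} (hC : IsClosed C) {c : ℕ}
    (hc : ∀ z ∈ C, c ≤ WeilCoh.codim X.scheme z) {x : X.scheme} (hx : x ∈ C)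
    (hxc : WeilCoh.codim X.scheme x = c) :
    ∃ W : X.scheme.Opens, x ∈ W ∧ Cᶜ ⊆ (W : Set X.scheme) ∧
      C ∩ W = closure {x} ∩ W := by
  classical
  obtain ⟨G, hG⟩ := exists_finite_generators X hC
  refine ⟨⟨(⋃ g ∈ G.erase x, closure {g})ᶜ,
    (isClosed_biUnion_finset fun g _ => isClosed_closure).isOpen_compl⟩, ?_, ?_, ?_⟩
  · intro hxE
    simp only [Set.mem_iUnion] at hxE
    obtain ⟨g, hg, hxg⟩ := hxE
    rw [Finset.mem_erase] at hg
    exact hg.1 (eq_of_specializes_of_codim_le X (specializes_iff_mem_closure.2 hxg)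
      (hxc ▸ hc g (hG ▸ Set.mem_biUnion hg.2 (subset_closure rfl)))).symm
  · refine Set.compl_subset_compl.2 (hG ▸ ?_)
    exact Set.biUnion_subset_biUnion_left fun g hg => Finset.mem_of_mem_erase hg
  · ext z
    constructor
    · rintro ⟨hz, hzW⟩
      refine ⟨?_, hzW⟩
      by_contra hzx
      rw [hG] at hz
      simp only [Set.mem_iUnion] at hz
      obtain ⟨g, hg, hzg⟩ := hz
      exact hzW (Set.mem_biUnion (Finset.mem_erase.2 ⟨fun h => hzx (h ▸ hzg), hg⟩) hzg)
    · rintro ⟨hz, hzW⟩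
      exact ⟨hC.closure_subset_iff.2 (Set.singleton_subset_iff.2 hx) hz, hzW⟩

theorem le_codim_of_compl {j : ℕ} {U : X.scheme.Opens} (hU : BMCoh.ContainsFj X j U) :
    ∀ z ∈ (U : Set X.scheme)ᶜ, j + 1 ≤ WeilCoh.codim X.scheme z := by
  intro z hz
  by_contra h
  exact hz (hU z (by omega))

/-- The complement of a closed set whose points have codimension `> j` contains `F_j`. -/
theorem containsFj_compl {C : Set X.scheme} (hC : IsClosed C) {j : ℕ}
    (h : ∀ z ∈ C, j < WeilCoh.codim X.scheme z) :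
    BMCoh.ContainsFj X j ⟨Cᶜ, hC.isOpen_compl⟩ :=
  fun y hy hyC => absurd (h y hyC) (by omega)

theorem containsFj_inf {j : ℕ} {U U' : X.scheme.Opens} (h : BMCoh.ContainsFj X j U)
    (h' : BMCoh.ContainsFj X j U') : BMCoh.ContainsFj X j (U ⊓ U') :=
  fun y hy => ⟨h y hy, h' y hy⟩

/-- The complement of the closure of a point, inside an open. -/
def deletePt (U : X.scheme.Opens) (x : X.scheme) : X.scheme.Opens :=
  U ⊓ ⟨(closure {x})ᶜ, isClosed_closure.isOpen_compl⟩

theorem containsFj_deletePt {j : ℕ} {U : X.scheme.Opens} (hU : BMCoh.ContainsFj X j U)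
    {x : X.scheme} (hx : j < WeilCoh.codim X.scheme x) :
    BMCoh.ContainsFj X j (deletePt X U x) :=
  fun y hy => ⟨hU y hy, fun hyx => by
    have := codim_mono X (specializes_iff_mem_closure.2 hyx)
    omega⟩

theorem diff_deletePt (U : X.scheme.Opens) (x : X.scheme) :
    closure {x} ∩ (U : Set X.scheme) = (U : Set X.scheme) \ deletePt X U x := by
  ext z
  simp only [deletePt, Opens.coe_inf, Set.mem_inter_iff, Set.mem_sdiff, Opens.coe_mk, Set.mem_compl_iff]
  tauto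

end Geometry

section Pieces

variable (X : BMCoh.Obj V)

/-- The piece `closure {x} ∩ W`. -/
noncomputable def ptp (x : X.scheme) (W : X.scheme.Opens) : Piece X (closure {x} ∩ W) :=
  (Piece.ofPt X x).inter W

theorem dim_ptp (x : X.scheme) {W : X.scheme.Opens} (hx : x ∈ W) :
    WeilCoh.dim (ptp X x W).obj.scheme = WeilCoh.pdim X.scheme x :=
  (ptp X x W).dim_eq (fun _ hy => pdim_mono X (specializes_iff_mem_closure.2 hy.1))
    ⟨subset_closure rfl, hx⟩ le_rfl

theorem nonempty_ptp (x : X.scheme) {W : X.scheme.Opens} (hx : x ∈ W) :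
    ((X.ptSubι x ⁻¹ᵁ W : (X.ptSub x).scheme.Opens) : Set (X.ptSub x).scheme).Nonempty :=
  ⟨genPt X x, by show X.ptSubι x (genPt X x) ∈ W; rwa [ptSubι_genPt]⟩

/-- The member of the index family of `x` given by an open of `X` containing `x`. -/
noncomputable def vidx (x : X.scheme) (W : X.scheme.Opens) (hx : x ∈ W) : BMCoh.ptIdx X x :=
  pidx x (X.ptSubι x ⁻¹ᵁ W) (nonempty_ptp X x hx)

/-- Restriction of pieces of the closure of a point. -/
noncomputable def pmap (x : X.scheme) {W W' : X.scheme.Opens}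
    (h : closure {x} ∩ (W' : Set X.scheme) ⊆ closure {x} ∩ W) (hx : x ∈ W') :
    (ptp X x W').obj ⟶ (ptp X x W).obj :=
  (X.ptSub x).resLE (U := X.ptSubι x ⁻¹ᵁ W') (U' := X.ptSubι x ⁻¹ᵁ W)
    (fun p hp => (h ⟨(Piece.ofPt X x).ι_mem p, hp⟩).2)
    ((dim_ptp X x hx).trans (dim_ptp X x (h ⟨subset_closure rfl, hx⟩).2).symm)

theorem pmap_ι (x : X.scheme) {W W' : X.scheme.Opens}
    (h : closure {x} ∩ (W' : Set X.scheme) ⊆ closure {x} ∩ W) (hx : x ∈ W') :
    (pmap X x h hx).hom ≫ (ptp X x W).ι = (ptp X x W').ι := by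
  have hle : X.ptSubι x ⁻¹ᵁ W' ≤ X.ptSubι x ⁻¹ᵁ W :=
    fun p hp => (h ⟨(Piece.ofPt X x).ι_mem p, hp⟩).2
  show (X.ptSub x).scheme.homOfLE hle ≫ (X.ptSubι x ⁻¹ᵁ W).ι ≫ X.ptSubι x =
    (X.ptSubι x ⁻¹ᵁ W').ι ≫ X.ptSubι x
  rw [Scheme.homOfLE_ι_assoc]

theorem isClosedImmersion_ptp_toOpen (x : X.scheme) {W U : X.scheme.Opens}
    (h : closure {x} ∩ (W : Set X.scheme) ⊆ U) (hc : IsClosed (U.ι ⁻¹' (closure {x} ∩ W))) :
    IsClosedImmersion ((ptp X x W).toOpen U h) :=
  (ptp X x W).isClosedImmersion_toOpen U h hc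

instance isClosedImmersion_ptp_self (x : X.scheme) (W : X.scheme.Opens) :
    IsClosedImmersion ((ptp X x W).toOpen W Set.inter_subset_right) :=
  isClosedImmersion_ptp_toOpen X x _ (isClosed_preimage_inter isClosed_closure W)

theorem relCodim_ptp {x : X.scheme} {W : X.scheme.Opens} {c j : ℕ}
    (hxc : WeilCoh.codim X.scheme x = c) (hx : x ∈ W) (hW : BMCoh.ContainsFj X j W) :
    BMCoh.relCodim (ptp X x W).obj.scheme (X.res W).scheme = c := by
  have := codim_add_pdim X x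
  show ((WeilCoh.dim (W : Scheme.{u}) : ℤ) - _) = _
  rw [dim_ptp X x hx, dim_res_of_containsFj X hW]
  omega

end Pieces

variable {R : Type u} [CommRing R] {A : BMCoh.Coefs R} (T : BMCoh.PreTheory V R A)
variable (X : BMCoh.Obj V) (M : A.Cat)

/-- The class in the group of `x` of a class on `closure {x} ∩ W`. -/
noncomputable def vcls (x : X.scheme) (W : X.scheme.Opens) (hx : x ∈ W) (i n : ℤ) :
    T.gp (ptp X x W).obj M i n →ₗ[R] T.ptGp X x M i n :=
  pcls T X M i n x (vidx X x W hx)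

theorem vcls_pmap (x : X.scheme) {W W' : X.scheme.Opens}
    (h : closure {x} ∩ (W' : Set X.scheme) ⊆ closure {x} ∩ W) (hx' : x ∈ W') (hx : x ∈ W) (i n : ℤ)
    (a : T.gp (ptp X x W).obj M i n) :
    vcls T X M x W' hx' i n (T.pull (pmap X x h hx') M i n a) = vcls T X M x W hx i n a :=
  pcls_res x (W := vidx X x W hx) (W' := vidx X x W' hx')
    (fun p hp => (h ⟨(Piece.ofPt X x).ι_mem p, hp⟩).2) a

theorem exists_open_of_ptIdx (x : X.scheme) {c : ℕ} (hxc : WeilCoh.codim X.scheme x = c)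
    (W : BMCoh.ptIdx X x) :
    ∃ U : X.scheme.Opens, BMCoh.ContainsFj X c U ∧ X.ptSubι x ⁻¹ᵁ U = W.1 := by
  have hcl : IsClosed (X.ptSubι x '' (W.1 : Set (X.ptSub x).scheme)ᶜ) :=
    (X.ptSubι x).isClosedEmbedding.isClosedMap _ W.1.isOpen.isClosed_compl
  refine ⟨⟨(X.ptSubι x '' (W.1 : Set (X.ptSub x).scheme)ᶜ)ᶜ, hcl.isOpen_compl⟩, ?_, ?_⟩
  · refine containsFj_compl X hcl fun z hz => ?_
    obtain ⟨p, hp, rfl⟩ := hz
    by_contra hle
    have hspec : x ⤳ X.ptSubι x p := specializes_iff_mem_closure.2 ((Piece.ofPt X x).ι_mem p)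
    have := eq_of_specializes_of_codim_le X hspec (by omega)
    exact hp ((X.ptSubι x).isEmbedding.injective (this.trans (ptSubι_genPt X x).symm) ▸
      genPt_mem X x W.2.1)
  · ext p
    show X.ptSubι x p ∉ _ ↔ p ∈ W.1
    rw [(X.ptSubι x).isEmbedding.injective.mem_set_image]
    simp

theorem vcls_exists (x : X.scheme) {c : ℕ} (hxc : WeilCoh.codim X.scheme x = c) (i n : ℤ)
    (α : T.ptGp X x M i n) :
    ∃ (W : X.scheme.Opens) (hW : BMCoh.ContainsFj X c W) (a : T.gp (ptp X x W).obj M i n),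
      vcls T X M x W (hW x hxc.le) i n a = α := by
  obtain ⟨⟨W, hW⟩, b, hb⟩ := pcls_exists x α
  obtain ⟨U, hU, heq⟩ := exists_open_of_ptIdx X x hxc ⟨W, hW⟩
  subst heq
  exact ⟨U, hU, b, hb⟩

theorem vcls_eq_zero (x : X.scheme) {c : ℕ} (hxc : WeilCoh.codim X.scheme x = c)
    {W : X.scheme.Opens} (hx : x ∈ W) {i n : ℤ} (a : T.gp (ptp X x W).obj M i n)
    (h : vcls T X M x W hx i n a = 0) :
    ∃ (W'' : X.scheme.Opens) (hW'' : BMCoh.ContainsFj X c W''),
      ∀ (W' : X.scheme.Opens) (h' : closure {x} ∩ (W' : Set X.scheme) ⊆ closure {x} ∩ W)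
        (hx' : x ∈ W'), closure {x} ∩ (W' : Set X.scheme) ⊆ closure {x} ∩ W'' →
        T.pull (pmap X x h' hx') M i n a = 0 := by
  obtain ⟨W1, hle, h0⟩ := (pcls_eq_zero_iff x (vidx X x W hx) a).1 h
  obtain ⟨U, hU, heq⟩ := exists_open_of_ptIdx X x hxc W1
  refine ⟨U, hU, fun W' h' hx' h'' => ?_⟩
  have hle' : X.ptSubι x ⁻¹ᵁ W' ≤ W1.1 :=
    fun p hp => heq ▸ (h'' ⟨(Piece.ofPt X x).ι_mem p, hp⟩).2
  have he : (X.ptSub x).resLE hle' ((vidx X x W' hx').2.2.trans W1.2.2.symm) ≫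
      (X.ptSub x).resLE hle (W1.2.2.trans (vidx X x W hx).2.2.symm) = pmap X x h' hx' :=
    BMCoh.Hom.ext (Scheme.homOfLE_homOfLE (X.ptSub x).scheme hle' hle)
  rw [← he]
  refine (pull_comp_apply T _ _ M i n a).symm.trans ?_
  exact (congrArg _ h0).trans (map_zero _)

/-- Push-forward from `closure {x} ∩ W` into `W`. -/
noncomputable def pushPt (x : X.scheme) {c j : ℕ} (hxc : WeilCoh.codim X.scheme x = c)
    (W : X.scheme.Opens) (hW : BMCoh.ContainsFj X j W) (hx : x ∈ W) (i n i' n' : ℤ)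
    (hi : i' = i + 2 * (c : ℤ)) (hn : n' = n + (c : ℤ)) :
    T.gp (ptp X x W).obj M i n →ₗ[R] T.gp (X.res W) M i' n' :=
  (T.push ((ptp X x W).toOpen W Set.inter_subset_right) M i n i' n'
    (by rw [relCodim_ptp X hxc hx hW]; exact hi) (by rw [relCodim_ptp X hxc hx hW]; exact hn)).hom

theorem rmap_pushPt (x : X.scheme) {c j j' : ℕ} (hxc : WeilCoh.codim X.scheme x = c)
    {W W' : X.scheme.Opens} (h : W' ≤ W) (hW : BMCoh.ContainsFj X j W)
    (hW' : BMCoh.ContainsFj X j' W') (hx : x ∈ W) (hx' : x ∈ W') (i n i' n' : ℤ)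
    (hi : i' = i + 2 * (c : ℤ)) (hn : n' = n + (c : ℤ)) (a : T.gp (ptp X x W).obj M i n) :
    rmap T X M i' n' h hW' hW (pushPt T X M x hxc W hW hx i n i' n' hi hn a) =
      pushPt T X M x hxc W' hW' hx' i n i' n' hi hn
        (T.pull (pmap X x (fun _ hp => ⟨hp.1, h hp.2⟩) hx') M i n a) := by
  have hL : closure {x} ∩ (W' : Set X.scheme) = closure {x} ∩ (W : Set X.scheme) ∩ W' := by
    rw [Set.inter_assoc, Set.inter_eq_self_of_subset_right (show (W' : Set X.scheme) ⊆ W from h)]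
  exact pull_push_open T h _ (ptp X x W) Set.inter_subset_right (ptp X x W') hL
    (pmap X x (fun _ hp => ⟨hp.1, h hp.2⟩) hx') (pmap_ι X x _ hx') M i n i' n' _ _ _ _ a

theorem pushData_vcls {j : ℕ} (P : T.PushData X j) (x : X.cdPt j) {j' : ℕ} (W : X.scheme.Opens)
    (hW : BMCoh.ContainsFj X j W) (hW' : BMCoh.ContainsFj X j' W) (hx : x.1 ∈ W) (i n i' n' : ℤ)
    (hi : i' = i + 2 * (j : ℤ)) (hn : n' = n + (j : ℤ)) (a : T.gp (ptp X x.1 W).obj M i n) :
    P.cpt x M i n i' n' hi hn (vcls T X M x.1 W hx i n a) =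
      fcls T X M i' n' W hW (pushPt T X M x.1 x.2 W hW' hx i n i' n' hi hn a) := by
  let f : ((X.ptSub x.1).res (vidx X x.1 W hx).1).scheme ⟶ (X.res (fidx W hW).1).scheme :=
    (ptp X x.1 W).toOpen W Set.inter_subset_right
  haveI : IsProper f := inferInstanceAs (IsProper ((ptp X x.1 W).toOpen W Set.inter_subset_right))
  exact congr(($(P.cpt_spec x M i n i' n' hi hn (fidx W hW) (vidx X x.1 W hx) f
    (Piece.toOpen_ι _ _ _)
    (by show i' = i + 2 * BMCoh.relCodim (ptp X x.1 W).obj.scheme (X.res W).scheme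
        rw [relCodim_ptp X x.2 hx hW]; exact hi)
    (by show n' = n + BMCoh.relCodim (ptp X x.1 W).obj.scheme (X.res W).scheme
        rw [relCodim_ptp X x.2 hx hW]; exact hn))) a)

theorem fcls_pushPt_eq_zero (x : X.scheme) {c : ℕ} (hxc : WeilCoh.codim X.scheme x = c)
    (W : X.scheme.Opens) (hW : BMCoh.ContainsFj X c W) (hx : x ∈ W) (i n i' n' : ℤ)
    (hi : i' = i + 2 * (c : ℤ)) (hn : n' = n + (c : ℤ)) (a : T.gp (ptp X x W).obj M i n)
    (h : vcls T X M x W hx i n a = 0) :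
    fcls T X M i' n' W hW (pushPt T X M x hxc W hW hx i n i' n' hi hn a) = 0 := by
  obtain ⟨W'', hW'', h0⟩ := vcls_eq_zero T X M x hxc hx a h
  refine (fcls_eq_zero_iff hW _).2 ⟨W ⊓ W'', inf_le_left, containsFj_inf X hW hW'', ?_⟩
  rw [rmap_pushPt T X M x hxc inf_le_left hW (containsFj_inf X hW hW'') hx ⟨hx, hW'' x hxc.le⟩,
    h0 (W ⊓ W'') (fun _ hp => ⟨hp.1, hp.2.1⟩) ⟨hx, hW'' x hxc.le⟩
      (fun _ hp => ⟨hp.1, hp.2.2⟩), map_zero]

/-- Residue data on a decomposition of an open with a piece on the closed part. -/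
theorem resData_piece {j : ℕ} (Q : T.ResData X j) (x : X.cdPt (j + 1)) {U U1 : X.scheme.Opens}
    (hle : U1 ≤ U) (hU1 : BMCoh.ContainsFj X j U1) (hU : BMCoh.ContainsFj X j U) {L : Set X.scheme}
    (P : Piece X L) (hL : L = (U : Set X.scheme) \ U1) (hx : x.1 ∈ U)
    (g : (ptp X x.1 U).obj ⟶ P.obj) (hg : g.hom ≫ P.ι = (ptp X x.1 U).ι) (i n i' n' : ℤ)
    (hi : i' = i + 1 - 2 * ((j : ℤ) + 1)) (hn : n' = n - ((j : ℤ) + 1))
    (hiD : i' = i + 1 - 2 * BMCoh.relCodim P.obj.scheme (X.res U).scheme)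
    (hnD : n' = n - BMCoh.relCodim P.obj.scheme (X.res U).scheme)
    (a : T.gp (X.res U1) M i n) :
    Q.cpt x M i n i' n' hi hn (fcls T X M i n U1 hU1 a) =
      vcls T X M x.1 U hx i' n' (T.pull g M i' n'
        (T.res (decompOf hle ((dim_res_of_containsFj X hU1).trans (dim_res_of_containsFj X hU).symm)
          P hL) M i n i' n' hiD hnD a)) := by
  have h := congr(($(Q.cpt_spec x M i n i' n' hi hn (X.resι U (dim_res_of_containsFj X hU))
    (decompOf hle ((dim_res_of_containsFj X hU1).trans (dim_res_of_containsFj X hU).symm) P hL)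
    (vidx X x.1 U hx) g
    (by show g.hom ≫ P.toOpen U (subset_of_eq_diff hL) ≫ U.ι = _
        rw [Piece.toOpen_ι, hg]; rfl)
    (fidx U1 hU1) (𝟙 _)
    (by show 𝟙 _ ≫ X.scheme.homOfLE hle ≫ U.ι = U1.ι
        rw [Category.id_comp, Scheme.homOfLE_ι])
    hiD hnD)) a)
  refine Eq.trans ?_ h
  exact congrArg (fun b => Q.cpt x M i n i' n' hi hn (fcls T X M i n U1 hU1 b))
    (pull_id_apply T M i n a).symm

theorem resData_eq_zero_of_mem {j : ℕ} (Q : T.ResData X j) (x : X.cdPt (j + 1)) {U : X.scheme.Opens}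
    (hU : BMCoh.ContainsFj X j U) (hx : x.1 ∈ U) (i n i' n' : ℤ)
    (hi : i' = i + 1 - 2 * ((j : ℤ) + 1)) (hn : n' = n - ((j : ℤ) + 1))
    (a : T.gp (X.res U) M i n) :
    Q.cpt x M i n i' n' hi hn (fcls T X M i n U hU a) = 0 := by
  have hU1 : BMCoh.ContainsFj X j (deletePt X U x.1) :=
    containsFj_deletePt X hU (by rw [x.2]; omega)
  rw [← fcls_rmap (inf_le_left : deletePt X U x.1 ≤ U) hU1 hU]
  have hc : BMCoh.relCodim (ptp X x.1 U).obj.scheme (X.res U).scheme = (j : ℤ) + 1 := by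
    rw [relCodim_ptp X x.2 hx hU]; push_cast; rfl
  rw [resData_piece T X M Q x inf_le_left hU1 hU (ptp X x.1 U) (diff_deletePt X U x.1) hx (𝟙 _)
    (Category.id_comp _) i n i' n' hi hn (by rw [hc]; exact hi) (by rw [hc]; exact hn)]
  erw [res_pull_eq_zero]
  exact (congrArg _ (map_zero _)).trans (map_zero _)

end Groth.BMCohLib
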