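import Groth.Agent.BMCoh.Point
import Groth.Prelude.Def_BMCoh4

/-!
# Push-forward between groups of points along a proper morphism

For `φ` proper with `φ y = x` and closures of one dimension, small opens of `closure {y}` are inverse
images of opens of `closure {x}`, so a push-forward datum is determined by its condition.
-/

set_option autoImplicit false
universe u

open Topology TopologicalSpace AlgebraicGeometry CategoryTheory Limits Opposite

namespace Groth.BMCohLib

variable {V : ObjectProperty Scheme.{u}} [BMCoh.IsConstructible V]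

section Geometry

variable {Y X : BMCoh.Obj V} (φ : Y.scheme ⟶ X.scheme)

theorem map_closure_subset (y : Y.scheme) : φ '' closure {y} ⊆ closure {φ y} := by
  refine (image_closure_subset_closure_image φ.continuous).trans ?_
  rw [Set.image_singleton]

/-- A proper morphism does not raise the dimension of the closure of a point. -/
theorem pdim_map_le [IsProper φ] (z : Y.scheme) :
    WeilCoh.pdim X.scheme (φ z) ≤ WeilCoh.pdim Y.scheme z := by
  induction h : WeilCoh.pdim Y.scheme z using Nat.strong_induction_on generalizing z with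
  | _ N ih =>
    subst h
    refine natDim_le_of_chains isClosed_closure fun l hl => ?_
    rcases Nat.eq_zero_or_pos l.length with h0 | h0
    · omega
    let C := l ⟨l.length - 1, by omega⟩
    have hlt : C < l.last := l.strictMono (by simp [Fin.lt_def]; omega)
    let x1 := C.isIrreducible.genericPoint
    have hx1 : closure {x1} = (C : Set X.scheme) := by
      rw [C.isIrreducible.isGenericPoint_genericPoint_closure, C.isClosed.closure_eq]
    have hx1C : x1 ∈ (C : Set X.scheme) := hx1 ▸ subset_closure rfl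
    have hmem : x1 ∈ φ '' closure {z} := by
      have hcl : IsClosed (φ '' closure {z}) := φ.isClosedMap _ isClosed_closure
      have hz : φ z ∈ φ '' closure {z} := ⟨z, subset_closure rfl, rfl⟩
      exact hcl.closure_subset_iff.2 (Set.singleton_subset_iff.2 hz)
        (hl (SetLike.coe_subset_coe.2 hlt.le hx1C))
    obtain ⟨z1, hz1, hzx⟩ := hmem
    have hne : z1 ≠ z := fun he => by
      subst he
      have h1 : (l.last : Set X.scheme) ⊆ C := hx1 ▸ hzx ▸ hl
      exact hlt.ne (le_antisymm hlt.le h1)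
    have hdec := pdim_lt Y (specializes_iff_mem_closure.2 hz1) hne
    have hih := ih _ hdec z1 rfl
    rw [hzx] at hih
    have := le_pdim_of_chain (fin_dim X) (l.take ⟨l.length - 1, by omega⟩) x1 (by
      rw [hx1]
      show ((l.take ⟨l.length - 1, by omega⟩).last : Set X.scheme) ⊆ _
      simp [C])
    simp only [RelSeries.take_length] at this
    change l.length - 1 ≤ WeilCoh.pdim X.scheme x1 at this
    omega

/-- Below any nonempty open of `closure {y}` there is the inverse image of an open containing `x`. -/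
theorem exists_open_below [IsProper φ] {y : Y.scheme}
    (hd : WeilCoh.pdim Y.scheme y ≤ WeilCoh.pdim X.scheme (φ y))
    (W : BMCoh.ptIdx Y y) :
    ∃ U : X.scheme.Opens, φ y ∈ U ∧ Y.ptSubι y ⁻¹ᵁ (φ ⁻¹ᵁ U) ≤ W.1 := by
  have hcl : IsClosed (φ '' (Y.ptSubι y '' (W.1 : Set (Y.ptSub y).scheme)ᶜ)) :=
    φ.isClosedMap _ ((Y.ptSubι y).isClosedEmbedding.isClosedMap _ W.1.isOpen.isClosed_compl)
  refine ⟨⟨_, hcl.isOpen_compl⟩, ?_, ?_⟩
  · rintro ⟨_, ⟨p, hp, rfl⟩, hpx⟩
    have hspec : y ⤳ Y.ptSubι y p := specializes_iff_mem_closure.2 ((Piece.ofPt Y y).ι_mem p)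
    have hne : Y.ptSubι y p ≠ y := fun he =>
      hp ((Y.ptSubι y).isEmbedding.injective (he.trans (ptSubι_genPt Y y).symm) ▸
        genPt_mem Y y W.2.1)
    have h1 := pdim_lt Y hspec hne
    have h2 := pdim_map_le φ (Y.ptSubι y p)
    rw [hpx] at h2
    omega
  · intro p hp
    by_contra h
    exact hp ⟨_, ⟨p, h, rfl⟩, rfl⟩

/-- The restriction of `φ` to pieces of closures of points. -/
theorem exists_ptp_map [IsProper φ] (y : Y.scheme) (U : X.scheme.Opens) :
    ∃ (f : (ptp Y y (φ ⁻¹ᵁ U)).obj.scheme ⟶ (ptp X (φ y) U).obj.scheme), IsProper f ∧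
      f ≫ (ptp X (φ y) U).ι = (ptp Y y (φ ⁻¹ᵁ U)).ι ≫ φ := by
  obtain ⟨f, hf⟩ := (ptp X (φ y) U).exists_lift ((ptp Y y (φ ⁻¹ᵁ U)).ι ≫ φ) (by
    rintro _ ⟨p, rfl⟩
    have h := (ptp Y y (φ ⁻¹ᵁ U)).ι_mem p
    exact ⟨map_closure_subset φ y ⟨_, h.1, rfl⟩, h.2⟩)
  refine ⟨f, ?_, hf⟩
  let i := (ptp X (φ y) U).toOpen U Set.inter_subset_right
  have hcomp : f ≫ i =
      (ptp Y y (φ ⁻¹ᵁ U)).toOpen (φ ⁻¹ᵁ U) Set.inter_subset_right ≫ (φ ∣_ U) :=
    (cancel_mono U.ι).1 (((Category.assoc _ _ _).trans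
      ((congrArg (f ≫ ·) (Piece.toOpen_ι _ U _)).trans hf)).trans
      ((congrArg (· ≫ φ) (Piece.toOpen_ι _ (φ ⁻¹ᵁ U) _).symm).trans
        ((Category.assoc _ _ _).trans
          ((congrArg _ (morphismRestrict_ι φ U).symm).trans (Category.assoc _ _ _).symm))))
  haveI : IsProper (f ≫ i) := by rw [hcomp]; infer_instance
  exact IsProper.of_comp f i

end Geometry

variable {R : Type u} [CommRing R] {A : BMCoh.Coefs R} {T : BMCoh.PreTheory V R A}
variable {Y X : BMCoh.Obj V} {φ : Y.scheme ⟶ X.scheme} [IsProper φ] {y : Y.scheme}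

/-- Any class at `y` has a representative on which every datum towards `φ y` is computed. -/
theorem exists_ptPush_rep (hd : BMCoh.relCodim (Y.ptSub y).scheme (X.ptSub (φ y)).scheme = 0)
    (M : A.Cat) (i n : ℤ) (γ : T.ptGp Y y M i n) :
    ∃ (U : X.scheme.Opens) (hU : φ y ∈ U)
      (f : (ptp Y y (φ ⁻¹ᵁ U)).obj.scheme ⟶ (ptp X (φ y) U).obj.scheme) (_ : IsProper f)
      (b : T.gp (ptp Y y (φ ⁻¹ᵁ U)).obj M i n)
      (hi : i = i + 2 * BMCoh.relCodim (ptp Y y (φ ⁻¹ᵁ U)).obj.scheme (ptp X (φ y) U).obj.scheme)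
      (hn : n = n + BMCoh.relCodim (ptp Y y (φ ⁻¹ᵁ U)).obj.scheme (ptp X (φ y) U).obj.scheme),
      vcls T Y M y (φ ⁻¹ᵁ U) hU i n b = γ ∧
      ∀ L : T.PtPush φ y (φ y),
        L.cpt M i n γ = vcls T X M (φ y) U hU i n (T.push f M i n i n hi hn b) := by
  obtain ⟨W, b0, rfl⟩ := pcls_exists y γ
  have hd' : WeilCoh.pdim Y.scheme y ≤ WeilCoh.pdim X.scheme (φ y) := by
    have h : ((WeilCoh.dim (X.ptSub (φ y)).scheme : ℤ) - WeilCoh.dim (Y.ptSub y).scheme) = 0 := hd
    rw [dim_ptSub, dim_ptSub] at h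
    omega
  obtain ⟨U, hU, hle⟩ := exists_open_below φ hd' W
  obtain ⟨f, hf, hfι⟩ := exists_ptp_map φ y U
  have hc : BMCoh.relCodim (ptp Y y (φ ⁻¹ᵁ U)).obj.scheme (ptp X (φ y) U).obj.scheme = 0 := by
    show (WeilCoh.dim (ptp X (φ y) U).obj.scheme : ℤ) - WeilCoh.dim (ptp Y y (φ ⁻¹ᵁ U)).obj.scheme = 0
    rw [dim_ptp X (φ y) hU, dim_ptp Y y (show y ∈ φ ⁻¹ᵁ U from hU), ← dim_ptSub, ← dim_ptSub]
    exact hd
  let W0 := vidx Y y (φ ⁻¹ᵁ U) hU
  let b := T.pull ((Y.ptSub y).resLE hle (W0.2.2.trans W.2.2.symm)) M i n b0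
  have hb : vcls T Y M y (φ ⁻¹ᵁ U) hU i n b = pcls T Y M i n y W b0 :=
    pcls_res (W' := W0) y hle b0
  have hiP : i = i + 2 * BMCoh.relCodim (ptp Y y (φ ⁻¹ᵁ U)).obj.scheme (ptp X (φ y) U).obj.scheme := by
    rw [hc]; ring
  have hnP : n = n + BMCoh.relCodim (ptp Y y (φ ⁻¹ᵁ U)).obj.scheme (ptp X (φ y) U).obj.scheme := by
    rw [hc]; ring
  refine ⟨U, hU, f, hf, b, hiP, hnP, hb, fun L => ?_⟩
  rw [← hb]
  haveI : @IsProper ((Y.ptSub y).res W0.1).scheme ((X.ptSub (φ y)).res (vidx X (φ y) U hU).1).scheme f := hf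
  exact congr(($(L.cpt_spec M i n W0 (vidx X (φ y) U hU) f (by
    show f ≫ (ptp X (φ y) U).ι = _
    rw [hfι]
    exact Category.assoc _ _ _) hiP hnP)) b)

end Groth.BMCohLib
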