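import Groth.Agent.BMCoh.Differential
import Mathlib.AlgebraicGeometry.Morphisms.Finite

/-!
# The class pushed forward from the generic point, as a push-forward from a big open
-/

set_option autoImplicit false
universe u

open Topology TopologicalSpace AlgebraicGeometry CategoryTheory Limits Opposite

namespace Groth.BMCohLib

variable {V : ObjectProperty Scheme.{u}} [BMCoh.IsConstructible V]
variable {R : Type u} [CommRing R] {A : BMCoh.Coefs R} {T : BMCoh.PreTheory V R A}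
variable {Y X : BMCoh.Obj V} {φ : Y.scheme ⟶ X.scheme} [IsProper φ] [LocallyQuasiFinite φ]
variable {q : ℕ}

/-- A class at a generic point lives on the inverse image of an open containing `F_q`. -/
theorem exists_big_open (hd : WeilCoh.dim Y.scheme + q = WeilCoh.dim X.scheme) {η : Y.scheme}
    (hη : WeilCoh.codim Y.scheme η = 0) (M : A.Cat) (i n : ℤ) (a : T.ptGp Y η M i n) :
    ∃ (U : X.scheme.Opens) (hU : BMCoh.ContainsFj X q U) (hηU : φ η ∈ U)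
      (b : T.gp (ptp Y η (φ ⁻¹ᵁ U)).obj M i n),
      (U : Set X.scheme)ᶜ ⊆ Set.range φ ∧ vcls T Y M η (φ ⁻¹ᵁ U) hηU i n b = a := by
  obtain ⟨W, b0, rfl⟩ := pcls_exists η a
  have hcl : IsClosed (φ '' (Y.ptSubι η '' (W.1 : Set (Y.ptSub η).scheme)ᶜ)) :=
    φ.isClosedMap _ ((Y.ptSubι η).isClosedEmbedding.isClosedMap _ W.1.isOpen.isClosed_compl)
  let U : X.scheme.Opens := ⟨_, hcl.isOpen_compl⟩
  have hU : BMCoh.ContainsFj X q U := by
    refine containsFj_compl X hcl fun z hz => ?_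
    obtain ⟨_, ⟨p, hp, rfl⟩, rfl⟩ := hz
    have hne : Y.ptSubι η p ≠ η := fun he =>
      hp ((Y.ptSubι η).isEmbedding.injective (he.trans (ptSubι_genPt Y η).symm) ▸
        genPt_mem Y η W.2.1)
    have h1 : WeilCoh.pdim Y.scheme (Y.ptSubι η p) < WeilCoh.pdim Y.scheme η :=
      pdim_lt Y (specializes_iff_mem_closure.2 ((Piece.ofPt Y η).ι_mem p)) hne
    have h2 := codim_add_pdim Y η
    have h3 := codim_add_pdim Y (Y.ptSubι η p)
    have h4 := codim_map_eq φ hd (Y.ptSubι η p)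
    omega
  have hηU : φ η ∈ U := hU _ (by rw [codim_map_eq φ hd, hη]; omega)
  have hle : Y.ptSubι η ⁻¹ᵁ (φ ⁻¹ᵁ U) ≤ W.1 := fun p hp => by
    by_contra h
    exact hp ⟨_, ⟨p, h, rfl⟩, rfl⟩
  refine ⟨U, hU, hηU, T.pull ((Y.ptSub η).resLE hle
    ((vidx Y η (φ ⁻¹ᵁ U) hηU).2.2.trans W.2.2.symm)) M i n b0, fun z hz => ?_,
    pcls_res (W' := vidx Y η (φ ⁻¹ᵁ U) hηU) η hle b0⟩
  obtain ⟨z', _, hz'⟩ := not_not.1 hz
  exact ⟨z', hz'⟩

/-- Push-forward of a class at the generic point through the point `φ η` is push-forward along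
`φ` over an open. -/
theorem pushData_ptPush (hd : WeilCoh.dim Y.scheme + q = WeilCoh.dim X.scheme) {η : Y.scheme}
    {w : X.cdPt q} (hw : φ η = w.1) (hη : WeilCoh.codim Y.scheme η = 0)
    (P : T.PushData X q) (P' : T.PushData Y 0) (L : T.PtPush φ η w.1)
    {U : X.scheme.Opens} (hU : BMCoh.ContainsFj X q U) (hηU : φ η ∈ U) [IsProper (φ ∣_ U)]
    (M : A.Cat) (i n i₁ n₁ : ℤ) (h1 : i₁ = i + 2 * (q : ℤ)) (h1' : n₁ = n + (q : ℤ))
    (hi : i₁ = i + 2 * BMCoh.relCodim (Y.res (φ ⁻¹ᵁ U)).scheme (X.res U).scheme)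
    (hn : n₁ = n + BMCoh.relCodim (Y.res (φ ⁻¹ᵁ U)).scheme (X.res U).scheme)
    (h3 : i = i + 2 * ((0 : ℕ) : ℤ)) (h3' : n = n + ((0 : ℕ) : ℤ))
    (b : T.gp (ptp Y η (φ ⁻¹ᵁ U)).obj M i n) :
    ∃ α : T.gp (Y.res (φ ⁻¹ᵁ U)) M i n,
      P.cpt w M i n i₁ n₁ h1 h1' (L.cpt M i n (vcls T Y M η (φ ⁻¹ᵁ U) hηU i n b)) =
        fcls T X M i₁ n₁ U hU
          (T.push (X := Y.res (φ ⁻¹ᵁ U)) (Y := X.res U) (φ ∣_ U) M i n i₁ n₁ hi hn α) ∧
      P'.cpt ⟨η, hη⟩ M i n i n h3 h3' (vcls T Y M η (φ ⁻¹ᵁ U) hηU i n b) =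
        fcls T Y M i n (φ ⁻¹ᵁ U) (containsFj_preimage (k := 0) hd hU) α := by
  obtain ⟨w, hwc⟩ := w
  dsimp only at hw L
  subst hw
  have hUY : BMCoh.ContainsFj Y 0 (φ ⁻¹ᵁ U) := containsFj_preimage (k := 0) hd hU
  refine ⟨pushPt T Y M η hη (φ ⁻¹ᵁ U) hUY hηU i n i n h3 h3' b, ?_,
    pushData_vcls T Y M P' ⟨η, hη⟩ (φ ⁻¹ᵁ U) hUY hUY hηU i n i n h3 h3' b⟩
  obtain ⟨f, hf, hfι⟩ := exists_ptp_map φ η U
  have hc : BMCoh.relCodim (ptp Y η (φ ⁻¹ᵁ U)).obj.scheme (ptp X (φ η) U).obj.scheme = 0 := by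
    show (WeilCoh.dim (ptp X (φ η) U).obj.scheme : ℤ) - WeilCoh.dim (ptp Y η (φ ⁻¹ᵁ U)).obj.scheme = 0
    rw [dim_ptp X (φ η) hηU, dim_ptp Y η (show η ∈ φ ⁻¹ᵁ U from hηU), pdim_map_eq φ η, sub_self]
  have z2 : i = i + 2 * BMCoh.relCodim (ptp Y η (φ ⁻¹ᵁ U)).obj.scheme (ptp X (φ η) U).obj.scheme := by
    rw [hc]; ring
  have z1 : n = n + BMCoh.relCodim (ptp Y η (φ ⁻¹ᵁ U)).obj.scheme (ptp X (φ η) U).obj.scheme := by
    rw [hc]; ring
  haveI : @IsProper ((Y.ptSub η).res (vidx Y η (φ ⁻¹ᵁ U) hηU).1).scheme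
    ((X.ptSub (φ η)).res (vidx X (φ η) U hηU).1).scheme f := hf
  have hL : L.cpt M i n (vcls T Y M η (φ ⁻¹ᵁ U) hηU i n b) =
      vcls T X M (φ η) U hηU i n (T.push f M i n i n z2 z1 b) :=
    congr(($(L.cpt_spec M i n (vidx Y η (φ ⁻¹ᵁ U) hηU) (vidx X (φ η) U hηU) f (by
      show f ≫ (ptp X (φ η) U).ι = _
      rw [hfι]
      exact Category.assoc _ _ _) z2 z1)) b)
  refine (congrArg _ hL).trans
    ((pushData_vcls T X M P ⟨φ η, hwc⟩ U hU hU hηU i n i₁ n₁ h1 h1' _).trans (congrArg _ ?_))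
  have hcX := relCodim_ptp X hwc hηU hU
  have hcY := relCodim_ptp Y hη (show η ∈ φ ⁻¹ᵁ U from hηU) hUY
  have hct : BMCoh.relCodim (ptp Y η (φ ⁻¹ᵁ U)).obj.scheme (X.res U).scheme = q := by
    have h : BMCoh.relCodim (ptp Y η (φ ⁻¹ᵁ U)).obj.scheme (X.res U).scheme =
        BMCoh.relCodim (ptp Y η (φ ⁻¹ᵁ U)).obj.scheme (ptp X (φ η) U).obj.scheme +
          BMCoh.relCodim (ptp X (φ η) U).obj.scheme (X.res U).scheme := by
      simp only [BMCoh.relCodim]; ring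
    rw [h, hc, hcX, zero_add]
  let g1 : (ptp Y η (φ ⁻¹ᵁ U)).obj.scheme ⟶ (Y.res (φ ⁻¹ᵁ U)).scheme :=
    (ptp Y η (φ ⁻¹ᵁ U)).toOpen (φ ⁻¹ᵁ U) Set.inter_subset_right
  let g2 : (ptp X (φ η) U).obj.scheme ⟶ (X.res U).scheme :=
    (ptp X (φ η) U).toOpen U Set.inter_subset_right
  let g3 : (Y.res (φ ⁻¹ᵁ U)).scheme ⟶ (X.res U).scheme := φ ∣_ U
  haveI : IsProper g3 := inferInstanceAs (IsProper (φ ∣_ U))
  haveI : IsProper g1 := inferInstanceAs (IsProper ((ptp Y η (φ ⁻¹ᵁ U)).toOpen _ Set.inter_subset_right))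
  haveI : IsProper g2 := inferInstanceAs (IsProper ((ptp X (φ η) U).toOpen _ Set.inter_subset_right))
  have hcomp : f ≫ g2 = g1 ≫ g3 := by
    refine (cancel_mono U.ι).1 ?_
    show (f ≫ (ptp X (φ η) U).toOpen U Set.inter_subset_right) ≫ U.ι =
      ((ptp Y η (φ ⁻¹ᵁ U)).toOpen (φ ⁻¹ᵁ U) Set.inter_subset_right ≫ (φ ∣_ U)) ≫ U.ι
    refine ((Category.assoc _ _ _).trans ?_).trans (Category.assoc _ _ _).symm
    rw [morphismRestrict_ι, Piece.toOpen_ι]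
    exact hfι.trans ((Category.assoc _ _ _).symm.trans (congrArg (· ≫ φ) (Piece.toOpen_ι _ _ _))).symm
  have e1 := congr(($(T.push_comp f g2 M i n i n i₁ n₁ z2 z1 (by rw [hcX]; exact h1)
    (by rw [hcX]; exact h1') (by rw [hct]; exact h1) (by rw [hct]; exact h1'))) b)
  have e2 := congr(($(T.push_comp g1 g3 M i n i n i₁ n₁ (by rw [hcY]; exact h3) (by rw [hcY]; exact h3')
    hi hn (by rw [hct]; exact h1) (by rw [hct]; exact h1'))) b)
  refine e1.trans (Eq.trans ?_ e2.symm)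
  exact congr(($(push_congr T hcomp M i n i₁ n₁ (by rw [hct]; exact h1) (by rw [hct]; exact h1'))) b)

end Groth.BMCohLib
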