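import Groth.Agent.BMCoh.Derived

/-!
# Restriction to opens with small complement

Groups of reduced objects vanish in negative degrees; restriction to an open whose complement has
codimension `> j` is bijective in degrees `≤ 2j`.
-/

set_option autoImplicit false
universe u

open Topology TopologicalSpace AlgebraicGeometry CategoryTheory Limits Opposite

namespace Groth.BMCohLib

variable {V : ObjectProperty Scheme.{u}} [BMCoh.IsConstructible V]
variable {R : Type u} [CommRing R] {A : BMCoh.Coefs R}

section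

variable (X : BMCoh.Obj V)

theorem dim_piece_add_le {L : Set X.scheme} (P : Piece X L) {c : ℕ}
    (hc : ∀ z ∈ L, c ≤ WeilCoh.codim X.scheme z) [Nonempty P.obj.scheme] :
    WeilCoh.dim P.obj.scheme + c ≤ WeilCoh.dim X.scheme := by
  obtain ⟨p, hp⟩ := exists_pdim_eq_dim P.obj
  have h1 : WeilCoh.pdim X.scheme (P.ι p) = WeilCoh.dim P.obj.scheme :=
    (pdim_of_immersion X P.ι p).trans hp
  have := codim_add_pdim X (P.ι p)
  have := hc _ (P.ι_mem p)
  omega

theorem isIso_resTop : IsIso X.resTop.hom :=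
  inferInstanceAs (IsIso X.scheme.topIso.hom)

/-- The closed complement of an open. -/
def compl (U : X.scheme.Opens) : Closeds X.scheme := ⟨(U : Set X.scheme)ᶜ, U.isOpen.isClosed_compl⟩

theorem compl_eq_diff (U : X.scheme.Opens) :
    (compl X U : Set X.scheme) = ((⊤ : X.scheme.Opens) : Set X.scheme) \ U := by
  simp [compl, Set.sdiff_eq]

/-- The decomposition of `X.res ⊤` by an open and the reduced complement. -/
noncomputable def decompTop {j : ℕ} (U : X.scheme.Opens) (hU : BMCoh.ContainsFj X j U) :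
    BMCoh.Decomp (X.res ⊤) :=
  decompOf (le_top : U ≤ ⊤)
    ((dim_res_of_containsFj X hU).trans
      (dim_res_of_containsFj X (U := ⊤) (j := j) fun _ _ => trivial).symm)
    (Piece.ofClosed X (compl X U)) (compl_eq_diff X U)

theorem decompTop_codim {j : ℕ} (U : X.scheme.Opens) (hU : BMCoh.ContainsFj X j U)
    [Nonempty (decompTop X U hU).Z.scheme] :
    ((j : ℤ) + 1) ≤ (decompTop X U hU).codim := by
  haveI : Nonempty (Piece.ofClosed X (compl X U)).obj.scheme :=
    inferInstanceAs (Nonempty (decompTop X U hU).Z.scheme)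
  have h := dim_piece_add_le X (Piece.ofClosed X (compl X U)) (le_codim_of_compl X hU)
  show _ ≤ ((WeilCoh.dim ((⊤ : X.scheme.Opens) : Scheme.{u}) : ℤ) -
    WeilCoh.dim (Piece.ofClosed X (compl X U)).obj.scheme)
  rw [dim_res_of_containsFj X (U := (⊤ : X.scheme.Opens)) (j := j) fun _ _ => trivial]
  omega

end

variable (T : BMCoh.TheoryOn V R A) (M : A.Cat)

theorem gp_eq_zero_of_neg_aux (N : ℕ) : ∀ (Z : BMCoh.Obj V) [IsReduced Z.scheme],
    WeilCoh.dim Z.scheme ≤ N → ∀ (i n : ℤ), i < 0 → ∀ a : T.gp Z M i n, a = 0 := by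
  induction N using Nat.strong_induction_on with
  | _ N ih =>
    intro Z _ hd i n hi a
    haveI := isIso_resTop Z
    have hinj := (pull_bijective_of_isIso T.toPreTheory Z.resTop M i n).1
    suffices h : ∀ b : T.gp (Z.res ⊤) M i n, b = 0 from hinj ((h _).trans (map_zero _).symm)
    intro b
    have h0 := eq_zero_of_mem_span_genSet T.toPreTheory Z M i n i n (by simp) (by simp)
      (fun x _ => T.pt_vanish Z x M i n hi)
      (mem_span_genSet_zero T.toPreTheory Z M i n i n (by simp) (by simp)
        (fcls T.toPreTheory Z M i n (j := 0) ⊤ (fun _ _ => trivial) b))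
    obtain ⟨U, _, hU, hUb⟩ := (fcls_eq_zero_iff _ _).1 h0
    let D := decompTop Z U hU
    obtain ⟨b', hb'⟩ := (exact_pp_apply T.toPreTheory D M (i - 2 * D.codim) (n - D.codim) i n
      (by simp only [BMCoh.Decomp.codim]; ring) (by simp only [BMCoh.Decomp.codim]; ring) b).1 hUb
    rw [← hb']
    suffices hz : b' = 0 by rw [hz, map_zero]
    rcases isEmpty_or_nonempty D.Z.scheme with he | hne
    · exact (subsingleton_of_isEmpty T.toPreTheory D.Z M _ _).elim _ _
    · have hc : ((0 : ℕ) : ℤ) + 1 ≤ D.codim := decompTop_codim Z U hU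
      haveI : Nonempty (Piece.ofClosed Z (compl Z U)).obj.scheme := hne
      have hlt := dim_piece_add_le Z (Piece.ofClosed Z (compl Z U)) (c := 1) (le_codim_of_compl Z hU)
      haveI : IsReduced D.Z.scheme := (Piece.ofClosed Z (compl Z U)).reduced
      exact ih (WeilCoh.dim D.Z.scheme)
        (by show WeilCoh.dim (Piece.ofClosed Z (compl Z U)).obj.scheme < N; omega)
        D.Z le_rfl _ _ (by omega) b'

theorem gp_eq_zero_of_neg (Z : BMCoh.Obj V) [IsReduced Z.scheme] (i n : ℤ) (hi : i < 0)
    (a : T.gp Z M i n) : a = 0 :=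
  gp_eq_zero_of_neg_aux T M _ Z le_rfl i n hi a

theorem pull_decompTop_bijective (X : BMCoh.Obj V) {j : ℕ} (U : X.scheme.Opens)
    (hU : BMCoh.ContainsFj X j U) (i n : ℤ) (hi : i ≤ 2 * (j : ℤ)) :
    Function.Bijective (T.pull (decompTop X U hU).j M i n) := by
  let D := decompTop X U hU
  have key : ∀ k, k ≤ i + 1 - 2 * D.codim → IsZero (T.gp D.Z M k (n - D.codim)) := by
    intro k hk
    rcases isEmpty_or_nonempty D.Z.scheme with he | hne
    · haveI := subsingleton_of_isEmpty T.toPreTheory D.Z M k (n - D.codim)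
      exact ModuleCat.isZero_of_subsingleton _
    · have hc : (j : ℤ) + 1 ≤ D.codim := decompTop_codim X U hU
      haveI : IsReduced D.Z.scheme := (Piece.ofClosed X (compl X U)).reduced
      haveI : Subsingleton (T.gp D.Z M k (n - D.codim)) :=
        ⟨fun a b => (gp_eq_zero_of_neg T M D.Z k _ (by omega) a).trans
          (gp_eq_zero_of_neg T M D.Z k _ (by omega) b).symm⟩
      exact ModuleCat.isZero_of_subsingleton _
  exact pull_bijective_of_zero T.toPreTheory D M i n (key _ (by omega)) (key _ le_rfl)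

theorem toFj_bijective (X : BMCoh.Obj V) (j : ℕ) (i n : ℤ) (hi : i ≤ 2 * (j : ℤ)) :
    Function.Bijective ((T.toFj X j i n).app M) := by
  haveI := isIso_resTop X
  have h1 := pull_bijective_of_isIso T.toPreTheory X.resTop M i n
  suffices h : Function.Bijective (fcls T.toPreTheory X M i n (j := j) ⊤ fun _ _ => trivial) from
    h.comp h1
  constructor
  · rw [injective_iff_map_eq_zero]
    intro b hb
    obtain ⟨U, _, hU, hUb⟩ := (fcls_eq_zero_iff _ _).1 hb
    exact (pull_decompTop_bijective T M X U hU i n hi).1 (hUb.trans (map_zero _).symm)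
  · intro α
    obtain ⟨U, hU, b, rfl⟩ := fcls_exists α
    obtain ⟨b', hb'⟩ := (pull_decompTop_bijective T M X U hU i n hi).2 b
    refine ⟨b', ?_⟩
    rw [← fcls_rmap (le_top : U ≤ ⊤) hU (fun _ _ => trivial) b']
    exact congrArg _ hb'

theorem pull_bijective_of_codim_compl {U X : BMCoh.Obj V} (f : U ⟶ X) {j : ℕ}
    (hbig : ∀ x : X.scheme, x ∉ Set.range f.hom → j < WeilCoh.codim X.scheme x) (i n : ℤ)
    (hi : i ≤ 2 * (j : ℤ)) : Function.Bijective (T.pull f M i n) := by
  haveI := f.isOpenImmersion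
  let U0 : X.scheme.Opens := f.hom.opensRange
  have hU0 : BMCoh.ContainsFj X j U0 := fun y hy => by
    by_contra h
    have := hbig y h
    omega
  let e : U.scheme ⟶ (X.res U0).scheme := IsOpenImmersion.lift U0.ι f.hom (by
    rw [Scheme.Opens.range_ι]; rfl)
  haveI : IsIso e := by
    rw [show e = f.hom.isoOpensRange.hom from (cancel_mono U0.ι).1 (by simp [e, U0])]
    infer_instance
  let g : U ⟶ X.res U0 := ⟨e, inferInstance, BMCoh.dim_eq_of_iso (asIso e)⟩
  let jj : X.res U0 ⟶ X.res ⊤ := (decompTop X U0 hU0).j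
  have hjj : Function.Bijective (T.pull jj M i n) := pull_decompTop_bijective T M X U0 hU0 i n hi
  have hf : f = g ≫ jj ≫ X.resTop := BMCoh.Hom.ext (by
    show f.hom = e ≫ X.scheme.homOfLE (le_top : U0 ≤ ⊤) ≫ (⊤ : X.scheme.Opens).ι
    rw [Scheme.homOfLE_ι, IsOpenImmersion.lift_fac])
  haveI := isIso_resTop X
  have hcomp := ((pull_bijective_of_isIso T.toPreTheory g M i n).comp hjj).comp
      (pull_bijective_of_isIso T.toPreTheory X.resTop M i n)
  refine (funext fun a => ?_ : (⇑(T.pull f M i n) : _ → _) = _) ▸ hcomp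
  simp only [Function.comp_apply]
  rw [pull_comp_apply, pull_comp_apply, Category.assoc, ← hf]

end Groth.BMCohLib
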